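import Cfsg.Agent.Lib.PronormalFix.Defs

/-!
Blocks and suborbits for pronormal subgroups (S3399).
-/

namespace Cfsg.Agent.PronormalFix

open Equiv Equiv.Perm

variable {Ω : Type} [Fintype Ω] [DecidableEq Ω]

/-- `B` is a block of `G`. -/
def IsBlk (G : Subgroup (Perm Ω)) (B : Finset Ω) : Prop :=
  ∀ g ∈ G, ∀ x ∈ B, g x ∈ B → ∀ y ∈ B, g y ∈ B

/-- The stabiliser of a point in `G`. -/
def stab (G : Subgroup (Perm Ω)) (a : Ω) : Subgroup (Perm Ω) :=
  G ⊓ MulAction.stabilizer (Perm Ω) a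

omit [Fintype Ω] [DecidableEq Ω] in
lemma mem_stab {G : Subgroup (Perm Ω)} {a : Ω} {g : Perm Ω} : g ∈ stab G a ↔ g ∈ G ∧ g a = a :=
  Iff.rfl

omit [Fintype Ω] [DecidableEq Ω] in
lemma stab_le (G : Subgroup (Perm Ω)) (a : Ω) : stab G a ≤ G := inf_le_left

open Classical in
/-- The class of `x` in the block system of `B`. -/
noncomputable def cls (G : Subgroup (Perm Ω)) (B : Finset Ω) (x : Ω) : Finset Ω :=
  Finset.univ.filter (fun y => ∃ g ∈ G, g⁻¹ x ∈ B ∧ g⁻¹ y ∈ B)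

lemma mem_cls {G : Subgroup (Perm Ω)} {B : Finset Ω} {x y : Ω} :
    y ∈ cls G B x ↔ ∃ g ∈ G, g⁻¹ x ∈ B ∧ g⁻¹ y ∈ B := by
  simp [cls]

lemma IsBlk.cls_eq_image {G : Subgroup (Perm Ω)} {B : Finset Ω} (hB : IsBlk G B) {x : Ω}
    {g : Perm Ω} (hg : g ∈ G) (hx : g⁻¹ x ∈ B) : cls G B x = B.image g := by
  ext y
  rw [mem_cls, Finset.mem_image]
  constructor
  · rintro ⟨h, hh, h1, h2⟩
    refine ⟨g⁻¹ y, ?_, by simp⟩
    have := hB (g⁻¹ * h) (G.mul_mem (G.inv_mem hg) hh) (h⁻¹ x) h1 (by simpa using hx) (h⁻¹ y) h2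
    simpa using this
  · rintro ⟨z, hz, rfl⟩
    exact ⟨g, hg, hx, by simpa using hz⟩

lemma IsBlk.cls_card {G : Subgroup (Perm Ω)} (htr : IsTrans G) {B : Finset Ω} (hB : IsBlk G B)
    {a : Ω} (ha : a ∈ B) (x : Ω) : (cls G B x).card = B.card ∧ x ∈ cls G B x := by
  obtain ⟨g, hg, rfl⟩ := htr a x
  have h := hB.cls_eq_image hg (x := g a) (by simpa using ha)
  rw [h]
  exact ⟨Finset.card_image_of_injective _ g.injective, Finset.mem_image_of_mem _ ha⟩

lemma IsBlk.cls_eq_of_mem {G : Subgroup (Perm Ω)} {B : Finset Ω} (hB : IsBlk G B) {x y : Ω}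
    (h : y ∈ cls G B x) : cls G B y = cls G B x := by
  obtain ⟨g, hg, h1, h2⟩ := mem_cls.1 h
  rw [hB.cls_eq_image hg h1, hB.cls_eq_image hg h2]

lemma cls_map {G : Subgroup (Perm Ω)} {B : Finset Ω} {g : Perm Ω} (hg : g ∈ G) (x : Ω) :
    cls G B (g x) = (cls G B x).image g := by
  ext y
  rw [mem_cls, Finset.mem_image]
  constructor
  · rintro ⟨h, hh, h1, h2⟩
    refine ⟨g⁻¹ y, mem_cls.2 ⟨g⁻¹ * h, G.mul_mem (G.inv_mem hg) hh, ?_, ?_⟩, by simp⟩
    · simpa using h1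
    · simpa using h2
  · rintro ⟨z, hz, rfl⟩
    obtain ⟨h, hh, h1, h2⟩ := mem_cls.1 hz
    exact ⟨g * h, G.mul_mem hg hh, by simpa using h1, by simpa using h2⟩

/-- If the fixed point set is a union of blocks of size `b`, then `2f + b ≤ n`. -/
lemma Bound.blocks {n : ℕ} (hn : Bound n) (hcard : Fintype.card Ω = n) {G K : Subgroup (Perm Ω)}
    (htr : IsTrans G) (hKG : K ≤ G) (hpro : Pro G K) (hK : K ≠ ⊥) {B : Finset Ω}
    (hB : IsBlk G B) (hB2 : 2 ≤ B.card) (hF : (fixF K).Nonempty)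
    (hU : ∀ x ∈ fixF K, ∀ y ∈ cls G B x, y ∈ fixF K) :
    2 * (fixF K).card + B.card ≤ n := by
  classical
  obtain ⟨a, ha⟩ : B.Nonempty := Finset.card_pos.1 (by omega)
  have hmv : ∃ x, x ∈ movF K := by
    by_contra hne
    push Not at hne
    refine hK ((Subgroup.eq_bot_iff_forall _).2 fun k hk => Perm.ext fun x => ?_)
    by_contra hx
    exact hne x (mem_movF.2 ⟨k, hk, hx⟩)
  let cs : Finset (Finset Ω) := Finset.univ.image (cls G B)
  have hperm : ∀ g ∈ G, ∀ C : Finset Ω, C ∈ cs → C.image g ∈ cs := by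
    intro g hg C hC
    obtain ⟨x, -, rfl⟩ := Finset.mem_image.1 hC
    exact Finset.mem_image.2 ⟨g x, Finset.mem_univ _, cls_map hg x⟩
  let D := {C // C ∈ cs}
  let pf : G → D → D := fun g C => ⟨C.1.image (g : Perm Ω), hperm g g.2 C.1 C.2⟩
  let f : G →* Perm D :=
    { toFun := fun g =>
        { toFun := pf g
          invFun := pf g⁻¹
          left_inv := fun C => Subtype.ext (by simp [pf, Finset.image_image])
          right_inv := fun C => Subtype.ext (by simp [pf, Finset.image_image]) }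
      map_one' := by
        ext C; simp [pf]
      map_mul' := fun g h => by
        ext C; simp [pf] }
  have hfap : ∀ (g : G) (x : Ω), ((f g ⟨cls G B x, Finset.mem_image_of_mem _ (Finset.mem_univ x)⟩ : D) :
      Finset Ω) = cls G B ((g : Perm Ω) x) := fun g x => (cls_map g.2 x).symm
  have hfib : ∀ C ∈ cs, (Finset.univ.filter (fun x => cls G B x = C)).card = B.card := by
    intro C hC
    obtain ⟨x, -, rfl⟩ := Finset.mem_image.1 hC
    rw [← (hB.cls_card htr ha x).1]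
    congr 1
    ext y
    simp only [Finset.mem_filter, Finset.mem_univ, true_and]
    exact ⟨fun h => h ▸ (hB.cls_card htr ha y).2, hB.cls_eq_of_mem⟩
  have hcn : n = cs.card * B.card := by
    rw [← hcard, ← Finset.card_univ,
      Finset.card_eq_sum_card_fiberwise (f := cls G B) (t := cs)
        (fun x _ => Finset.mem_image_of_mem _ (Finset.mem_univ x)),
      Finset.sum_congr rfl hfib, Finset.sum_const, smul_eq_mul]
  have hDn : Fintype.card D < n := by
    simp only [D, Fintype.card_coe]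
    have : 1 ≤ cs.card := Finset.card_pos.2 ⟨_, Finset.mem_image_of_mem _ (Finset.mem_univ a)⟩
    nlinarith
  have hmov : ∃ k : G, (k : Perm Ω) ∈ K ∧ f k ≠ 1 := by
    by_contra hne
    push Not at hne
    let Ker : Subgroup (Perm Ω) := (f.ker).map G.subtype
    have hKer : ∀ w ∈ Ker, w ∈ G ∧ ∀ x, cls G B (w x) = cls G B x := by
      rintro _ ⟨w, hw, rfl⟩
      refine ⟨w.2, fun x => ?_⟩
      have := hfap w x
      rw [MonoidHom.mem_ker.1 hw] at this
      exact this.symm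
    obtain ⟨x, hx⟩ := hF
    obtain ⟨y, hy⟩ := hmv
    obtain ⟨g, hg, rfl⟩ := htr x y
    obtain ⟨w, hwG, hw, -, hwiff⟩ := hpro.exists_conj hKG hg
    have hwK : w ∈ Ker := by
      refine (sup_le (fun k hk => ⟨⟨k, hKG hk⟩, hne ⟨k, hKG hk⟩ hk, rfl⟩) ?_ :
        K ⊔ K.map (MulAut.conj g).toMonoidHom ≤ Ker) hw
      rintro _ ⟨k, hk, rfl⟩
      refine ⟨⟨g, hg⟩ * ⟨k, hKG hk⟩ * ⟨g, hg⟩⁻¹, ?_, rfl⟩
      show _ ∈ f.ker
      rw [MonoidHom.mem_ker, map_mul, map_mul, hne ⟨k, hKG hk⟩ hk, mul_one, map_inv, mul_inv_cancel]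
    have h1 : w⁻¹ (g x) ∈ fixF K := (hwiff (g x)).1 (by simpa using hx)
    have h2 : cls G B (g x) = cls G B (w⁻¹ (g x)) := by
      simpa using (hKer w hwK).2 (w⁻¹ (g x))
    refine not_mem_fixF.2 hy (hU _ h1 (g x) ?_)
    rw [← h2]
    exact (hB.cls_card htr ha (g x)).2
  obtain ⟨F', hF', hle⟩ := hn.of_hom hKG hpro hDn f
    (by
      rintro ⟨C, hC⟩ ⟨C', hC'⟩
      obtain ⟨x, -, rfl⟩ := Finset.mem_image.1 hC
      obtain ⟨y, -, rfl⟩ := Finset.mem_image.1 hC'
      obtain ⟨g, hg, rfl⟩ := htr x y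
      exact ⟨⟨g, hg⟩, Subtype.ext (hfap ⟨g, hg⟩ x)⟩) hmov
  have hfle : (fixF K).card ≤ F'.card * B.card := by
    calc (fixF K).card = ∑ C ∈ cs, ((fixF K).filter (fun x => cls G B x = C)).card :=
          Finset.card_eq_sum_card_fiberwise (fun x _ => Finset.mem_image_of_mem _ (Finset.mem_univ x))
      _ = ∑ C ∈ F'.map (Function.Embedding.subtype _), ((fixF K).filter (fun x => cls G B x = C)).card := by
          symm
          refine Finset.sum_subset (fun C hC => ?_) (fun C hC hCn => ?_)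
          · obtain ⟨c, -, rfl⟩ := Finset.mem_map.1 hC
            exact c.2
          · rw [Finset.card_eq_zero, Finset.filter_eq_empty_iff]
            intro x hx hxC
            refine hCn (Finset.mem_map.2 ⟨⟨C, hC⟩, (hF' _).2 fun k hk => Subtype.ext ?_, rfl⟩)
            subst hxC
            rw [hfap k x, mem_fixF.1 hx k hk]
      _ ≤ ∑ C ∈ F'.map (Function.Embedding.subtype _), B.card := by
          refine Finset.sum_le_sum fun C hC => ?_
          obtain ⟨c, -, rfl⟩ := Finset.mem_map.1 hC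
          refine le_of_le_of_eq (Finset.card_le_card ?_) (hfib _ c.2)
          exact Finset.filter_subset_filter _ (Finset.subset_univ _)
      _ = F'.card * B.card := by simp [Finset.card_map]
  simp only [D, Fintype.card_coe] at hle
  nlinarith

/-- The bound inside a block meeting the fixed point set. -/
lemma Bound.inBlock {n : ℕ} (hn : Bound n) (hcard : Fintype.card Ω = n) {G K : Subgroup (Perm Ω)}
    (htr : IsTrans G) (hKG : K ≤ G) (hpro : Pro G K) {B : Finset Ω}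
    (hB : IsBlk G B) (hne : B ≠ Finset.univ) {a : Ω} (ha : a ∈ B) (haF : a ∈ fixF K)
    {x : Ω} (hx : x ∈ B) (hxm : x ∈ movF K) :
    2 * (fixF K ∩ B).card + 1 ≤ B.card := by
  classical
  let M : Subgroup (Perm Ω) :=
    { carrier := {g | g ∈ G ∧ ∀ y, g y ∈ B ↔ y ∈ B}
      mul_mem' := fun {p q} hp hq => ⟨G.mul_mem hp.1 hq.1, fun y => by
        rw [Perm.mul_apply, hp.2 (q y), hq.2 y]⟩
      one_mem' := ⟨G.one_mem, fun y => Iff.rfl⟩
      inv_mem' := fun {p} hp => ⟨G.inv_mem hp.1, fun y => by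
        have := hp.2 (p⁻¹ y)
        simp only [Perm.inv_def, Equiv.apply_symm_apply] at this ⊢
        exact this.symm⟩ }
  have hst : ∀ g ∈ G, g a ∈ B → g ∈ M := by
    intro g hg hga
    refine ⟨hg, fun y => ?_⟩
    have him : B.image g = B := Finset.eq_of_subset_of_card_le
      (fun y hy => by obtain ⟨z, hz, rfl⟩ := Finset.mem_image.1 hy; exact hB g hg a ha hga z hz)
      (by rw [Finset.card_image_of_injective _ g.injective])
    conv_lhs => rw [← him, Finset.mem_image]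
    exact ⟨fun ⟨z, hz, hz2⟩ => g.injective hz2 ▸ hz, fun hy => ⟨y, hy, rfl⟩⟩
  have horb : orbF M a = B := by
    ext y
    rw [mem_orbF]
    constructor
    · rintro ⟨g, hg, rfl⟩
      exact (hg.2 a).2 ha
    · intro hy
      obtain ⟨g, hg, rfl⟩ := htr a y
      exact ⟨g, hst g hg hy, rfl⟩
  have hKM : K ≤ M := fun k hk => hst k (hKG hk) (by rw [mem_fixF.1 haF k hk]; exact ha)
  have := hn.orbit hKM (hpro.mono fun g hg => hg.1) a
    (by
      rw [horb, ← hcard]
      obtain ⟨z, hz⟩ : ∃ z, z ∉ B := by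
        by_contra! h
        exact hne (Finset.eq_univ_of_forall h)
      exact Finset.card_lt_univ_of_notMem hz)
    ⟨x, by rw [horb]; exact hx, hxm⟩
  rwa [horb] at this

/-- An element of `G` mapping the fixed set into itself on the level of a suborbit. -/
lemma trivial_suborbit {n : ℕ} (hn : Bound n) (hcard : Fintype.card Ω = n)
    {G K : Subgroup (Perm Ω)} (htr : IsTrans G) (hKG : K ≤ G) (hpro : Pro G K) (hK : K ≠ ⊥)
    {a b : Ω} (ha : a ∈ fixF K) (hab : b ≠ a) (horb : orbF (stab G a) b ⊆ fixF K) :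
    ∃ B : Finset Ω, IsBlk G B ∧ a ∈ B ∧ b ∈ B ∧ 2 ≤ B.card ∧ B ⊆ fixF K ∧
      2 * (fixF K).card + B.card ≤ n := by
  classical
  obtain ⟨c, hc, rfl⟩ := htr a b
  let L : Subgroup (Perm Ω) := stab G a ⊔ Subgroup.zpowers c
  have hLG : L ≤ G := sup_le (stab_le G a) (Subgroup.zpowers_le.2 hc)
  let P : Set (Perm Ω) := {g | g ∈ G ∧ ∀ h ∈ G, h a ∈ fixF K → h (g a) ∈ fixF K}
  have hPmul : ∀ g g', g ∈ P → g' ∈ P → g * g' ∈ P := fun g g' hg hg' =>
    ⟨G.mul_mem hg.1 hg'.1, fun h hh hha => hg'.2 (h * g) (G.mul_mem hh hg.1) (hg.2 h hh hha)⟩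
  have hPone : (1 : Perm Ω) ∈ P := ⟨G.one_mem, fun h _ hha => hha⟩
  have hPpow : ∀ g ∈ P, ∀ i : ℕ, g ^ i ∈ P := by
    intro g hg i
    induction i with
    | zero => simpa using hPone
    | succ i ih => rw [pow_succ]; exact hPmul _ _ ih hg
  let PS : Subgroup (Perm Ω) :=
    { carrier := P
      mul_mem' := fun {x y} => hPmul x y
      one_mem' := hPone
      inv_mem' := fun {g} hg => by
        have h1 : g ^ (orderOf g - 1) = g⁻¹ := by
          rw [eq_inv_iff_mul_eq_one, ← pow_succ, Nat.sub_add_cancel (orderOf_pos g),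
            pow_orderOf_eq_one]
        rw [← h1]; exact hPpow g hg _ }
  have hLP : L ≤ PS := by
    refine sup_le (fun g hg => ⟨(mem_stab.1 hg).1, fun h _ hha => ?_⟩) (Subgroup.zpowers_le.2 ⟨hc, ?_⟩)
    · rwa [(mem_stab.1 hg).2]
    · intro h hh hha
      obtain ⟨m, hm, hma, hmF⟩ := hpro.exists_fix_map hKG ha hh hha
      have h1 : m⁻¹ * h ∈ stab G a := mem_stab.2 ⟨G.mul_mem (G.inv_mem hm) hh, by
        simp [Perm.mul_apply, ← hma]⟩
      have h2 := horb (mem_orbF.2 ⟨_, h1, rfl⟩)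
      have := (hmF ((m⁻¹ * h) (c a))).2 h2
      simpa [Perm.mul_apply] using this
  let B := orbF L a
  have hblk : IsBlk G B := by
    intro g hg x hx hgx y hy
    obtain ⟨l, hl, rfl⟩ := mem_orbF.1 hx
    obtain ⟨l', hl', he⟩ := mem_orbF.1 hgx
    have h1 : l'⁻¹ * g * l ∈ stab G a := mem_stab.2 ⟨G.mul_mem (G.mul_mem (G.inv_mem (hLG hl')) hg) (hLG hl),
      by simp [Perm.mul_apply, ← he]⟩
    have h2 : g ∈ L := by
      have : g = l' * (l'⁻¹ * g * l) * l⁻¹ := by group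
      rw [this]
      exact L.mul_mem (L.mul_mem hl' ((le_sup_left : stab G a ≤ L) h1)) (L.inv_mem hl)
    exact orbF_map_mem h2 hy
  have haB : a ∈ B := self_mem_orbF L a
  have hbB : c a ∈ B := mem_orbF.2 ⟨c, (le_sup_right : Subgroup.zpowers c ≤ L) (Subgroup.mem_zpowers c), rfl⟩
  have hB2 : 2 ≤ B.card := Finset.one_lt_card.2 ⟨a, haB, c a, hbB, fun h => hab h.symm⟩
  have hU : ∀ x ∈ fixF K, ∀ y ∈ cls G B x, y ∈ fixF K := by
    intro x hx y hy
    obtain ⟨g, hg, h1, h2⟩ := mem_cls.1 hy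
    obtain ⟨l, hl, hl1⟩ := mem_orbF.1 h1
    obtain ⟨l', hl', hl2⟩ := mem_orbF.1 h2
    have := (hLP (L.mul_mem (L.inv_mem hl) hl')).2 (g * l) (G.mul_mem hg (hLG hl))
      (by simpa [Perm.mul_apply, hl1] using hx)
    simpa [Perm.mul_apply, hl2] using this
  refine ⟨B, hblk, haB, hbB, hB2, fun y hy => ?_,
    hn.blocks hcard htr hKG hpro hK hblk hB2 ⟨a, ha⟩ hU⟩
  exact hU a ha y (mem_cls.2 ⟨1, G.one_mem, by simpa using haB, by simpa using hy⟩)

open Classical in
/-- The orbits of `M` on a set. -/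
noncomputable def orbs (M : Subgroup (Perm Ω)) (W : Finset Ω) : Finset (Finset Ω) :=
  W.image (orbF M)

lemma mem_orbs {M : Subgroup (Perm Ω)} {W Δ : Finset Ω} (h : Δ ∈ orbs M W) {x : Ω} (hx : x ∈ Δ) :
    Δ = orbF M x := by
  classical
  obtain ⟨y, -, rfl⟩ := Finset.mem_image.1 h
  exact (orbF_eq hx).symm

lemma sum_orbs {M : Subgroup (Perm Ω)} {W : Finset Ω} (hW : ∀ x ∈ W, orbF M x ⊆ W) (P : Finset Ω) :
    (P ∩ W).card = ∑ Δ ∈ orbs M W, (P ∩ Δ).card := by
  classical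
  rw [Finset.card_eq_sum_card_fiberwise (f := orbF M) (t := orbs M W)
    (fun x hx => Finset.mem_image_of_mem _ (Finset.mem_inter.1 hx).2)]
  refine Finset.sum_congr rfl fun Δ hΔ => ?_
  congr 1
  ext x
  simp only [Finset.mem_filter, Finset.mem_inter]
  constructor
  · rintro ⟨⟨h1, -⟩, rfl⟩
    exact ⟨h1, self_mem_orbF M x⟩
  · rintro ⟨h1, h2⟩
    obtain ⟨y, hy, rfl⟩ := Finset.mem_image.1 hΔ
    exact ⟨⟨h1, hW y hy h2⟩, orbF_eq h2⟩

lemma orbF_stab_avoid {G : Subgroup (Perm Ω)} {a : Ω} :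
    ∀ x ∈ Finset.univ.erase a, orbF (stab G a) x ⊆ Finset.univ.erase a := by
  intro x hx y hy
  obtain ⟨g, hg, rfl⟩ := mem_orbF.1 hy
  refine Finset.mem_erase.2 ⟨fun h => Finset.ne_of_mem_erase hx ?_, Finset.mem_univ _⟩
  exact g.injective (h.trans (mem_stab.1 hg).2.symm)

/-- Point-stabiliser orbits: either a trivial one, or each satisfies the bound. -/
lemma suborbit_bound {n : ℕ} (hn : Bound n) (hcard : Fintype.card Ω = n)
    {G K : Subgroup (Perm Ω)} (hKG : K ≤ G) (hpro : Pro G K) {a : Ω} (ha : a ∈ fixF K)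
    (hnt : ∀ b, b ≠ a → ¬ orbF (stab G a) b ⊆ fixF K) :
    ∀ Δ ∈ orbs (stab G a) (Finset.univ.erase a), 2 * (fixF K ∩ Δ).card + 1 ≤ Δ.card := by
  classical
  intro Δ hΔ
  obtain ⟨x, hx, rfl⟩ := Finset.mem_image.1 hΔ
  obtain ⟨y, hy, hyn⟩ := Finset.not_subset.1 (hnt x (Finset.ne_of_mem_erase hx))
  refine hn.orbit (fun k hk => mem_stab.2 ⟨hKG hk, mem_fixF.1 ha k hk⟩) (hpro.mono (stab_le G a)) x ?_
    ⟨y, hy, not_mem_fixF.1 hyn⟩
  have h := Finset.card_le_card (orbF_stab_avoid (G := G) x hx)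
  rw [Finset.card_erase_of_mem (Finset.mem_univ a), Finset.card_univ, hcard] at h
  have : 0 < n := hcard ▸ Fintype.card_pos_iff.2 ⟨a⟩
  omega

/-- The suborbit count: `2(f-1) + t ≤ n - 1`. -/
lemma suborbit_count {n : ℕ} (hn : Bound n) (hcard : Fintype.card Ω = n)
    {G K : Subgroup (Perm Ω)} (hKG : K ≤ G) (hpro : Pro G K) {a : Ω} (ha : a ∈ fixF K)
    (hnt : ∀ b, b ≠ a → ¬ orbF (stab G a) b ⊆ fixF K) :
    2 * (fixF K).card + (orbs (stab G a) (Finset.univ.erase a)).card ≤ n + 1 := by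
  classical
  have h1 := sum_orbs (M := stab G a) orbF_stab_avoid (fixF K)
  have h2 := sum_orbs (M := stab G a) (orbF_stab_avoid (a := a)) Finset.univ
  have h3 : (fixF K ∩ Finset.univ.erase a).card + 1 = (fixF K).card := by
    rw [Finset.inter_erase, Finset.inter_univ]
    exact Finset.card_erase_add_one ha
  have h4 : (Finset.univ ∩ Finset.univ.erase a).card + 1 = n := by
    rw [Finset.univ_inter, Finset.card_erase_add_one (Finset.mem_univ a), Finset.card_univ, hcard]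
  have h5 : ∑ Δ ∈ orbs (stab G a) (Finset.univ.erase a), (2 * (fixF K ∩ Δ).card + 1)
      ≤ ∑ Δ ∈ orbs (stab G a) (Finset.univ.erase a), (Finset.univ ∩ Δ).card :=
    Finset.sum_le_sum fun Δ hΔ => by
      rw [Finset.univ_inter]; exact suborbit_bound hn hcard hKG hpro ha hnt Δ hΔ
  rw [Finset.sum_add_distrib, ← Finset.mul_sum, ← h1, ← h2, Finset.sum_const, smul_eq_mul,
    mul_one] at h5
  omega

end Cfsg.Agent.PronormalFix
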