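import Mathlib

/-!
Polynomial certificates for the moment inequality of S3399.
-/

namespace Cfsg.Agent.PronormalFix

/-- Coefficients of a test polynomial in `(t, s)`. -/
structure Cf where
  c : ℤ
  a0 : ℤ
  a1 : ℤ
  a2 : ℤ
  b0 : ℤ
  b1 : ℤ
  b2 : ℤ
  b3 : ℤ
  b4 : ℤ

/-- Value of the test polynomial. -/
def Cf.val (f : Cf) (t s : ℤ) : ℤ :=
  f.c * s ^ 2 + s * (f.a0 + f.a1 * t + f.a2 * t ^ 2)
    + f.b0 + f.b1 * t + f.b2 * t ^ 2 + f.b3 * t ^ 3 + f.b4 * t ^ 4

/-- Expectation of the test polynomial, times `(n)_4`. -/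
def Cf.eval (f : Cf) (n d ca cb : ℤ) : ℤ :=
  let EX := d * (d * (n - d) * ((n - 2) * (n - 3)))
  let A := d * ((d * (n - d) * (n - 2) + (d - 2) * (d * (d - 1) * (n - d))) * (n - 3))
  let B := d * (d * (n - d) * (n - 2) * (n - 3) + 3 * (d - 2) * (d * (d - 1) * (n - d) * (n - 3))
    + (d - 2) * (d - 3) * (d * (d - 1) * (d - 2) * (n - d)))
  let Xa := d * (d * (n - d) * ((n - 2) * (n - 3)) + ca * (d * (d - 1) * ((n - d) * (n - d - 1))))
  let Xb := d * (d * (n - d) * ((n - 2) * (n - 3)) + cb * (d * (d - 1) * ((n - d) * (n - d - 1))))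
  let XY := d ^ 2 * ((n - d) ^ 2 * (n - 3) + (d - 2) ^ 2 * (n - d) ^ 2)
  let D1 := d * d * ((n - 1) * (n - 2) * (n - 3))
  let D2 := (d * (d - 1)) ^ 2 * ((n - 2) * (n - 3))
  let D3 := (d * (d - 1) * (d - 2)) ^ 2 * (n - 3)
  let D4 := (d * (d - 1) * (d - 2) * (d - 3)) ^ 2
  f.c * (Xa + Xb + 2 * XY) + 2 * f.a0 * EX + 2 * f.a1 * A + 2 * f.a2 * B
    + f.b0 * (n * (n - 1) * (n - 2) * (n - 3)) + f.b1 * D1 + f.b2 * (D2 + D1)
    + f.b3 * (D3 + 3 * D2 + D1) + f.b4 * (D4 + 6 * D3 + 7 * D2 + D1)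

/-- The possible values of overlap `t` and boundary `s`. -/
abbrev Allowed (d j mp t s : ℕ) : Prop :=
  t ≤ d ∧ (j = 0 → 1 ≤ t) ∧ ((d ≤ t + s ∧ s ≤ 2 * t ∧ s + 2 * t ≤ 2 * d) ∨ (s = 0 ∧ mp ∣ t))

/-- There is a test polynomial refuting the configuration. -/
def HasCert (d j : ℕ) (ca cb : ℤ) (mp : ℕ) : Prop :=
  ∃ f : Cf, (∀ t s, Allowed d j mp t s → 0 ≤ f.val t s) ∧ f.eval (2 * d + j) d ca cb < 0

lemma hasCert_of_bounded {d j : ℕ} {ca cb : ℤ} {mp : ℕ} (f : Cf)
    (h : ∀ t < d + 1, ∀ s < 2 * d + 1, Allowed d j mp t s → 0 ≤ f.val t s)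
    (he : f.eval (2 * d + j) d ca cb < 0) : HasCert d j ca cb mp := by
  refine ⟨f, fun t s hts => h t ?_ s ?_ hts, he⟩
  · have := hts.1; omega
  · rcases hts.2.2 with ⟨-, h1, h2⟩ | ⟨h1, -⟩ <;> omega

lemma cert_odd0_5 : HasCert 5 0 2 2 1 :=
  hasCert_of_bounded ⟨2500, (-921500), 750000, (-149000), (-776752), 1398262, (-750000), 130952, (-2329)⟩ (by decide +kernel) (by decide +kernel)

lemma cert_odd2_5 : HasCert 5 2 2 2 1 :=
  hasCert_of_bounded ⟨2500, (-912500), 750000, (-150000), 108, (-135417), 271181, (-150000), 25069⟩ (by decide +kernel) (by decide +kernel)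

lemma cert_odd0_6 : HasCert 6 0 3 3 3 :=
  hasCert_of_bounded ⟨3600, 1880032, (-1080000), 149908, (-9623549), 6259740, (-1080000), (-8870), 9924⟩ (by decide +kernel) (by decide +kernel)

lemma cert_odd2_6 : HasCert 6 2 3 3 1 :=
  hasCert_of_bounded ⟨2, (-42), 27, (-5), 0, (-6), 11, (-6), 1⟩ (by decide +kernel) (by decide +kernel)

lemma cert_odd0_7 : HasCert 7 0 4 4 1 :=
  hasCert_of_bounded ⟨98, (-52038), 29400, (-4116), (-19076), 21697, 316, (-3537), 600⟩ (by decide +kernel) (by decide +kernel)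

lemma cert_odd2_7 : HasCert 7 2 4 4 1 :=
  hasCert_of_bounded ⟨4900, (-2800826), 1470000, (-183697), 505230, (-1092253), 778331, (-210000), 18948⟩ (by decide +kernel) (by decide +kernel)

lemma cert_odd0_9 : HasCert 9 0 6 6 3 :=
  hasCert_of_bounded ⟨18, 324, (-207), 21, (-3510), 1803, (-211), (-3), 1⟩ (by decide +kernel) (by decide +kernel)

lemma cert_odd2_9 : HasCert 9 2 6 6 1 :=
  hasCert_of_bounded ⟨8100, (-142598), 53749, (-7472), 0, 34378, (-31003), 7692, (-392)⟩ (by decide +kernel) (by decide +kernel)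

lemma cert_odd0_10 : HasCert 10 0 7 7 5 :=
  hasCert_of_bounded ⟨10000, 8970613, (-3000000), 244069, (-84610692), 30000000, (-1802056), (-300000), 27460⟩ (by decide +kernel) (by decide +kernel)

lemma cert_odd2_10 : HasCert 10 2 7 7 1 :=
  hasCert_of_bounded ⟨10000, (-7074737), 2936184, (-300000), 6, 343421, 576711, (-279079), 30000⟩ (by decide +kernel) (by decide +kernel)

lemma cert_odd0_11 : HasCert 11 0 8 8 11 :=
  hasCert_of_bounded ⟨12100, 38310392, (-2707804), (-330000), (-347329221), 39930000, 3630000, (-330000), (-2215)⟩ (by decide +kernel) (by decide +kernel)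

lemma cert_odd2_11 : HasCert 11 2 8 8 1 :=
  hasCert_of_bounded ⟨12100, (-357729), 123486, (-13807), 0, 111596, (-68871), 11501, (-314)⟩ (by decide +kernel) (by decide +kernel)

lemma cert_odd2_12 : HasCert 12 2 9 9 1 :=
  hasCert_of_bounded ⟨14400, (-230811), 52354, (-5863), 1844023, (-1418811), 373577, (-40114), 1646⟩ (by decide +kernel) (by decide +kernel)

lemma cert_odd0_13 : HasCert 13 0 10 10 13 :=
  hasCert_of_bounded ⟨16900, 29993402, (-191199), (-390000), (-465444145), 65910000, 689885, (-390000), 19226⟩ (by decide +kernel) (by decide +kernel)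

lemma cert_odd2_13 : HasCert 13 2 10 10 1 :=
  hasCert_of_bounded ⟨16900, (-1252478), 387761, (-32861), 150222, (-283544), 168061, (-37556), 2817⟩ (by decide +kernel) (by decide +kernel)

lemma cert_odd0_14 : HasCert 14 0 11 11 7 :=
  hasCert_of_bounded ⟨19600, 22884400, (-5880000), 371000, (-279142870), 80305867, (-5880000), (-87967), 14700⟩ (by decide +kernel) (by decide +kernel)

lemma cert_odd2_14 : HasCert 14 2 11 11 1 :=
  hasCert_of_bounded ⟨19600, (-775478), 206879, (-17526), 0, 23861, (-5170), (-2130), 483⟩ (by decide +kernel) (by decide +kernel)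

lemma cert_odd0_15 : HasCert 15 0 12 12 1 :=
  hasCert_of_bounded ⟨225000, (-2837195), 248127, (-34691), 36451705, (-27384538), 6902679, (-681664), 24499⟩ (by decide +kernel) (by decide +kernel)

lemma cert_odd2_15 : HasCert 15 2 12 12 1 :=
  hasCert_of_bounded ⟨22500, (-476591), 91227, (-8182), 5866689, (-3568500), 756205, (-66682), 2250⟩ (by decide +kernel) (by decide +kernel)

lemma cert_odd0_17 : HasCert 17 0 14 14 1 :=
  hasCert_of_bounded ⟨28900, (-502987), 62881, (-6098), 8939157, (-5357869), 1105790, (-92798), 2890⟩ (by decide +kernel) (by decide +kernel)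

lemma cert_odd2_17 : HasCert 17 2 14 14 1 :=
  hasCert_of_bounded ⟨28900, (-621763), 97434, (-8257), 10957229, (-6064046), 1177056, (-94957), 2890⟩ (by decide +kernel) (by decide +kernel)

lemma cert_odd0_18 : HasCert 18 0 15 15 1 :=
  hasCert_of_bounded ⟨32400, (-493833), 42405, (-4379), 14720993, (-7912080), 1485273, (-114539), 3240⟩ (by decide +kernel) (by decide +kernel)

lemma cert_odd2_18 : HasCert 18 2 15 15 1 :=
  hasCert_of_bounded ⟨32400, (-816409), 131202, (-9989), 17805803, (-9096448), 1643004, (-125189), 3600⟩ (by decide +kernel) (by decide +kernel)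

lemma cert_odd0_19 : HasCert 19 0 16 16 1 :=
  hasCert_of_bounded ⟨36100, (-772572), 99838, (-8021), 19228322, (-9635987), 1689219, (-122934), 3341⟩ (by decide +kernel) (by decide +kernel)

lemma cert_odd2_19 : HasCert 19 2 16 16 1 :=
  hasCert_of_bounded ⟨36100, (-791561), 107093, (-8708), 20589936, (-10354903), 1825536, (-134065), 3687⟩ (by decide +kernel) (by decide +kernel)

lemma cert_odd0_20 : HasCert 20 0 17 17 1 :=
  hasCert_of_bounded ⟨40000, (-619478), 40555, (-4424), 22519266, (-11175780), 1926902, (-136024), 3514⟩ (by decide +kernel) (by decide +kernel)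

lemma cert_odd2_20 : HasCert 20 2 17 17 1 :=
  hasCert_of_bounded ⟨40000, (-1274921), 201814, (-13424), 36888678, (-16271202), 2568073, (-173424), 4444⟩ (by decide +kernel) (by decide +kernel)

lemma cert_odd0_21 : HasCert 21 0 18 18 1 :=
  hasCert_of_bounded ⟨44100, (-999355), 115290, (-8435), 42965895, (-18705628), 2886853, (-187653), 4533⟩ (by decide +kernel) (by decide +kernel)

lemma cert_odd2_21 : HasCert 21 2 18 18 1 :=
  hasCert_of_bounded ⟨588, (-16492), 2256, (-152), 475104, (-204890), 31271, (-2014), 49⟩ (by decide +kernel) (by decide +kernel)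

lemma cert_mix12 : HasCert 12 0 10 9 6 :=
  hasCert_of_bounded ⟨14400, 14436850, (-4320000), 317443, (-152841499), 51202708, (-4320000), (-88339), 15607⟩ (by decide +kernel) (by decide +kernel)

lemma cert_two2_4 : HasCert 4 2 2 2 1 :=
  hasCert_of_bounded ⟨8, (-7307), 2400, 600, 0, (-900), 1425, (-600), 75⟩ (by decide +kernel) (by decide +kernel)

lemma cert_two2_6 : HasCert 6 2 4 4 2 :=
  hasCert_of_bounded ⟨18, 198, (-189), 27, 0, (-2694), 2767, (-900), 95⟩ (by decide +kernel) (by decide +kernel)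

lemma cert_two2_8 : HasCert 8 2 6 6 1 :=
  hasCert_of_bounded ⟨6400, (-3533253), 1877966, (-240000), 0, (-416987), 629837, (-240000), 27151⟩ (by decide +kernel) (by decide +kernel)

lemma cert_two2_10 : HasCert 10 2 8 8 1 :=
  hasCert_of_bounded ⟨10000, (-7074737), 2936184, (-300000), 6, 343421, 576711, (-279079), 30000⟩ (by decide +kernel) (by decide +kernel)

lemma cert_two2_12 : HasCert 12 2 10 10 2 :=
  hasCert_of_bounded ⟨14400, (-122400), 11700, (-2475), 1880992, (-1813500), 562275, (-68737), 3037⟩ (by decide +kernel) (by decide +kernel)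

lemma cert_two2_14 : HasCert 14 2 12 12 1 :=
  hasCert_of_bounded ⟨19600, (-775478), 206879, (-17526), 0, 23861, (-5170), (-2130), 483⟩ (by decide +kernel) (by decide +kernel)

lemma cert_two2_16 : HasCert 16 2 14 14 1 :=
  hasCert_of_bounded ⟨25600, (-1555006), 384582, (-28121), 62061, (-119079), 72727, (-17067), 1358⟩ (by decide +kernel) (by decide +kernel)

lemma cert_two2_18 : HasCert 18 2 16 16 1 :=
  hasCert_of_bounded ⟨32400, (-816409), 131202, (-9989), 17805803, (-9096448), 1643004, (-125189), 3600⟩ (by decide +kernel) (by decide +kernel)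

lemma cert_two2_20 : HasCert 20 2 18 18 1 :=
  hasCert_of_bounded ⟨40000, (-1274921), 201814, (-13424), 36888678, (-16271202), 2568073, (-173424), 4444⟩ (by decide +kernel) (by decide +kernel)

lemma cert_two4_4 : HasCert 4 4 2 2 1 :=
  hasCert_of_bounded ⟨4, (-4066), 1200, 300, 0, (-1200), 1200, 75, (-75)⟩ (by decide +kernel) (by decide +kernel)

lemma cert_two6_4 : HasCert 4 6 2 2 1 :=
  hasCert_of_bounded ⟨4, (-4066), 1200, 300, 0, (-1200), 1200, 75, (-75)⟩ (by decide +kernel) (by decide +kernel)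

lemma cert_two4_6 : HasCert 6 4 4 4 1 :=
  hasCert_of_bounded ⟨3, (-1062), 825, (-150), 0, (-150), 275, (-150), 25⟩ (by decide +kernel) (by decide +kernel)

/-- The linear test polynomial. -/
def linCf (d : ℤ) : Cf := ⟨1, -d, 1, 0, 0, 0, 0, 0, 0⟩

lemma linCf_nonneg {d j mp t s : ℕ} (h : Allowed d j mp t s) : 0 ≤ (linCf d).val t s := by
  have e : (linCf d).val t s = (s : ℤ) * ((t : ℤ) + s - d) := by simp only [linCf, Cf.val]; ring
  rw [e]
  rcases h.2.2 with ⟨h1, -, -⟩ | ⟨h1, -⟩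
  · exact mul_nonneg (by positivity) (by omega)
  · simp [h1]

lemma cert_lin {d j : ℕ} (hd : 7 ≤ d) (hj : 4 ≤ j) {c : ℤ} (hc : c ≤ (d : ℤ) - 2) (mp : ℕ) :
    HasCert d j c c mp := by
  refine ⟨linCf d, fun t s h => linCf_nonneg h, ?_⟩
  have h2 : (linCf d).eval (2 * d + j) d ((d : ℤ) - 2) ((d : ℤ) - 2) < 0 := by
    obtain ⟨e, rfl⟩ := Nat.exists_eq_add_of_le hd
    obtain ⟨i, rfl⟩ := Nat.exists_eq_add_of_le hj
    push_cast
    generalize he : (e : ℤ) = e'
    generalize hi : (i : ℤ) = i'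
    have he0 : 0 ≤ e' := by omega
    have hi0 : 0 ≤ i' := by omega
    calc _ = -(10780 + 48412 * i' + 8624 * i'^2 + 392 * i'^3 + 18074 * e' + 36666 * e' * i' + 5502 * e' * i'^2 + 210 * e' * i'^3 + 6856 * e'^2 + 10256 * e'^2 * i' + 1240 * e'^2 * i'^2 + 36 * e'^2 * i'^3 + 1076 * e'^3 + 1348 * e'^3 * i' + 118 * e'^3 * i'^2 + 2 * e'^3 * i'^3 + 76 * e'^4 + 84 * e'^4 * i' + 4 * e'^4 * i'^2 + 2 * e'^5 + 2 * e'^5 * i') := by
          simp only [linCf, Cf.eval]; ring
      _ < 0 := neg_lt_zero.2 (by positivity)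
  refine lt_of_le_of_lt ?_ h2
  simp only [linCf, Cf.eval, one_mul]
  gcongr
  all_goals first
    | assumption
    | positivity
    | (apply mul_nonneg <;> nlinarith)

lemma cert_lin4 {j : ℕ} (hj : 8 ≤ j) (mp : ℕ) : HasCert 4 j 2 2 mp := by
  refine ⟨linCf 4, fun t s h => linCf_nonneg (d := 4) h, ?_⟩
  obtain ⟨i, rfl⟩ := Nat.exists_eq_add_of_le hj
  push_cast
  generalize hi : (i : ℤ) = i'
  have hi0 : 0 ≤ i' := by omega
  calc _ = -(6144 + 5504 * i' + 800 * i'^2 + 32 * i'^3) := by simp only [linCf, Cf.eval]; ring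
    _ < 0 := neg_lt_zero.2 (by positivity)

lemma cert_lin6 {j : ℕ} (hj : 6 ≤ j) (mp : ℕ) : HasCert 6 j 4 4 mp := by
  refine ⟨linCf 6, fun t s h => linCf_nonneg (d := 6) h, ?_⟩
  obtain ⟨i, rfl⟩ := Nat.exists_eq_add_of_le hj
  push_cast
  generalize hi : (i : ℤ) = i'
  have hi0 : 0 ≤ i' := by omega
  calc _ = -(58752 + 40320 * i' + 5544 * i'^2 + 216 * i'^3) := by simp only [linCf, Cf.eval]; ring
    _ < 0 := neg_lt_zero.2 (by positivity)

lemma cert_lin5o {j : ℕ} (hj : 4 ≤ j) (mp : ℕ) : HasCert 5 j 2 2 mp := by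
  refine ⟨linCf 5, fun t s h => linCf_nonneg (d := 5) h, ?_⟩
  obtain ⟨i, rfl⟩ := Nat.exists_eq_add_of_le hj
  push_cast
  generalize hi : (i : ℤ) = i'
  have hi0 : 0 ≤ i' := by omega
  calc _ = -(9000 + 10000 * i' + 1900 * i'^2 + 100 * i'^3) := by simp only [linCf, Cf.eval]; ring
    _ < 0 := neg_lt_zero.2 (by positivity)

lemma cert_lin6o {j : ℕ} (hj : 4 ≤ j) (mp : ℕ) : HasCert 6 j 3 3 mp := by
  refine ⟨linCf 6, fun t s h => linCf_nonneg (d := 6) h, ?_⟩
  obtain ⟨i, rfl⟩ := Nat.exists_eq_add_of_le hj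
  push_cast
  generalize hi : (i : ℤ) = i'
  have hi0 : 0 ≤ i' := by omega
  calc _ = -(30960 + 27576 * i' + 4608 * i'^2 + 216 * i'^3) := by simp only [linCf, Cf.eval]; ring
    _ < 0 := neg_lt_zero.2 (by positivity)

/-- The uniform test polynomial. -/
def uniCf (d : ℤ) : Cf :=
  ⟨320 * d ^ 2, -296 * d ^ 3, 568 * d ^ 2, -1008 * d, 461 * d ^ 4, -4456 * d ^ 3, 15084 * d ^ 2,
    -21056 * d, 10880⟩

private lemma uni_const (u : ℝ) :
    0 ≤ 13/80+69/80*u+(-9/16)*u^2+11/5*u^3+34*u^4 := by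
  nlinarith [sq_nonneg (u + 7/32), sq_nonneg (u^2 - 49/1024), sq_nonneg (u*(u+7/32)), sq_nonneg u]

private lemma uni_quad {u v : ℝ} (h0 : -1/2 ≤ u) (h1 : u ≤ 1/2) (hv : 1/2 - u ≤ v) :
    0 ≤ v^2 + v*(-33/40 + (-11/8)*u + (-63/20)*u^2)
      + (13/80+69/80*u+(-9/16)*u^2+11/5*u^3+34*u^4) := by
  rcases le_or_gt u (1/25) with h | h
  · have hq : 0 ≤ (1/2-u)^2 + (-33/40 + (-11/8)*u + (-63/20)*u^2)*(1/2-u)
        + (13/80+69/80*u+(-9/16)*u^2+11/5*u^3+34*u^4) := by
      nlinarith [sq_nonneg u, sq_nonneg (u+63/800), sq_nonneg (u*(u+63/800)), sq_nonneg (u^2)]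
    have hs : 0 ≤ 2*(1/2-u) + (-33/40 + (-11/8)*u + (-63/20)*u^2) := by nlinarith
    nlinarith [mul_nonneg (sub_nonneg.2 hv) hs, sq_nonneg (v - (1/2 - u))]
  · have hd : 0 ≤ 4*(13/80+69/80*u+(-9/16)*u^2+11/5*u^3+34*u^4)
        - (-33/40 + (-11/8)*u + (-63/20)*u^2)^2 := by
      nlinarith [sq_nonneg (u - 143/1000), sq_nonneg (u^2 - (143/1000)^2),
        sq_nonneg ((u-143/1000)*u), mul_nonneg (sub_nonneg.2 h.le) (sq_nonneg (u - 143/1000)),
        mul_nonneg (sub_nonneg.2 h1) (sq_nonneg (u - 143/1000))]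
    nlinarith [sq_nonneg (2*v + (-33/40 + (-11/8)*u + (-63/20)*u^2))]

lemma uniCf_nonneg {d j mp t s : ℕ} (hd : 1 ≤ d) (h : Allowed d j mp t s) :
    0 ≤ (uniCf d).val t s := by
  have hD : (0 : ℝ) < (d : ℝ) := by exact_mod_cast hd
  set u : ℝ := (t : ℝ) / d - 1/2 with hu
  set v : ℝ := (s : ℝ) / d with hv
  have e : ((uniCf d).val t s : ℝ) = 320 * (d : ℝ) ^ 4 *
      (v^2 + v*(-33/40 + (-11/8)*u + (-63/20)*u^2)
        + (13/80+69/80*u+(-9/16)*u^2+11/5*u^3+34*u^4)) := by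
    simp only [uniCf, Cf.val, hu, hv]
    push_cast
    field_simp
    ring
  have hpos : (0 : ℝ) ≤ v^2 + v*(-33/40 + (-11/8)*u + (-63/20)*u^2)
      + (13/80+69/80*u+(-9/16)*u^2+11/5*u^3+34*u^4) := by
    rcases h.2.2 with ⟨h1, -, -⟩ | ⟨h1, -⟩
    · have t1 : (t : ℝ) ≤ d := by exact_mod_cast h.1
      have t2 : (d : ℝ) ≤ (t : ℝ) + s := by exact_mod_cast h1
      have h0 : (0 : ℝ) ≤ (t : ℝ) / d := by positivity
      have h2 : (t : ℝ) / d ≤ 1 := (div_le_one hD).2 t1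
      have h3 : (1 : ℝ) ≤ (t : ℝ) / d + (s : ℝ) / d := by
        rw [← add_div]; exact (one_le_div hD).2 t2
      exact uni_quad (by rw [hu]; linarith) (by rw [hu]; linarith) (by rw [hu, hv]; linarith)
    · have hv0 : v = 0 := by rw [hv, h1]; simp
      rw [hv0]
      have := uni_const u
      linarith
  have : (0 : ℝ) ≤ ((uniCf d).val t s : ℝ) := by rw [e]; positivity
  exact_mod_cast this

lemma cert_u0 {d : ℕ} (hd : 22 ≤ d) (mp : ℕ) :
    HasCert d 0 ((d : ℤ) - 3) ((d : ℤ) - 3) mp := by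
  refine ⟨uniCf d, fun t s h => uniCf_nonneg (by omega) h, ?_⟩
  obtain ⟨e, rfl⟩ := Nat.exists_eq_add_of_le hd
  push_cast
  generalize he : (e : ℤ) = e'
  have he0 : 0 ≤ e' := by omega
  calc _ = -(234044232576 + 116450020544 * e' + 21804641408 * e'^2 + 2116155360 * e'^3 + 118004600 * e'^4 + 3832988 * e'^5 + 67692 * e'^6 + 504 * e'^7) := by simp only [uniCf, Cf.eval]; ring
    _ < 0 := neg_lt_zero.2 (by positivity)

lemma cert_u2 {d : ℕ} (hd : 22 ≤ d) (mp : ℕ) :
    HasCert d 2 ((d : ℤ) - 3) ((d : ℤ) - 3) mp := by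
  refine ⟨uniCf d, fun t s h => uniCf_nonneg (by omega) h, ?_⟩
  obtain ⟨e, rfl⟩ := Nat.exists_eq_add_of_le hd
  push_cast
  generalize he : (e : ℤ) = e'
  have he0 : 0 ≤ e' := by omega
  calc _ = -(2020165834368 + 674823645760 * e' + 95647211648 * e'^2 + 7465006880 * e'^3 + 346782824 * e'^4 + 9594740 * e'^5 + 146468 * e'^6 + 952 * e'^7) := by simp only [uniCf, Cf.eval]; ring
    _ < 0 := neg_lt_zero.2 (by positivity)

lemma cert_u2t {d : ℕ} (hd : 22 ≤ d) (mp : ℕ) :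
    HasCert d 2 ((d : ℤ) - 2) ((d : ℤ) - 2) mp := by
  refine ⟨uniCf d, fun t s h => uniCf_nonneg (by omega) h, ?_⟩
  obtain ⟨e, rfl⟩ := Nat.exists_eq_add_of_le hd
  push_cast
  generalize he : (e : ℤ) = e'
  have he0 : 0 ≤ e' := by omega
  calc _ = -(282248681088 + 128105919040 * e' + 21956546688 * e'^2 + 1948293920 * e'^3 + 99046504 * e'^4 + 2921460 * e'^5 + 46628 * e'^6 + 312 * e'^7) := by simp only [uniCf, Cf.eval]; ring
    _ < 0 := neg_lt_zero.2 (by positivity)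

end Cfsg.Agent.PronormalFix
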