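import Mathlib

/-!
Pronormal subgroups of finite permutation groups: basic definitions for S3399.
-/

namespace Cfsg.Agent.PronormalFix

open Equiv Equiv.Perm

variable {Ω : Type}

/-- Transitivity of a permutation group. -/
def IsTrans (G : Subgroup (Perm Ω)) : Prop := ∀ a b : Ω, ∃ g ∈ G, g a = b

/-- `K` is pronormal in `G`. -/
def Pro {A : Type*} [Group A] (G K : Subgroup A) : Prop :=
  ∀ g ∈ G, ∃ w ∈ K ⊔ K.map (MulAut.conj g).toMonoidHom,
    K.map (MulAut.conj w).toMonoidHom = K.map (MulAut.conj g).toMonoidHom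

lemma Pro.mono {A : Type*} [Group A] {G M K : Subgroup A} (h : Pro G K) (hM : M ≤ G) : Pro M K :=
  fun g hg => h g (hM hg)

lemma Pro.image {A B : Type*} [Group A] [Group B] {G K : Subgroup A} (f : A →* B) (h : Pro G K) :
    Pro (G.map f) (K.map f) := by
  rintro y ⟨g, hg, rfl⟩
  obtain ⟨w, hw, hweq⟩ := h g hg
  have hc : ∀ a : A, (K.map (MulAut.conj a).toMonoidHom).map f
      = (K.map f).map (MulAut.conj (f a)).toMonoidHom := by
    intro a
    rw [Subgroup.map_map, Subgroup.map_map]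
    congr 1
    ext k
    simp [MulAut.conj_apply]
  refine ⟨f w, ?_, ?_⟩
  · rw [← hc, ← Subgroup.map_sup]
    exact ⟨w, hw, rfl⟩
  · rw [← hc, ← hc, hweq]

section
variable [Fintype Ω] [DecidableEq Ω]

open Classical in
/-- Common fixed points. -/
noncomputable def fixF (K : Subgroup (Perm Ω)) : Finset Ω :=
  Finset.univ.filter (fun a => ∀ k ∈ K, k a = a)

open Classical in
/-- Points moved by `K`. -/
noncomputable def movF (K : Subgroup (Perm Ω)) : Finset Ω :=
  Finset.univ.filter (fun a => ∃ k ∈ K, k a ≠ a)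

open Classical in
/-- Orbit as a finset. -/
noncomputable def orbF (M : Subgroup (Perm Ω)) (x : Ω) : Finset Ω :=
  Finset.univ.filter (fun y => ∃ g ∈ M, g x = y)

lemma mem_fixF {K : Subgroup (Perm Ω)} {a : Ω} : a ∈ fixF K ↔ ∀ k ∈ K, k a = a := by
  simp [fixF]

lemma mem_movF {K : Subgroup (Perm Ω)} {a : Ω} : a ∈ movF K ↔ ∃ k ∈ K, k a ≠ a := by
  simp [movF]

lemma not_mem_fixF {K : Subgroup (Perm Ω)} {a : Ω} : a ∉ fixF K ↔ a ∈ movF K := by
  simp [mem_fixF, mem_movF]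

lemma movF_eq_compl (K : Subgroup (Perm Ω)) : movF K = (fixF K)ᶜ := by
  ext a; simp [not_mem_fixF]

lemma card_fix_add_mov (K : Subgroup (Perm Ω)) :
    (fixF K).card + (movF K).card = Fintype.card Ω := by
  rw [movF_eq_compl, Finset.card_add_card_compl]

lemma mem_orbF {M : Subgroup (Perm Ω)} {x y : Ω} : y ∈ orbF M x ↔ ∃ g ∈ M, g x = y := by
  simp [orbF]

lemma self_mem_orbF (M : Subgroup (Perm Ω)) (x : Ω) : x ∈ orbF M x :=
  mem_orbF.2 ⟨1, M.one_mem, rfl⟩

lemma orbF_map_mem {M : Subgroup (Perm Ω)} {x y : Ω} {g : Perm Ω} (hg : g ∈ M)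
    (hy : y ∈ orbF M x) : g y ∈ orbF M x := by
  obtain ⟨h, hh, rfl⟩ := mem_orbF.1 hy
  exact mem_orbF.2 ⟨g * h, M.mul_mem hg hh, rfl⟩

lemma orbF_mem_iff {M : Subgroup (Perm Ω)} {x y : Ω} {g : Perm Ω} (hg : g ∈ M) :
    g y ∈ orbF M x ↔ y ∈ orbF M x :=
  ⟨fun h => by simpa using orbF_map_mem (M.inv_mem hg) h, orbF_map_mem hg⟩

lemma orbF_eq {M : Subgroup (Perm Ω)} {x y : Ω} (hy : y ∈ orbF M x) : orbF M y = orbF M x := by
  obtain ⟨h, hh, rfl⟩ := mem_orbF.1 hy
  ext z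
  simp only [mem_orbF]
  constructor
  · rintro ⟨g, hg, rfl⟩; exact ⟨g * h, M.mul_mem hg hh, rfl⟩
  · rintro ⟨g, hg, rfl⟩; exact ⟨g * h⁻¹, M.mul_mem hg (M.inv_mem hh), by simp⟩

lemma fix_conj_iff {K : Subgroup (Perm Ω)} {g : Perm Ω} {a : Ω} :
    a ∈ fixF (K.map (MulAut.conj g).toMonoidHom) ↔ g⁻¹ a ∈ fixF K := by
  simp only [mem_fixF]
  constructor
  · intro h k hk
    have := h _ ⟨k, hk, rfl⟩
    simp [MulAut.conj_apply, Perm.mul_apply] at this
    simpa using congrArg (g⁻¹ : Perm Ω) this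
  · rintro h _ ⟨k, hk, rfl⟩
    show g (k (g⁻¹ a)) = a
    rw [h k hk]
    exact g.apply_symm_apply a

lemma fixF_mono {K L : Subgroup (Perm Ω)} (h : K ≤ L) : fixF L ⊆ fixF K :=
  fun _ ha => mem_fixF.2 fun k hk => mem_fixF.1 ha k (h hk)

lemma fixF_sup {K L : Subgroup (Perm Ω)} {a : Ω} (h1 : a ∈ fixF K) (h2 : a ∈ fixF L) :
    a ∈ fixF (K ⊔ L) := by
  let St : Subgroup (Perm Ω) := MulAction.stabilizer (Perm Ω) a
  have : K ⊔ L ≤ St := sup_le (fun k hk => mem_fixF.1 h1 k hk) (fun k hk => mem_fixF.1 h2 k hk)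
  exact mem_fixF.2 fun k hk => this hk

/-- Two conjugates are conjugate by an element fixing every common fixed point. -/
lemma Pro.exists_conj {G K : Subgroup (Perm Ω)} (h : Pro G K) (hK : K ≤ G) {g : Perm Ω}
    (hg : g ∈ G) :
    ∃ w ∈ G, w ∈ K ⊔ K.map (MulAut.conj g).toMonoidHom ∧
      (∀ a, a ∈ fixF K → g⁻¹ a ∈ fixF K → w a = a) ∧
      (∀ a, g⁻¹ a ∈ fixF K ↔ w⁻¹ a ∈ fixF K) := by
  obtain ⟨w, hw, hweq⟩ := h g hg
  refine ⟨w, ?_, hw, fun a ha hga => ?_, fun a => ?_⟩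
  · refine (sup_le hK ?_ : K ⊔ K.map (MulAut.conj g).toMonoidHom ≤ G) hw
    rintro _ ⟨k, hk, rfl⟩
    simpa [MulAut.conj_apply] using G.mul_mem (G.mul_mem hg (hK hk)) (G.inv_mem hg)
  · exact mem_fixF.1 (fixF_sup ha (fix_conj_iff.2 hga)) w hw
  · rw [← fix_conj_iff, ← fix_conj_iff, hweq]

/-- The normaliser acts transitively on the fixed points. -/
lemma Pro.exists_fix_map {G K : Subgroup (Perm Ω)} (h : Pro G K) (hK : K ≤ G) {a : Ω}
    (ha : a ∈ fixF K) {g : Perm Ω} (hg : g ∈ G) (hga : g a ∈ fixF K) :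
    ∃ n ∈ G, n a = g a ∧ ∀ b, n b ∈ fixF K ↔ b ∈ fixF K := by
  obtain ⟨w, hwG, -, hwfix, hwiff⟩ := h.exists_conj hK hg
  refine ⟨w⁻¹ * g, G.mul_mem (G.inv_mem hwG) hg, ?_, fun b => ?_⟩
  · have hw1 : w (g a) = g a := hwfix (g a) hga (by simpa using ha)
    show w⁻¹ (g a) = g a
    exact (Equiv.symm_apply_eq w).2 hw1.symm
  · have := hwiff (g b)
    simp only [Perm.inv_def, Equiv.symm_apply_apply] at this
    simpa [Perm.mul_apply, Perm.inv_def] using this.symm

/-- No translate of a nontrivial orbit of `K` lies inside the fixed point set of `K`. -/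
lemma Pro.orbit_not_into_fix {G K : Subgroup (Perm Ω)} (h : Pro G K) (hK : K ≤ G) {x : Ω}
    (hx : x ∈ movF K) {g : Perm Ω} (hg : g ∈ G) :
    ∃ y ∈ orbF K x, g y ∈ movF K := by
  by_contra hne
  push Not at hne
  have hfix : ∀ y ∈ orbF K x, g y ∈ fixF K := fun y hy => by
    by_contra hc; exact hne y hy (not_mem_fixF.1 hc)
  obtain ⟨w, -, hw, -, hwiff⟩ := h.exists_conj hK (G.inv_mem hg)
  let St : Subgroup (Perm Ω) :=
    { carrier := {p | ∀ y, p y ∈ orbF K x ↔ y ∈ orbF K x}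
      mul_mem' := fun {p q} hp hq y => by simp [Perm.mul_apply, hp (q y), hq y]
      one_mem' := fun y => Iff.rfl
      inv_mem' := fun {p} hp y => by
        have := hp (p⁻¹ y)
        simp only [Perm.inv_def, Equiv.apply_symm_apply] at this ⊢
        exact this.symm }
  have hle : K ⊔ K.map (MulAut.conj g⁻¹).toMonoidHom ≤ St := by
    refine sup_le (fun k hk y => orbF_mem_iff hk) ?_
    rintro c hc y
    constructor
    · intro hy
      have : c (c y) = c y := by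
        have := mem_fixF.1 ((fix_conj_iff (g := g⁻¹)).2 (by simpa using hfix _ hy)) c hc
        simpa using this
      rwa [c.injective this] at hy
    · intro hy
      have := mem_fixF.1 ((fix_conj_iff (g := g⁻¹)).2 (by simpa using hfix _ hy)) c hc
      rwa [this]
  have hwSt : ∀ y, w y ∈ orbF K x ↔ y ∈ orbF K x := hle hw
  have h1 : w x ∈ orbF K x := (hwSt x).2 (self_mem_orbF K x)
  have h2 : x ∈ fixF K := by
    have := (hwiff (w x)).1 (by simpa using hfix _ h1)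
    simpa using this
  exact not_mem_fixF.2 hx h2

/-- The induction statement. -/
def Bound (n : ℕ) : Prop :=
  ∀ (Ω : Type) [Fintype Ω] [DecidableEq Ω], Fintype.card Ω < n →
    ∀ G K : Subgroup (Perm Ω), IsTrans G → K ≤ G → K ≠ ⊥ → Pro G K →
      2 * (fixF K).card + 1 ≤ Fintype.card Ω

lemma Bound.of_hom {n : ℕ} (hB : Bound n) {M K : Subgroup (Perm Ω)} (hKM : K ≤ M) (hpro : Pro M K)
    {D : Type} [Fintype D] [DecidableEq D] (hD : Fintype.card D < n) (f : M →* Perm D)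
    (htr : ∀ a b : D, ∃ g : M, f g a = b) (hmov : ∃ k : M, (k : Perm Ω) ∈ K ∧ f k ≠ 1) :
    ∃ F' : Finset D, (∀ a, a ∈ F' ↔ ∀ k : M, (k : Perm Ω) ∈ K → f k a = a) ∧
      2 * F'.card + 1 ≤ Fintype.card D := by
  let K' : Subgroup M := K.subgroupOf M
  have hne : K'.map f ≠ ⊥ := by
    obtain ⟨k, hk, hk1⟩ := hmov
    intro hb
    exact hk1 ((Subgroup.eq_bot_iff_forall _).1 hb _ ⟨k, Subgroup.mem_subgroupOf.2 hk, rfl⟩)
  have hp : Pro (⊤ : Subgroup M) K' := by
    intro g _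
    obtain ⟨w, hw, hweq⟩ := hpro g g.2
    have hc : ∀ a : M, (K'.map (MulAut.conj a).toMonoidHom).map M.subtype
        = K.map (MulAut.conj (a : Perm Ω)).toMonoidHom := by
      intro a
      have hKK : K'.map M.subtype = K := by simp [K', Subgroup.map_subgroupOf_eq_of_le hKM]
      conv_rhs => rw [← hKK]
      rw [Subgroup.map_map, Subgroup.map_map]
      congr 1
    have hK' : K'.map M.subtype = K := by simp [K', Subgroup.map_subgroupOf_eq_of_le hKM]
    have hw' : w ∈ (K' ⊔ K'.map (MulAut.conj g).toMonoidHom).map M.subtype := by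
      rw [Subgroup.map_sup, hc, hK']; exact hw
    obtain ⟨w', hw'mem, rfl⟩ := hw'
    refine ⟨w', hw'mem, ?_⟩
    exact Subgroup.map_injective M.subtype_injective (by rw [hc, hc]; exact hweq)
  have := hB D hD ((⊤ : Subgroup M).map f) (K'.map f)
    (fun a b => by obtain ⟨g, hg⟩ := htr a b; exact ⟨f g, ⟨g, trivial, rfl⟩, hg⟩)
    (Subgroup.map_mono le_top) hne (hp.image f)
  refine ⟨fixF (K'.map f), fun a => ?_, this⟩
  simp only [mem_fixF, Subgroup.mem_map, K', Subgroup.mem_subgroupOf]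
  exact ⟨fun h k hk => h _ ⟨k, hk, rfl⟩, by rintro h _ ⟨k, hk, rfl⟩; exact h k hk⟩

/-- The bound on an orbit of an overgroup. -/
lemma Bound.orbit {n : ℕ} (hB : Bound n) {M K : Subgroup (Perm Ω)} (hKM : K ≤ M) (hpro : Pro M K)
    (x : Ω) (hcard : (orbF M x).card < n) (hmov : ∃ y ∈ orbF M x, y ∈ movF K) :
    2 * (fixF K ∩ orbF M x).card + 1 ≤ (orbF M x).card := by
  let D := {y // y ∈ orbF M x}
  let f : M →* Perm D :=
    { toFun := fun g => Perm.subtypePerm (g : Perm Ω) (fun y => orbF_mem_iff g.2)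
      map_one' := by ext; rfl
      map_mul' := fun a b => by ext; rfl }
  have htr : ∀ a b : D, ∃ g : M, f g a = b := by
    rintro ⟨a, ha⟩ ⟨b, hb⟩
    rw [← orbF_eq ha] at hb
    obtain ⟨g, hg, rfl⟩ := mem_orbF.1 hb
    exact ⟨⟨g, hg⟩, rfl⟩
  obtain ⟨y, hy, hym⟩ := hmov
  obtain ⟨k, hk, hky⟩ := mem_movF.1 hym
  obtain ⟨F', hF', hle⟩ := hB.of_hom hKM hpro (D := D) (by simpa [D] using hcard) f htr
    ⟨⟨k, hKM hk⟩, hk, fun h1 => hky (by
      have := congrArg (fun p : Perm D => ((p ⟨y, hy⟩ : D) : Ω)) h1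
      exact this)⟩
  have hcardF : (fixF K ∩ orbF M x).card = F'.card := by
    symm
    refine Finset.card_bij (fun a _ => (a : Ω)) (fun a ha => ?_)
      (fun a _ b _ h => Subtype.ext h) (fun b hb => ?_)
    · refine Finset.mem_inter.2 ⟨mem_fixF.2 fun k hk => ?_, a.2⟩
      exact congrArg Subtype.val ((hF' a).1 ha ⟨k, hKM hk⟩ hk)
    · obtain ⟨h1, h2⟩ := Finset.mem_inter.1 hb
      exact ⟨⟨b, h2⟩, (hF' _).2 (fun k hk => Subtype.ext (mem_fixF.1 h1 k hk)), rfl⟩
  rw [hcardF]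
  simpa [D] using hle

/-- A pronormal subgroup of a `p`-group is normal there. -/
lemma Pro.normalized {G K T : Subgroup (Perm Ω)} (h : Pro G K) {p : ℕ} [Fact p.Prime]
    (hT : IsPGroup p T) (hTG : T ≤ G) (hKT : K ≤ T) :
    T ≤ Subgroup.normalizer (K : Set (Perm Ω)) := by
  by_contra hne
  let N : Subgroup T := (Subgroup.normalizer (K : Set (Perm Ω))).subgroupOf T
  have hN : N < ⊤ := lt_of_le_of_ne le_top fun he => hne (Subgroup.subgroupOf_eq_top.1 he)
  have : Group.IsNilpotent T := hT.isNilpotent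
  have hlt := Group.normalizerCondition_of_isNilpotent N hN
  obtain ⟨t, htn, htN⟩ := SetLike.exists_of_lt hlt
  have hmem : ∀ k ∈ K, (t : Perm Ω) * k * (t : Perm Ω)⁻¹ ∈ Subgroup.normalizer (K : Set (Perm Ω)) := by
    intro k hk
    have hkN : (⟨k, hKT hk⟩ : T) ∈ N := Subgroup.mem_subgroupOf.2 (Subgroup.le_normalizer hk)
    exact Subgroup.mem_subgroupOf.1 ((Subgroup.mem_normalizer_iff.1 htn _).1 hkN)
  obtain ⟨w, hw, hweq⟩ := h t (hTG t.2)
  have hwN : w ∈ Subgroup.normalizer (K : Set (Perm Ω)) := by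
    refine (sup_le Subgroup.le_normalizer ?_ : _ ≤ Subgroup.normalizer (K : Set (Perm Ω))) hw
    rintro _ ⟨k, hk, rfl⟩
    simpa [MulAut.conj_apply] using hmem k hk
  apply htN
  rw [Subgroup.mem_subgroupOf]
  have hwK : K.map (MulAut.conj w).toMonoidHom = K := by
    ext y
    constructor
    · rintro ⟨k, hk, rfl⟩
      simpa [MulAut.conj_apply] using (Subgroup.mem_normalizer_iff.1 hwN k).1 hk
    · intro hy
      refine ⟨w⁻¹ * y * w, (Subgroup.mem_normalizer_iff.1 hwN _).2 ?_, ?_⟩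
      · simpa [mul_assoc] using hy
      · simp [MulAut.conj_apply, mul_assoc]
  refine Subgroup.mem_normalizer_iff.2 fun k => ?_
  rw [hwK] at hweq
  constructor
  · intro hk
    rw [hweq]
    exact ⟨k, hk, by simp [MulAut.conj_apply]⟩
  · intro hk
    rw [hweq] at hk
    obtain ⟨k', hk', he⟩ := hk
    simp [MulAut.conj_apply] at he
    rwa [← he]

end

end Cfsg.Agent.PronormalFix
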