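import Cfsg.Agent.Lib.PronormalFix.Blocks

/-!
A pronormal 2-subgroup does not fix exactly half of the points (S3399).
-/

namespace Cfsg.Agent.PronormalFix

open Equiv Equiv.Perm

variable {Ω : Type} [Fintype Ω] [DecidableEq Ω]

lemma two_group_false {G K : Subgroup (Perm Ω)} (htr : IsTrans G) (hKG : K ≤ G) (hpro : Pro G K)
    (hK2 : IsPGroup 2 K) {m : ℕ} (hm : 1 ≤ m) (hn : Fintype.card Ω = 2 * m)
    (hf : (fixF K).card = m) : False := by
  classical
  have hp : Fact (Nat.Prime 2) := ⟨Nat.prime_two⟩
  have hKs : IsPGroup 2 (K.subgroupOf G) := hK2.of_equiv (Subgroup.subgroupOfEquivOfLe hKG).symm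
  obtain ⟨P, hP⟩ := hKs.exists_le_sylow
  let T : Subgroup (Perm Ω) := (P : Subgroup G).map G.subtype
  have hTG : T ≤ G := Subgroup.map_subtype_le _
  have hT : IsPGroup 2 T := P.2.map G.subtype
  have hKT : K ≤ T := by
    intro k hk
    exact ⟨⟨k, hKG hk⟩, hP (Subgroup.mem_subgroupOf.2 hk), rfl⟩
  have hnorm := hpro.normalized hT hTG hKT
  have hFT : ∀ x ∈ fixF K, orbF T x ⊆ fixF K := by
    intro x hx y hy
    obtain ⟨t, ht, rfl⟩ := mem_orbF.1 hy
    refine mem_fixF.2 fun k hk => ?_
    have hk' : t⁻¹ * k * t ∈ K := by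
      have := (Subgroup.mem_normalizer_iff.1 (hnorm ht) (t⁻¹ * k * t)).2 (by simpa [mul_assoc] using hk)
      exact this
    have := mem_fixF.1 hx _ hk'
    simpa [Perm.mul_apply, Equiv.symm_apply_eq] using this
  set e := (2 * m).factorization 2 with he
  have hdvd : ∀ x, 2 ^ e ∣ (orbF T x).card := by
    intro x
    have horb : (orbF T x).card = Nat.card (MulAction.orbit T x) := by
      rw [← Set.ncard_coe_finset, ← Nat.card_coe_set_eq]
      congr 2
      ext y
      simp [mem_orbF, MulAction.mem_orbit_iff, Subgroup.smul_def, Perm.smul_def]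
    have hG : Nat.card G = 2 * m * Nat.card (MulAction.stabilizer G x) := by
      have h1 : Nat.card (MulAction.orbit G x) = 2 * m := by
        have : MulAction.orbit G x = Set.univ := by
          ext y
          obtain ⟨g, hg, hgy⟩ := htr x y
          exact iff_of_true ⟨⟨g, hg⟩, hgy⟩ trivial
        rw [this, Nat.card_congr (Equiv.Set.univ Ω), Nat.card_eq_fintype_card, hn]
      rw [← h1, ← Nat.card_prod]
      exact (Nat.card_congr (MulAction.orbitProdStabilizerEquivGroup G x)).symm
    have hTc : Nat.card T = Nat.card (orbF T x) * Nat.card (MulAction.stabilizer T x) := by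
      rw [Nat.card_eq_finsetCard, horb, ← Nat.card_prod]
      exact (Nat.card_congr (MulAction.orbitProdStabilizerEquivGroup T x)).symm
    rw [Nat.card_eq_finsetCard] at hTc
    have hTP : Nat.card T = 2 ^ (Nat.card G).factorization 2 := by
      rw [Subgroup.card_map_of_injective G.subtype_injective]
      exact Sylow.card_eq_multiplicity P
    have hsd : Nat.card (MulAction.stabilizer T x) ∣ Nat.card (MulAction.stabilizer G x) := by
      let i : MulAction.stabilizer T x →* MulAction.stabilizer G x :=
        { toFun := fun t => ⟨⟨(t.1 : Perm Ω), hTG t.1.2⟩, t.2⟩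
          map_one' := rfl
          map_mul' := fun _ _ => rfl }
      have hinj : Function.Injective i := by
        intro s t h
        exact Subtype.ext (Subtype.ext (congrArg (fun u => ((u.1 : G) : Perm Ω)) h))
      exact Subgroup.card_dvd_of_injective i hinj
    obtain ⟨j, -, hj⟩ := (Nat.dvd_prime_pow Nat.prime_two).1
      (show Nat.card (MulAction.stabilizer T x) ∣ 2 ^ (Nat.card G).factorization 2 from
        hTP ▸ hTc ▸ dvd_mul_left _ _)
    rw [hj] at hsd
    have hjle : j ≤ (Nat.card (MulAction.stabilizer G x)).factorization 2 :=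
      (Nat.Prime.pow_dvd_iff_le_factorization Nat.prime_two Nat.card_pos.ne').1 hsd
    rw [hG, Nat.factorization_mul (by omega) Nat.card_pos.ne', Finsupp.add_apply, ← he] at hTP
    rw [hTP, hj] at hTc
    obtain ⟨c, hc⟩ := Nat.le.dest hjle
    rw [← hc, show e + (j + c) = (e + c) + j by ring, pow_add] at hTc
    have := Nat.eq_of_mul_eq_mul_right (by positivity) hTc
    exact ⟨2 ^ c, by rw [← this, pow_add]⟩
  have hsum := sum_orbs (M := T) hFT (fixF K)
  rw [Finset.inter_self, hf] at hsum
  have hdm : 2 ^ e ∣ m := by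
    rw [hsum]
    refine Finset.dvd_sum fun Δ hΔ => ?_
    obtain ⟨x, hx, rfl⟩ := Finset.mem_image.1 hΔ
    rw [Finset.inter_eq_right.2 (hFT x hx)]
    exact hdvd x
  have := (Nat.Prime.pow_dvd_iff_le_factorization Nat.prime_two (by omega : m ≠ 0)).1 hdm
  rw [he, Nat.factorization_mul (by norm_num) (by omega), Finsupp.add_apply,
    Nat.Prime.factorization_self Nat.prime_two] at this
  omega

end Cfsg.Agent.PronormalFix
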