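import Cfsg.Agent.Lib.PronormalFix.Moments
import Cfsg.Agent.Lib.PronormalFix.Cert
import Cfsg.Agent.Lib.PronormalFix.TwoGroup

/-!
Four-fold transitivity excludes a pronormal subgroup fixing half of the points (S3399).
-/

namespace Cfsg.Agent.PronormalFix

open Equiv Equiv.Perm

attribute [-simp] Perm.coe_inv

variable {Ω : Type} [Fintype Ω] [DecidableEq Ω]

lemma HasCert.mono {d j : ℕ} {ca cb : ℤ} {mp mp' : ℕ} (h : HasCert d j ca cb mp) (hdvd : mp ∣ mp') :
    HasCert d j ca cb mp' := by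
  obtain ⟨f, hf, he⟩ := h
  exact ⟨f, fun t s ⟨h1, h2, h3⟩ => hf t s ⟨h1, h2, h3.imp id fun ⟨a, b⟩ => ⟨a, hdvd.trans b⟩⟩, he⟩

lemma mov_iff {h : Perm Ω} {S : Finset Ω} (hs : h.support = S) {z : Ω} : h z ≠ z ↔ z ∈ S := by
  rw [← hs, Perm.mem_support]

lemma supp_maps {h : Perm Ω} {S : Finset Ω} (hs : h.support = S) {z : Ω} (hz : z ∈ S) :
    h z ∈ S ∧ h⁻¹ z ∈ S ∧ h⁻¹ z ≠ z := by
  have h1 := (mov_iff hs).2 hz
  refine ⟨(mov_iff hs).1 fun e => h1 (h.injective e), (mov_iff hs).1 fun e => ?_, fun e => ?_⟩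
  · rw [app_inv] at e
    exact h1 (by conv_lhs => rw [e, app_inv])
  · exact h1 (by conv_lhs => rw [← e, app_inv])

/-- The key averaging contradiction. -/
lemma config_false {G : Subgroup (Perm Ω)} (h4 : Tr4 G) (hn : 4 ≤ Fintype.card Ω) {d j mp : ℕ}
    {S : Finset Ω} (hd : S.card = d) (hcard : Fintype.card Ω = 2 * d + j)
    {h1 h2 : Perm Ω} (h1G : h1 ∈ G) (h2G : h2 ∈ G) (hs1 : h1.support = S) (hs2 : h2.support = S)
    (hmin : ∀ x ∈ G, x ≠ 1 → d ≤ x.support.card) {ca cb : ℤ}
    (hca : ∀ z ∈ S, (((S.erase z).erase (h1⁻¹ z)).erase (h1 z)).card = ca)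
    (hcb : ∀ z ∈ S, (((S.erase z).erase (h2⁻¹ z)).erase (h2 z)).card = cb)
    (hj : j = 0 → ∀ g : G, 1 ≤ tau S G g)
    (hmp : ∀ t : ℕ, (∃ T : Finset Ω, T ⊆ S ∧ (∀ z ∈ T, h1 z ∈ T) ∧ T.card = t) →
      (∃ T : Finset Ω, T ⊆ S ∧ (∀ z ∈ T, h2 z ∈ T) ∧ T.card = t) → mp ∣ t)
    (hcert : HasCert d j ca cb mp) : False := by
  classical
  obtain ⟨f, hf, he⟩ := hcert
  have hfeas : ∀ g : G, Allowed d j mp (tau S G g) (bd S G h1⁻¹ g + bd S G h2⁻¹ g⁻¹) := by
    intro g
    have hX : ∀ (h : Perm Ω) (g : G), h.support = S →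
        bd S G h⁻¹ g ≤ tau S G g ∧ bd S G h⁻¹ g + tau S G g ≤ d := by
      intro h g hs
      refine ⟨Finset.card_le_card_of_injOn (fun z => h⁻¹ z) (fun z hz => ?_)
        (fun a _ b _ e => (h⁻¹).injective e), ?_⟩
      · simp only [Finset.coe_filter, Set.mem_ofPred_eq] at hz ⊢
        exact ⟨(supp_maps hs hz.1).2.1, hz.2.2⟩
      · rw [← hd, bd, tau, ← Finset.card_union_of_disjoint]
        · exact Finset.card_le_card (Finset.union_subset (Finset.filter_subset _ _)
            (Finset.filter_subset _ _))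
        · rw [Finset.disjoint_filter]
          exact fun z _ h1 h2 => h1.1 h2
    obtain ⟨hx1, hx2⟩ := hX h1 g hs1
    obtain ⟨hy1, hy2⟩ := hX h2 g⁻¹ hs2
    rw [tau_inv] at hy1 hy2
    refine ⟨by omega, fun hj0 => hj hj0 g, ?_⟩
    set b : Perm Ω := (g : Perm Ω) * h2 * (g : Perm Ω)⁻¹ with hb
    have hbG : b ∈ G := G.mul_mem (G.mul_mem g.2 h2G) (G.inv_mem g.2)
    have hbmov : ∀ z, b z ≠ z ↔ (g : Perm Ω)⁻¹ z ∈ S := by
      intro z
      rw [← mov_iff hs2, hb]
      simp only [Perm.mul_apply]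
      conv_lhs => arg 2; rw [← app_inv (g : Perm Ω) z]
      rw [(g : Perm Ω).injective.ne_iff]
    by_cases hc : h1 * b = b * h1
    · right
      have hcomm : ∀ z, h1 (b z) = b (h1 z) := fun z => by
        have := congrArg (fun p : Perm Ω => p z) hc
        simpa [Perm.mul_apply] using this
      have hT1 : ∀ z ∈ S.filter (fun z => (g : Perm Ω)⁻¹ z ∈ S),
          h1 z ∈ S.filter (fun z => (g : Perm Ω)⁻¹ z ∈ S) := by
        intro z hz
        obtain ⟨hz1, hz2⟩ := Finset.mem_filter.1 hz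
        refine Finset.mem_filter.2 ⟨(supp_maps hs1 hz1).1, (hbmov _).1 fun e => ?_⟩
        rw [← hcomm] at e
        exact (hbmov z).2 hz2 (h1.injective e)
      have hT2 : ∀ u ∈ S.filter (fun u => (g : Perm Ω) u ∈ S),
          h2 u ∈ S.filter (fun u => (g : Perm Ω) u ∈ S) := by
        intro u hu
        obtain ⟨hu1, hu2⟩ := Finset.mem_filter.1 hu
        refine Finset.mem_filter.2 ⟨(supp_maps hs2 hu1).1, (mov_iff hs1).1 fun e => ?_⟩
        have e' : b ((g : Perm Ω) u) = (g : Perm Ω) (h2 u) := by simp [hb, Perm.mul_apply]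
        rw [← e', hcomm] at e
        exact (mov_iff hs1).2 hu2 (b.injective e)
      refine ⟨?_, hmp _ ⟨_, Finset.filter_subset _ _, hT1, rfl⟩
        ⟨_, Finset.filter_subset _ _, hT2, ?_⟩⟩
      · rw [Nat.add_eq_zero_iff]
        constructor
        · refine Finset.card_eq_zero.2 (Finset.filter_eq_empty_iff.2 fun z hz h => ?_)
          have e : b z = z := not_not.1 fun hne => h.1 ((hbmov z).1 hne)
          refine (hbmov (h1⁻¹ z)).2 h.2 (h1.injective ?_)
          rw [hcomm, app_inv, e]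
        · refine Finset.card_eq_zero.2 (Finset.filter_eq_empty_iff.2 fun u hu h => ?_)
          simp only [Subgroup.coe_inv, inv_inv] at h
          have e : h1 ((g : Perm Ω) u) = (g : Perm Ω) u :=
            not_not.1 fun hne => h.1 ((mov_iff hs1).1 hne)
          refine (mov_iff hs1).2 h.2 (b.injective ?_)
          rw [← hcomm]
          have e' : b ((g : Perm Ω) (h2⁻¹ u)) = (g : Perm Ω) u := by simp [hb, Perm.mul_apply]
          rw [e', e]
      · rw [← tau_inv]
        simp [tau]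
    · left
      refine ⟨?_, by omega, by omega⟩
      have hne : h1 * b * h1⁻¹ * b⁻¹ ≠ 1 := fun e => hc (by
        rwa [mul_inv_eq_one, mul_inv_eq_iff_eq_mul] at e)
      have hcG : h1 * b * h1⁻¹ * b⁻¹ ∈ G :=
        G.mul_mem (G.mul_mem (G.mul_mem h1G hbG) (G.inv_mem h1G)) (G.inv_mem hbG)
      refine (hmin _ hcG hne).trans ?_
      set T := S.filter (fun z => (g : Perm Ω)⁻¹ z ∈ S) with hT
      set U := S.filter (fun z => (g : Perm Ω)⁻¹ z ∉ S ∧ (g : Perm Ω)⁻¹ (h1⁻¹ z) ∈ S) with hU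
      set V := (S.filter (fun u => (g : Perm Ω) u ∉ S ∧ (g : Perm Ω) (h2⁻¹ u) ∈ S)).image
        (g : Perm Ω) with hV
      have hsub : (h1 * b * h1⁻¹ * b⁻¹).support ⊆ T ∪ (U ∪ V) := by
        intro z hz
        rw [Perm.mem_support] at hz
        simp only [Finset.mem_union]
        by_contra hno
        simp only [not_or] at hno
        obtain ⟨hzT, hzU, hzV⟩ := hno
        apply hz
        simp only [Perm.mul_apply]
        by_cases hzS : z ∈ S
        · have hzg : (g : Perm Ω)⁻¹ z ∉ S := fun h => hzT (Finset.mem_filter.2 ⟨hzS, h⟩)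
          have e1 : b z = z := not_not.1 fun hne => hzg ((hbmov z).1 hne)
          have e1' : b⁻¹ z = z := by conv_lhs => rw [← e1, inv_app]
          have e2 : b (h1⁻¹ z) = h1⁻¹ z := not_not.1 fun hne =>
            hzU (Finset.mem_filter.2 ⟨hzS, hzg, (hbmov _).1 hne⟩)
          rw [e1', e2, app_inv]
        · have e1 : h1 z = z := not_not.1 fun hne => hzS ((mov_iff hs1).1 hne)
          have e2 : h1⁻¹ (b⁻¹ z) = b⁻¹ z := by
            have : h1 (b⁻¹ z) = b⁻¹ z := by
              by_contra hne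
              have hin := (mov_iff hs1).1 hne
              by_cases hzg : (g : Perm Ω)⁻¹ z ∈ S
              · refine hzV (Finset.mem_image.2 ⟨(g : Perm Ω)⁻¹ z, Finset.mem_filter.2
                  ⟨hzg, by rwa [app_inv], ?_⟩, app_inv _ _⟩)
                have : b⁻¹ z = (g : Perm Ω) (h2⁻¹ ((g : Perm Ω)⁻¹ z)) := by
                  simp [hb, Perm.mul_apply, mul_inv_rev]
                rwa [← this]
              · have e3 : b z = z := not_not.1 fun hne => hzg ((hbmov z).1 hne)
                have e3' : b⁻¹ z = z := by conv_lhs => rw [← e3, inv_app]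
                rw [e3'] at hin
                exact hzS hin
            conv_lhs => rw [← this, inv_app]
          rw [e2, app_inv, e1]
      refine (Finset.card_le_card hsub).trans ((Finset.card_union_le _ _).trans ?_)
      refine Nat.add_le_add (le_of_eq rfl) ((Finset.card_union_le _ _).trans ?_)
      refine Nat.add_le_add (le_of_eq rfl) (Finset.card_image_le.trans (le_of_eq ?_))
      simp [bd]
  have hpos : 0 ≤ (∑ g : G, f.val (tau S G g) ((bd S G h1⁻¹ g + bd S G h2⁻¹ g⁻¹ : ℕ) : ℤ)) :=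
    Finset.sum_nonneg fun g _ => hf _ _ (hfeas g)
  have m1 : ∀ z ∈ S, h1⁻¹ z ∈ S := fun z hz => (supp_maps hs1 hz).2.1
  have m1' : ∀ z ∈ S, h1⁻¹ z ≠ z := fun z hz => (supp_maps hs1 hz).2.2
  have m2 : ∀ z ∈ S, h2⁻¹ z ∈ S := fun z hz => (supp_maps hs2 hz).2.1
  have m2' : ∀ z ∈ S, h2⁻¹ z ≠ z := fun z hz => (supp_maps hs2 hz).2.2
  have hflip : ∀ φ : ℤ → ℤ → ℤ, (∑ g : G, φ (bd S G h2⁻¹ g⁻¹) (tau S G g))
      = ∑ g : G, φ (bd S G h2⁻¹ g) (tau S G g) := fun φ =>
    Fintype.sum_equiv (Equiv.inv G) _ _ fun g => by simp [tau_inv]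
  have hval : ∀ g : G, f.val (tau S G g) ((bd S G h1⁻¹ g + bd S G h2⁻¹ g⁻¹ : ℕ) : ℤ)
      = f.c * (bd S G h1⁻¹ g : ℤ) ^ 2 + f.c * (bd S G h2⁻¹ g⁻¹ : ℤ) ^ 2
        + 2 * f.c * ((bd S G h1⁻¹ g : ℤ) * bd S G h2⁻¹ g⁻¹)
        + f.a0 * bd S G h1⁻¹ g + f.a0 * bd S G h2⁻¹ g⁻¹
        + f.a1 * ((bd S G h1⁻¹ g : ℤ) * tau S G g) + f.a1 * ((bd S G h2⁻¹ g⁻¹ : ℤ) * tau S G g)
        + f.a2 * ((bd S G h1⁻¹ g : ℤ) * (tau S G g : ℤ) ^ 2)
        + f.a2 * ((bd S G h2⁻¹ g⁻¹ : ℤ) * (tau S G g : ℤ) ^ 2)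
        + f.b0 + f.b1 * tau S G g + f.b2 * (tau S G g : ℤ) ^ 2 + f.b3 * (tau S G g : ℤ) ^ 3
        + f.b4 * (tau S G g : ℤ) ^ 4 := by
    intro g; simp only [Cf.val]; push_cast; ring
  simp only [hval, Finset.sum_add_distrib, ← Finset.mul_sum] at hpos
  rw [hflip (fun x _ => x ^ 2), hflip (fun x _ => x), hflip (fun x t => x * t),
    hflip (fun x t => x * t ^ 2), Finset.sum_const, Finset.card_univ, nsmul_eq_mul] at hpos
  obtain ⟨t1, t2, t3, t4⟩ := sum_tau_pow (S := S) h4 hn
  have hN : (0 : ℤ) < N4 (Fintype.card Ω) := by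
    rw [← (desc4_cast hn).1]
    exact_mod_cast Nat.descFactorial_pos.2 hn
  have hG : (0 : ℤ) < Fintype.card G := by exact_mod_cast Fintype.card_pos
  have key := mul_nonneg hpos hN.le
  simp only [add_mul, mul_assoc] at key
  rw [sum_bd_sq h4 hn m1 m1' (fun z hz => by rw [inv_inv]; exact hca z hz),
    sum_bd_sq h4 hn m2 m2' (fun z hz => by rw [inv_inv]; exact hcb z hz),
    sum_bd_bd h4 hn m1 m1' m2 m2', sum_bd h4 hn m1 m1', sum_bd h4 hn m2 m2',
    sum_bd_tau h4 hn m1 m1', sum_bd_tau h4 hn m2 m2', sum_bd_tau_sq h4 hn m1 m1',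
    sum_bd_tau_sq h4 hn m2 m2', t1, t2, t3, t4, hd] at key
  rw [N4, hcard] at key
  simp only [Cf.eval] at he
  push_cast at key he
  refine absurd key (not_le.2 ?_)
  have := mul_neg_of_pos_of_neg hG he
  refine lt_of_eq_of_lt ?_ this
  ring

lemma dvd_card_of_invariant {h : Perm Ω} {p : ℕ} [Fact p.Prime] (hp : h ^ p = 1) {T : Finset Ω}
    (hT : T ⊆ h.support) (hinv : ∀ z ∈ T, h z ∈ T) : p ∣ T.card := by
  by_contra hdvd
  have hiff : ∀ z, h z ∈ T ↔ z ∈ T := fun z => by
    refine ⟨fun hz => ?_, hinv z⟩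
    have heq : T.image h = T := Finset.eq_of_subset_of_card_le
      (Finset.image_subset_iff.2 hinv) (Finset.card_image_of_injective _ h.injective).ge
    rw [← heq] at hz
    obtain ⟨y, hy, e⟩ := Finset.mem_image.1 hz
    rwa [← h.injective e]
  obtain ⟨⟨z, hz⟩, e⟩ := Perm.exists_fixed_point_of_prime (p := p) (n := 1)
    (α := {z // z ∈ T}) (by rwa [Fintype.card_coe]) (σ := h.subtypePerm hiff)
    (by rw [pow_one, Perm.subtypePerm_pow]; ext ⟨z, hz⟩; simp [hp])
  exact Perm.mem_support.1 (hT hz) (congrArg Subtype.val e)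

lemma rest_two {h : Perm Ω} (hp : h ^ 2 = 1) {S : Finset Ω} (hs : h.support = S) {z : Ω}
    (hz : z ∈ S) : ((((S.erase z).erase (h⁻¹ z)).erase (h z)).card : ℤ) = (S.card : ℤ) - 2 := by
  have e : h⁻¹ = h := by rw [inv_eq_iff_mul_eq_one, ← sq, hp]
  rw [e, Finset.erase_idem]
  obtain ⟨h1, -, -⟩ := supp_maps hs hz
  have h1' : h z ∈ S.erase z := Finset.mem_erase.2 ⟨(mov_iff hs).2 hz, h1⟩
  have := Finset.card_erase_add_one hz
  have := Finset.card_erase_add_one h1'
  omega

lemma rest_odd {h : Perm Ω} {p : ℕ} (hp : h ^ p = 1) (hodd : Odd p) {S : Finset Ω}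
    (hs : h.support = S) {z : Ω} (hz : z ∈ S) :
    ((((S.erase z).erase (h⁻¹ z)).erase (h z)).card : ℤ) = (S.card : ℤ) - 3 := by
  obtain ⟨h1, h2, h3⟩ := supp_maps hs hz
  have hne : h z ≠ h⁻¹ z := by
    intro e
    have e2 : (h ^ 2) z = z := by rw [sq, Perm.mul_apply, e, app_inv]
    obtain ⟨k, rfl⟩ := hodd
    have e3 : ∀ i, ((h ^ 2) ^ i) z = z := fun i => by
      induction i with
      | zero => simp
      | succ i ih => rw [pow_succ, Perm.mul_apply, e2, ih]
    have : (h ^ (2 * k + 1)) z = h z := by rw [pow_succ', Perm.mul_apply, pow_mul, e3]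
    rw [hp] at this
    exact (mov_iff hs).2 hz this.symm
  have a1 : h⁻¹ z ∈ S.erase z := Finset.mem_erase.2 ⟨h3, h2⟩
  have a2 : h z ∈ (S.erase z).erase (h⁻¹ z) :=
    Finset.mem_erase.2 ⟨hne, Finset.mem_erase.2 ⟨(mov_iff hs).2 hz, h1⟩⟩
  have := Finset.card_erase_add_one hz
  have := Finset.card_erase_add_one a1
  have := Finset.card_erase_add_one a2
  omega

lemma single_false {G : Subgroup (Perm Ω)} (h4 : Tr4 G) (hn : 4 ≤ Fintype.card Ω) {d j p : ℕ}
    (hp : p.Prime) {h : Perm Ω} (hG : h ∈ G) (hpow : h ^ p = 1) (hd : h.support.card = d)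
    (hcard : Fintype.card Ω = 2 * d + j) (hmin : ∀ x ∈ G, x ≠ 1 → d ≤ x.support.card)
    (hj : j = 0 → ∀ g : G, 1 ≤ tau h.support G g) {c : ℤ}
    (hc : ∀ z ∈ h.support, ((((h.support).erase z).erase (h⁻¹ z)).erase (h z)).card = c)
    (hcert : HasCert d j c c p) : False := by
  have : Fact p.Prime := ⟨hp⟩
  exact config_false h4 hn hd hcard hG hG rfl rfl hmin hc hc hj
    (fun t ⟨T, hT, hinv, e⟩ _ => e ▸ dvd_card_of_invariant hpow hT hinv) hcert

lemma cert_two {d j : ℕ} (hd : 4 ≤ d) (heven : 2 ∣ d) (hj : 2 ≤ j) (hje : 2 ∣ j) :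
    HasCert d j ((d : ℤ) - 2) ((d : ℤ) - 2) 2 := by
  rcases eq_or_lt_of_le hj with rfl | hj2
  · by_cases hbig : 22 ≤ d
    · exact cert_u2t hbig 2
    interval_cases d <;> first
      | omega
      | exact cert_two2_4.mono (by norm_num)
      | exact cert_two2_6.mono (by norm_num)
      | exact cert_two2_8.mono (by norm_num)
      | exact cert_two2_10.mono (by norm_num)
      | exact cert_two2_12.mono (by norm_num)
      | exact cert_two2_14.mono (by norm_num)
      | exact cert_two2_16.mono (by norm_num)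
      | exact cert_two2_18.mono (by norm_num)
      | exact cert_two2_20.mono (by norm_num)
  · have hj4 : 4 ≤ j := by omega
    by_cases h7 : 7 ≤ d
    · exact cert_lin h7 hj4 le_rfl 2
    interval_cases d
    · by_cases h8 : 8 ≤ j
      · exact cert_lin4 h8 2
      interval_cases j <;> first
        | omega
        | exact cert_two4_4.mono (by norm_num)
        | exact cert_two6_4.mono (by norm_num)
    · omega
    · by_cases h6 : 6 ≤ j
      · exact cert_lin6 h6 2
      interval_cases j <;> first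
        | omega
        | exact cert_two4_6.mono (by norm_num)

lemma odd_prime_excluded {d p : ℕ} (hp : p.Prime) (hodd : p ≠ 2) (hdvd : p ∣ d)
    (hd : d = 4 ∨ d = 8 ∨ d = 16) : False := by
  have h2 : ∃ k, d = 2 ^ k := by
    rcases hd with rfl | rfl | rfl
    exacts [⟨2, rfl⟩, ⟨3, rfl⟩, ⟨4, rfl⟩]
  obtain ⟨k, rfl⟩ := h2
  exact hodd ((Nat.prime_dvd_prime_iff_eq hp Nat.prime_two).1 (hp.dvd_of_dvd_pow hdvd))

lemma cert_odd {d j p : ℕ} (hp : p.Prime) (hodd : p ≠ 2) (hdvd : p ∣ d) (hd : 4 ≤ d) (hj : 2 ≤ j)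
    (hje : 2 ∣ j) : HasCert d j ((d : ℤ) - 3) ((d : ℤ) - 3) p := by
  have hex := odd_prime_excluded hp hodd hdvd
  rcases eq_or_lt_of_le hj with rfl | hj2
  · by_cases hbig : 22 ≤ d
    · exact cert_u2 hbig p
    interval_cases d <;> first
      | (refine (hex ?_).elim; norm_num; done)
      | exact cert_odd2_5.mono (one_dvd p)
      | exact cert_odd2_6.mono (one_dvd p)
      | exact cert_odd2_7.mono (one_dvd p)
      | exact cert_odd2_9.mono (one_dvd p)
      | exact cert_odd2_10.mono (one_dvd p)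
      | exact cert_odd2_11.mono (one_dvd p)
      | exact cert_odd2_12.mono (one_dvd p)
      | exact cert_odd2_13.mono (one_dvd p)
      | exact cert_odd2_14.mono (one_dvd p)
      | exact cert_odd2_15.mono (one_dvd p)
      | exact cert_odd2_17.mono (one_dvd p)
      | exact cert_odd2_18.mono (one_dvd p)
      | exact cert_odd2_19.mono (one_dvd p)
      | exact cert_odd2_20.mono (one_dvd p)
      | exact cert_odd2_21.mono (one_dvd p)
  · have hj4 : 4 ≤ j := by omega
    by_cases h7 : 7 ≤ d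
    · exact cert_lin h7 hj4 (by omega) p
    interval_cases d
    · exact (hex (by norm_num)).elim
    · exact cert_lin5o hj4 p
    · exact cert_lin6o hj4 p

lemma cert_zero {d p : ℕ} (hp : p.Prime) (hodd : p ≠ 2) (hdvd : p ∣ d) (hd : 4 ≤ d) (h12 : d ≠ 12) :
    HasCert d 0 ((d : ℤ) - 3) ((d : ℤ) - 3) p := by
  have hex := odd_prime_excluded hp hodd hdvd
  have hpd : p ≤ d := Nat.le_of_dvd (by omega) hdvd
  have hp3 : 3 ≤ p := by have := hp.two_le; omega
  by_cases hbig : 22 ≤ d
  · exact cert_u0 hbig p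
  interval_cases d <;> first
    | exact (h12 rfl).elim
    | (refine (hex ?_).elim; norm_num; done)
    | exact cert_odd0_5.mono (one_dvd p)
    | exact cert_odd0_7.mono (one_dvd p)
    | exact cert_odd0_15.mono (one_dvd p)
    | exact cert_odd0_17.mono (one_dvd p)
    | exact cert_odd0_18.mono (one_dvd p)
    | exact cert_odd0_19.mono (one_dvd p)
    | exact cert_odd0_20.mono (one_dvd p)
    | exact cert_odd0_21.mono (one_dvd p)
    | (interval_cases p <;> first
        | omega
        | (exfalso; revert hp; decide)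
        | exact cert_odd0_6
        | exact cert_odd0_9
        | exact cert_odd0_10
        | exact cert_odd0_11
        | exact cert_odd0_13
        | exact cert_odd0_14)

lemma alt_le_of_small {G : Subgroup (Perm Ω)} (h3 : Tr3 G) (hn : 3 ≤ Fintype.card Ω) {h : Perm Ω}
    (hG : h ∈ G) (h1 : h ≠ 1) (hs : h.support.card ≤ 3) : alternatingGroup Ω ≤ G := by
  have hconj : ∀ g ∈ G, g * h * g⁻¹ ∈ G := fun g hg => G.mul_mem (G.mul_mem hg hG) (G.inv_mem hg)
  have hge : 2 ≤ h.support.card := Perm.two_le_card_support_of_ne_one h1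
  rcases Nat.lt_or_ge h.support.card 3 with hlt | h3'
  · have hsw : h.IsSwap := Perm.card_support_eq_two.1 (by omega)
    obtain ⟨x, y, hxy, rfl⟩ := hsw
    have hthird : ∀ a b : Ω, ∃ c, c ≠ a ∧ c ≠ b := by
      intro a b
      by_contra! hno
      have : (Finset.univ : Finset Ω) ⊆ {a, b} := fun c _ => by
        rcases eq_or_ne c a with rfl | hc
        · simp
        · simp [hno c hc]
      have := Finset.card_le_card this
      have := Finset.card_le_two (a := a) (b := b)
      simp at *; omega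
    have htop : G = ⊤ := by
      rw [eq_top_iff, ← Perm.closure_isSwap, Subgroup.closure_le]
      rintro s ⟨u, v, huv, rfl⟩
      obtain ⟨c, hc1, hc2⟩ := hthird x y
      obtain ⟨c', hc1', hc2'⟩ := hthird u v
      obtain ⟨g, hg, g1, g2, -⟩ := h3 x y c u v c' hxy hc1.symm hc2.symm huv hc1'.symm hc2'.symm
      have := hconj g hg
      rwa [← Equiv.swap_apply_apply, g1, g2] at this
    exact htop ▸ le_top
  · have hc3 : h.IsThreeCycle := card_support_eq_three_iff.1 (by omega)
    have key : ∀ q : Perm Ω, q.IsThreeCycle → ∃ x : Ω, q x ≠ x ∧ q (q x) ≠ x ∧ q (q x) ≠ q x ∧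
        ∀ z, z ≠ x → z ≠ q x → z ≠ q (q x) → q z = z := by
      intro q hq
      obtain ⟨x, hx⟩ : ∃ x, x ∈ q.support := Finset.card_pos.1 (by rw [hq.card_support]; norm_num)
      have h3p : q ^ 3 = 1 := by rw [← hq.orderOf]; exact pow_orderOf_eq_one q
      have e3 : q (q (q x)) = x := by
        have := congrArg (fun r : Perm Ω => r x) h3p
        simpa [pow_succ, Perm.mul_apply] using this
      have a1 : q x ≠ x := Perm.mem_support.1 hx
      have a2 : q (q x) ≠ x := fun e => a1 (by rwa [e] at e3)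
      have a3 : q (q x) ≠ q x := fun e => a1 (q.injective e)
      refine ⟨x, a1, a2, a3, fun z z1 z2 z3 => ?_⟩
      by_contra hne
      have hsub : ({z, x, q x, q (q x)} : Finset Ω) ⊆ q.support := by
        intro w hw
        simp only [Finset.mem_insert, Finset.mem_singleton] at hw
        rcases hw with rfl | rfl | rfl | rfl
        · exact Perm.mem_support.2 hne
        · exact hx
        · exact Perm.apply_mem_support.2 hx
        · exact Perm.apply_mem_support.2 (Perm.apply_mem_support.2 hx)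
      have := Finset.card_le_card hsub
      rw [hq.card_support, Finset.card_insert_of_notMem (by simp [z1, z2, z3]),
        Finset.card_insert_of_notMem (by simp [a1.symm, a2.symm]),
        Finset.card_pair a3.symm] at this
      omega
    rw [← Perm.closure_three_cycles_eq_alternating, Subgroup.closure_le]
    intro q hq
    obtain ⟨x, x1, x2, x3, xo⟩ := key h hc3
    obtain ⟨y, y1, y2, y3, yo⟩ := key q hq
    obtain ⟨g, hg, g1, g2, g3⟩ :=
      h3 x (h x) (h (h x)) y (q y) (q (q y)) x1.symm x2.symm x3.symm y1.symm y2.symm y3.symm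
    have e3 : ∀ r : Perm Ω, r.IsThreeCycle → ∀ z, r (r (r z)) = z := fun r hr z => by
      have h3p : r ^ 3 = 1 := by rw [← hr.orderOf]; exact pow_orderOf_eq_one r
      have := congrArg (fun t : Perm Ω => t z) h3p
      simpa [pow_succ, Perm.mul_apply] using this
    have : g * h * g⁻¹ = q := by
      refine Perm.ext fun w => ?_
      obtain ⟨z, rfl⟩ := g.surjective w
      simp only [Perm.mul_apply, inv_app]
      by_cases z1 : z = x
      · rw [z1, g2, g1]
      by_cases z2 : z = h x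
      · rw [z2, g3, g2]
      by_cases z3 : z = h (h x)
      · rw [z3, e3 h hc3, g1, g3, e3 q hq]
      rw [xo z z1 z2 z3, yo _ (fun e => z1 (g.injective (e.trans g1.symm)))
        (fun e => z2 (g.injective (e.trans g2.symm))) (fun e => z3 (g.injective (e.trans g3.symm)))]
    exact this ▸ hconj g hg

lemma alt_false {G K : Subgroup (Perm Ω)} (hA : alternatingGroup Ω ≤ G) (hKG : K ≤ G)
    (hpro : Pro G K) {m : ℕ} (hm : 2 ≤ m) (hn : Fintype.card Ω = 2 * m)
    (hf : (fixF K).card = m) : False := by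
  classical
  have hS : (movF K).card = m := by have := card_fix_add_mov K; omega
  obtain ⟨x, hx⟩ := Finset.card_pos.1 (by omega : 0 < (movF K).card)
  have hO : orbF K x ⊆ movF K := by
    intro y hy
    refine not_mem_fixF.1 fun hyF => not_mem_fixF.2 hx ?_
    obtain ⟨k, hk, rfl⟩ := mem_orbF.1 hy
    have := mem_fixF.1 hyF k⁻¹ (K.inv_mem hk)
    rw [inv_app] at this
    exact this ▸ hyF
  have hcard := Finset.card_le_card hO
  obtain ⟨T, hT, hTc⟩ := Finset.exists_subset_card_eq (show (orbF K x).card ≤ (fixF K).card by omega)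
  obtain ⟨p, hp, q, hq, hpq⟩ := Finset.one_lt_card.1 (by rw [Finset.card_compl]; omega : 1 < Tᶜ.card)
  let e : Perm Ω := ((Finset.equivOfCardEq hTc.symm : {y // y ∈ orbF K x} ≃ {y // y ∈ T})).extendSubtype
  have he : ∀ y ∈ orbF K x, e y ∈ T := fun y hy => Equiv.extendSubtype_mem _ _ hy
  obtain ⟨g, hg, hgT⟩ : ∃ g ∈ G, ∀ y ∈ orbF K x, g y ∈ T := by
    rcases Int.units_eq_one_or (Perm.sign e) with hs | hs
    · exact ⟨e, hA (Perm.mem_alternatingGroup.2 hs), he⟩
    · refine ⟨Equiv.swap p q * e, hA (Perm.mem_alternatingGroup.2 ?_), fun y hy => ?_⟩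
      · rw [Perm.sign_mul, Perm.sign_swap hpq, hs]; rfl
      · rw [Perm.mul_apply, Equiv.swap_apply_of_ne_of_ne]
        · exact he y hy
        · exact fun h => Finset.mem_compl.1 hp (h ▸ he y hy)
        · exact fun h => Finset.mem_compl.1 hq (h ▸ he y hy)
  obtain ⟨y, hy, hym⟩ := hpro.orbit_not_into_fix hKG hx hg
  exact not_mem_fixF.2 hym (hT (hgT y hy))

lemma four_false {G K : Subgroup (Perm Ω)} (h4 : Tr4 G) (h3 : Tr3 G) (htr : IsTrans G)
    (hKG : K ≤ G) (_hK : K ≠ ⊥) (hpro : Pro G K) {m : ℕ} (hm : 4 ≤ m)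
    (hn : Fintype.card Ω = 2 * m) (hf : (fixF K).card = m) : False := by
  classical
  have hS : (movF K).card = m := by have := card_fix_add_mov K; omega
  have hKsupp : ∀ k ∈ K, k.support ⊆ movF K := fun k hk z hz =>
    mem_movF.2 ⟨k, hk, Perm.mem_support.1 hz⟩
  -- an element of odd prime order
  obtain ⟨a, ha, p, hp, hodd, hord⟩ : ∃ a ∈ K, ∃ p : ℕ, p.Prime ∧ p ≠ 2 ∧ orderOf a = p := by
    by_contra! hno
    refine two_group_false htr hKG hpro ?_ (by omega : 1 ≤ m) hn hf
    have hKpos : Nat.card K ≠ 0 := Nat.card_pos.ne'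
    have h2 : ∀ q : ℕ, q.Prime → q ∣ Nat.card K → q = 2 := by
      intro q hq hdvd
      by_contra hne
      have : Fact q.Prime := ⟨hq⟩
      obtain ⟨⟨a, ha⟩, hoa⟩ := exists_prime_orderOf_dvd_card' q hdvd
      exact hno a ha q hq hne (by rw [← hoa, Subgroup.orderOf_mk])
    exact IsPGroup.of_card (Nat.eq_prime_pow_of_unique_prime_dvd hKpos fun {q} hq hd => h2 q hq hd)
  -- minimal degree
  have hex : ∃ k, ∃ h ∈ G, h ≠ 1 ∧ h.support.card = k := ⟨_, a, hKG ha, fun e => by
    rw [e, orderOf_one] at hord; exact hp.one_lt.ne hord, rfl⟩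
  obtain ⟨h₀, hh₀, hh₀1, hh₀c⟩ := Nat.find_spec hex
  set μ := Nat.find hex with hμ
  have hmin : ∀ x ∈ G, x ≠ 1 → μ ≤ x.support.card := fun x hx hx1 =>
    Nat.find_le ⟨x, hx, hx1, rfl⟩
  have ha1 : a ≠ 1 := fun e => by rw [e, orderOf_one] at hord; exact hp.one_lt.ne hord
  have hμm : μ ≤ m := (hmin a (hKG ha) ha1).trans (hS ▸ Finset.card_le_card (hKsupp a ha))
  by_cases hμ3 : μ ≤ 3
  · exact alt_false (alt_le_of_small h3 (by omega) hh₀ hh₀1 (hh₀c ▸ hμ3)) hKG hpro (by omega) hn hf
  have hn4 : 4 ≤ Fintype.card Ω := by omega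
  rcases hμm.lt_or_eq with hlt | heq
  · -- an element of prime order of minimal degree
    obtain ⟨q, hq, hqd⟩ := Nat.exists_prime_and_dvd (n := orderOf h₀)
      (fun e => hh₀1 (orderOf_eq_one_iff.1 e))
    set h := h₀ ^ (orderOf h₀ / q) with hh
    have hh1 : h ≠ 1 := by
      intro e
      have hpos := orderOf_pos h₀
      have hle := Nat.le_of_dvd (Nat.div_pos (Nat.le_of_dvd hpos hqd) hq.pos)
        (orderOf_dvd_of_pow_eq_one e)
      have := Nat.div_lt_self hpos hq.one_lt
      omega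
    have hhq : h ^ q = 1 := by
      rw [hh, ← pow_mul, Nat.div_mul_cancel hqd, pow_orderOf_eq_one]
    have hhG : h ∈ G := G.pow_mem hh₀ _
    have hsupp : h.support.card = μ :=
      le_antisymm ((Finset.card_le_card (Perm.support_pow_le h₀ _)).trans hh₀c.le) (hmin h hhG hh1)
    have hcard : Fintype.card Ω = 2 * μ + 2 * (m - μ) := by omega
    have : Fact q.Prime := ⟨hq⟩
    have hdvd : q ∣ μ := hsupp ▸ dvd_card_of_invariant hhq subset_rfl
      (fun z hz => Perm.apply_mem_support.2 hz)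
    by_cases hq2 : q = 2
    · subst hq2
      exact single_false h4 hn4 hq hhG hhq hsupp hcard hmin (fun h0 => by omega)
        (fun z hz => rest_two hhq rfl hz) (by rw [hsupp]; exact cert_two (by omega) hdvd (by omega) (dvd_mul_right 2 _))
    · exact single_false h4 hn4 hq hhG hhq hsupp hcard hmin (fun h0 => by omega)
        (fun z hz => rest_odd hhq (hq.odd_of_ne_two hq2) rfl hz)
        (by rw [hsupp]; exact cert_odd hq hq2 hdvd (by omega) (by omega) (dvd_mul_right 2 _))
  · -- the nontrivial elements of `K` have the minimal degree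
    have hfull : ∀ k ∈ K, k ≠ 1 → k.support = movF K := fun k hk hk1 =>
      Finset.eq_of_subset_of_card_le (hKsupp k hk) (by
        rw [hS, ← heq]; exact hmin k (hKG hk) hk1)
    have : Fact p.Prime := ⟨hp⟩
    have hap : a ^ p = 1 := hord ▸ pow_orderOf_eq_one a
    have has := hfull a ha ha1
    have hsupp : a.support.card = m := by rw [has, hS]
    have hdvd : p ∣ m := hsupp ▸ dvd_card_of_invariant hap subset_rfl
      (fun z hz => Perm.apply_mem_support.2 hz)
    have htau : ∀ g : G, 1 ≤ tau (movF K) G g := by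
      intro g
      obtain ⟨x, hx⟩ := Finset.card_pos.1 (by omega : 0 < (movF K).card)
      obtain ⟨y, hy, hym⟩ := hpro.orbit_not_into_fix hKG hx (G.inv_mem g.2)
      refine Finset.card_pos.2 ⟨y, Finset.mem_filter.2 ⟨?_, hym⟩⟩
      obtain ⟨k, hk, rfl⟩ := mem_orbF.1 hy
      refine not_mem_fixF.1 fun hF => not_mem_fixF.2 hx ?_
      have := mem_fixF.1 hF k⁻¹ (K.inv_mem hk)
      rw [inv_app] at this
      exact this ▸ hF
    have hodd' := hp.odd_of_ne_two hodd
    have hmin' : ∀ x ∈ G, x ≠ 1 → m ≤ x.support.card := heq ▸ hmin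
    by_cases h12 : m = 12
    · subst h12
      have hp3 : p = 3 := by
        have := Nat.le_of_dvd (by omega) hdvd
        interval_cases p <;> first | rfl | (exfalso; revert hp; decide) | omega
      subst hp3
      obtain ⟨⟨b, hb⟩, hob⟩ : ∃ b : K, orderOf b = 2 := by
        refine exists_prime_orderOf_dvd_card' 2 ?_
        have hsemi : ∀ x ∈ movF K, (orbF K x).card = Nat.card K := by
          intro x hx
          rw [← Nat.card_eq_finsetCard]
          refine (Nat.card_congr (Equiv.ofBijective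
            (fun k : K => (⟨(k : Perm Ω) x, mem_orbF.2 ⟨k, k.2, rfl⟩⟩ : {y // y ∈ orbF K x}))
            ⟨fun k k' e => ?_, fun ⟨y, hy⟩ => ?_⟩)).symm
          · by_contra hne
            have e' : (k : Perm Ω) x = (k' : Perm Ω) x := congrArg Subtype.val e
            have hk1 : ((k' : Perm Ω)⁻¹ * k) ≠ 1 := fun h =>
              hne (Subtype.ext (inv_mul_eq_one.1 h).symm)
            have hs := hfull _ (K.mul_mem (K.inv_mem k'.2) k.2) hk1
            exact (mov_iff hs).2 hx (by rw [Perm.mul_apply, e', inv_app])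
          · obtain ⟨k, hk, rfl⟩ := mem_orbF.1 hy
            exact ⟨⟨k, hk⟩, rfl⟩
        have hsub : ∀ x ∈ movF K, orbF K x ⊆ movF K := by
          intro x hx y hy
          obtain ⟨k, hk, rfl⟩ := mem_orbF.1 hy
          refine not_mem_fixF.1 fun hF => not_mem_fixF.2 hx ?_
          have := mem_fixF.1 hF k⁻¹ (K.inv_mem hk)
          rw [inv_app] at this
          exact this ▸ hF
        have hdiv : Nat.card K ∣ 12 := by
          have hsum := sum_orbs hsub (movF K)
          rw [Finset.inter_self, hS] at hsum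
          rw [hsum]
          refine Finset.dvd_sum fun Δ hΔ => ?_
          obtain ⟨x, hx, rfl⟩ := Finset.mem_image.1 hΔ
          rw [Finset.inter_eq_right.2 (hsub x hx), hsemi x hx]
        by_contra h2
        obtain ⟨x, hx⟩ := Finset.card_pos.1 (by omega : 0 < (movF K).card)
        have hle3 : (orbF K x).card ≤ 3 := by
          rw [hsemi x hx]
          have := Nat.le_of_dvd (by norm_num) hdiv
          interval_cases h : Nat.card K <;> omega
        -- a small orbit is moved into the fixed point set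
        obtain ⟨T, hT, hTc⟩ := Finset.exists_subset_card_eq
          (show (orbF K x).card ≤ (fixF K).card by omega)
        let u : {y // y ∈ orbF K x} ↪ Ω := Function.Embedding.subtype _
        let v : {y // y ∈ orbF K x} ↪ Ω :=
          (Finset.equivOfCardEq hTc.symm).toEmbedding.trans (Function.Embedding.subtype _)
        obtain ⟨g, hg, hgv⟩ := tr4_emb h4 hn4 (by rw [Fintype.card_coe]; omega) u v
        obtain ⟨y, hy, hym⟩ := hpro.orbit_not_into_fix hKG hx hg
        refine not_mem_fixF.2 hym (hT ?_)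
        have := hgv ⟨y, hy⟩
        simp [u, v] at this
        rw [this]
        exact Finset.coe_mem _
      have hb' : orderOf b = 2 := by rw [← hob, Subgroup.orderOf_mk]
      have hb2 : b ^ 2 = 1 := hb' ▸ pow_orderOf_eq_one b
      have hbs := hfull b hb (fun e => by rw [e, orderOf_one] at hb'; omega)
      refine config_false h4 hn4 hS (j := 0) (by omega) (hKG hb) (hKG ha) hbs has hmin'
        (fun z hz => rest_two hb2 hbs hz) (fun z hz => rest_odd hap hodd' has hz)
        (fun _ g => htau g) (mp := 6) ?_ (by rw [hS]; exact cert_mix12)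
      rintro t ⟨T, hT, hinv, rfl⟩ ⟨T', hT', hinv', e⟩
      have h2 : 2 ∣ T.card := dvd_card_of_invariant hb2 (hbs ▸ hT) hinv
      have h3' : 3 ∣ T'.card := dvd_card_of_invariant hap (has ▸ hT') hinv'
      omega
    · exact single_false h4 hn4 hp (hKG ha) hap hsupp (j := 0) (by omega) hmin'
        (fun _ => has ▸ htau) (fun z hz => rest_odd hap hodd' rfl hz)
        (by rw [hsupp]; exact cert_zero hp hodd hdvd hm h12)

end Cfsg.Agent.PronormalFix
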