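import Cfsg.Agent.Lib.PronormalFix.Slack2

/-!
From `n = 2f` to triple transitivity, and to quadruple transitivity or quadruples (S3399).
-/

namespace Cfsg.Agent.PronormalFix

open Equiv Equiv.Perm

variable {Ω : Type} [Fintype Ω] [DecidableEq Ω]

/-- The stabiliser of three points fixes a fourth. -/
def QuadP (G : Subgroup (Perm Ω)) : Prop :=
  ∀ a b c : Ω, a ≠ b → a ≠ c → b ≠ c → ∃ d, d ≠ a ∧ d ≠ b ∧ d ≠ c ∧
    ∀ g ∈ G, g a = a → g b = b → g c = c → g d = d

/-- Stabiliser of three points. -/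
def stab3 (G : Subgroup (Perm Ω)) (a b c : Ω) : Subgroup (Perm Ω) := stab (stab (stab G a) b) c

omit [Fintype Ω] [DecidableEq Ω] in
lemma mem_stab3 {G : Subgroup (Perm Ω)} {a b c : Ω} {g : Perm Ω} :
    g ∈ stab3 G a b c ↔ g ∈ G ∧ g a = a ∧ g b = b ∧ g c = c := by
  simp only [stab3, mem_stab, and_assoc]

lemma tr3_of_half {n m : ℕ} (hn : Bound n) (hcard : Fintype.card Ω = n) (hnm : n = 2 * m)
    {G K : Subgroup (Perm Ω)} (htr : IsTrans G) (h2 : Tr2 G) (hKG : K ≤ G) (hK : K ≠ ⊥)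
    (hpro : Pro G K) (hf : (fixF K).card = m) (hm : 1 ≤ m) : Tr3 G := by
  classical
  obtain ⟨a, ha⟩ := Finset.card_pos.1 (by omega : 0 < (fixF K).card)
  let M := stab G a
  have hKM : K ≤ M := fun k hk => mem_stab.2 ⟨hKG hk, mem_fixF.1 ha k hk⟩
  have hp : ∀ g ∈ M, ∀ x, g x ≠ a ↔ x ≠ a := fun g hg x => by
    conv_lhs => rw [← (mem_stab.1 hg).2, g.injective.ne_iff]
  let φ := resHom M (· ≠ a) hp
  have hD : Fintype.card {x : Ω // x ≠ a} = n - 1 := by
    rw [Fintype.card_subtype_compl, hcard, Fintype.card_subtype_eq]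
  have hne : (K.subgroupOf M).map φ ≠ ⊥ := by
    intro hb
    refine hK ((Subgroup.eq_bot_iff_forall _).2 fun k hk => Perm.ext fun x => ?_)
    rcases eq_or_ne x a with rfl | hx
    · exact mem_fixF.1 ha k hk
    · exact congrArg (fun p : Perm {x : Ω // x ≠ a} => ((p ⟨x, hx⟩ : {x : Ω // x ≠ a}) : Ω))
        ((Subgroup.eq_bot_iff_forall _).1 hb (φ ⟨k, hKM hk⟩) ⟨_, Subgroup.mem_subgroupOf.2 hk, rfl⟩)
  have h22 : Tr2 ((⊤ : Subgroup M).map φ) := by
    refine tight (hn.mono (by omega : n - 1 ≤ n)) hD (K := (K.subgroupOf M).map φ) ?_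
      (Subgroup.map_mono le_top) hne (((hpro.mono (stab_le G a)).subgroupOf hKM).image φ) ?_
    · rintro ⟨x, hx⟩ ⟨y, hy⟩
      obtain ⟨g, hg, rfl⟩ := h2.stab_trans a hx hy
      exact ⟨φ ⟨g, hg⟩, ⟨⟨g, hg⟩, trivial, rfl⟩, rfl⟩
    · rw [fixF_res hKM (· ≠ a) hp, Finset.filter_ne', Finset.card_erase_of_mem ha, hf]
      omega
  intro x y z x' y' z' hxy hxz hyz hxy' hxz' hyz'
  obtain ⟨g, hg, hgx⟩ := htr x a
  obtain ⟨g', hg', hgx'⟩ := htr x' a
  obtain ⟨p, ⟨h, -, rfl⟩, e1, e2⟩ := h22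
    ⟨g y, fun e => hxy (g.injective (hgx.trans e.symm))⟩
    ⟨g z, fun e => hxz (g.injective (hgx.trans e.symm))⟩
    ⟨g' y', fun e => hxy' (g'.injective (hgx'.trans e.symm))⟩
    ⟨g' z', fun e => hxz' (g'.injective (hgx'.trans e.symm))⟩
    (fun e => hyz (g.injective (congrArg Subtype.val e)))
    (fun e => hyz' (g'.injective (congrArg Subtype.val e)))
  have e1' : (h : Perm Ω) (g y) = g' y' := congrArg Subtype.val e1
  have e2' : (h : Perm Ω) (g z) = g' z' := congrArg Subtype.val e2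
  refine ⟨g'⁻¹ * h * g, G.mul_mem (G.mul_mem (G.inv_mem hg') (mem_stab.1 h.2).1) hg, ?_, ?_, ?_⟩
  · simp only [Perm.mul_apply, hgx, (mem_stab.1 h.2).2]
    exact (Equiv.symm_apply_eq g').2 hgx'.symm
  · simp only [Perm.mul_apply, e1']
    exact g'.symm_apply_apply y'
  · simp only [Perm.mul_apply, e2']
    exact g'.symm_apply_apply z'

lemma stab3_conj {G : Subgroup (Perm Ω)} {g : Perm Ω} (hg : g ∈ G) (a b c z : Ω) :
    orbF (stab3 G (g a) (g b) (g c)) (g z) = (orbF (stab3 G a b c) z).image g := by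
  ext u
  obtain ⟨v, rfl⟩ := g.surjective u
  simp only [Finset.mem_image, g.injective.eq_iff, exists_eq_right, mem_orbF, mem_stab3]
  constructor
  · rintro ⟨h, ⟨hh, h1, h2, h3⟩, e⟩
    exact ⟨g⁻¹ * h * g, ⟨G.mul_mem (G.mul_mem (G.inv_mem hg) hh) hg, by simp [Perm.mul_apply, h1],
      by simp [Perm.mul_apply, h2], by simp [Perm.mul_apply, h3]⟩, by simp [Perm.mul_apply, e]⟩
  · rintro ⟨h, ⟨hh, h1, h2, h3⟩, e⟩
    exact ⟨g * h * g⁻¹, ⟨G.mul_mem (G.mul_mem hg hh) (G.inv_mem hg), by simp [Perm.mul_apply, h1],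
      by simp [Perm.mul_apply, h2], by simp [Perm.mul_apply, h3]⟩, by simp [Perm.mul_apply, e]⟩

open Classical in
/-- The short suborbit of three points. -/
noncomputable def shortSet (G : Subgroup (Perm Ω)) (r : ℕ) (a b c : Ω) : Finset Ω :=
  Finset.univ.filter (fun z => z ≠ a ∧ z ≠ b ∧ z ≠ c ∧ (orbF (stab3 G a b c) z).card = r)

lemma mem_shortSet {G : Subgroup (Perm Ω)} {r : ℕ} {a b c z : Ω} : z ∈ shortSet G r a b c ↔
    z ≠ a ∧ z ≠ b ∧ z ≠ c ∧ (orbF (stab3 G a b c) z).card = r := by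
  simp [shortSet]

/-- The bipartition configuration is impossible. -/
lemma halves_false {m : ℕ} (hm : 3 ≤ m) (hn : Fintype.card Ω = 2 * m) (G : Subgroup (Perm Ω))
    (hcardQ : ∀ a b c : Ω, a ≠ b → a ≠ c → b ≠ c → (shortSet G (m - 2) a b c).card = m - 2)
    (hP : ∀ a b c d z : Ω, a ≠ b → a ≠ c → b ≠ c → d ∈ shortSet G (m - 2) a b c →
      z ≠ a → z ≠ b → z ≠ c → z ≠ d →
      (z ∈ shortSet G (m - 2) a b c ↔ z ∈ shortSet G (m - 2) a b d)) : False := by
  classical
  set Q := shortSet G (m - 2) with hQ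
  have hsym : ∀ a b c d, a ≠ b → a ≠ c → b ≠ c → d ∈ Q a b c → c ∈ Q a b d := by
    intro a b c d hab hac hbc hd
    by_contra hc
    obtain ⟨hda, hdb, hdc, -⟩ := mem_shortSet.1 hd
    have hsub : Q a b d ⊆ (Q a b c).erase d := by
      intro z hz
      obtain ⟨h1, h2, h3, -⟩ := mem_shortSet.1 hz
      have hzc : z ≠ c := fun e => hc (e ▸ hz)
      exact Finset.mem_erase.2 ⟨h3, (hP a b c d z hab hac hbc hd h1 h2 hzc h3).2 hz⟩
    have := Finset.card_le_card hsub
    rw [Finset.card_erase_of_mem hd, hcardQ a b c hab hac hbc,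
      hcardQ a b d hab (Ne.symm hda) (Ne.symm hdb)] at this
    omega
  obtain ⟨a⟩ : Nonempty Ω := Fintype.card_pos_iff.1 (by omega)
  let L : Ω → Ω → Finset Ω := fun x y => insert x (insert y (Q a x y))
  have hLsym : ∀ x y, L x y = L y x := by
    intro x y
    have : Q a x y = Q a y x := by
      ext z
      have e : stab3 G a x y = stab3 G a y x := by
        ext g; simp only [mem_stab3]; tauto
      simp only [Q, mem_shortSet, e]; tauto
    simp only [L, this, Finset.insert_comm]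
  have hLcard : ∀ x y, x ≠ a → y ≠ a → x ≠ y → (L x y).card = m := by
    intro x y hx hy hxy
    simp only [L]
    rw [Finset.card_insert_of_notMem (by simp [hxy, Q, mem_shortSet]),
      Finset.card_insert_of_notMem (by simp [Q, mem_shortSet]),
      hcardQ a x y (Ne.symm hx) (Ne.symm hy) hxy]
    omega
  have hstep : ∀ x y d, x ≠ a → y ≠ a → x ≠ y → d ∈ L x y → d ≠ x → L x d = L x y := by
    intro x y d hx hy hxy hd hdx
    simp only [L, Finset.mem_insert] at hd
    rcases hd with rfl | rfl | hd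
    · exact absurd rfl hdx
    · rfl
    obtain ⟨hda, -, hdy, -⟩ := mem_shortSet.1 hd
    symm
    refine Finset.eq_of_subset_of_card_le ?_ (by rw [hLcard x d hx hda (Ne.symm hdx), hLcard x y hx hy hxy])
    intro z hz
    simp only [L, Finset.mem_insert] at hz ⊢
    rcases hz with rfl | rfl | hz
    · exact Or.inl rfl
    · exact Or.inr (Or.inr (hsym a x z d (Ne.symm hx) (Ne.symm hy) hxy hd))
    · rcases eq_or_ne z d with h | hzd
      · exact Or.inr (Or.inl h)
      · obtain ⟨h1, h2, h3, -⟩ := mem_shortSet.1 hz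
        exact Or.inr (Or.inr ((hP a x y d z (Ne.symm hx) (Ne.symm hy) hxy hd h1 h2 h3 hzd).1 hz))
  have hL1 : ∀ x y u v, x ≠ a → y ≠ a → x ≠ y → u ∈ L x y → v ∈ L x y → u ≠ v → L u v = L x y := by
    intro x y u v hx hy hxy hu hv huv
    have hua : u ≠ a := by
      intro e; subst e
      simp [L, Q, mem_shortSet, Ne.symm hx, Ne.symm hy] at hu
    rcases eq_or_ne u x with rfl | hux
    · exact hstep u y v hx hy hxy hv (Ne.symm huv)
    have e1 : L u x = L x y := by rw [hLsym, hstep x y u hx hy hxy hu hux]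
    rw [hstep u x v hua hx hux (e1 ▸ hv) (Ne.symm huv), e1]
  have hself : ∀ x y, x ∈ L x y ∧ y ∈ L x y := fun x y => by simp [L]
  have hLa : ∀ x y, x ≠ a → y ≠ a → a ∉ L x y := fun x y hx hy => by
    simp [L, Q, mem_shortSet, Ne.symm hx, Ne.symm hy]
  have hL2 : ∀ x c e w, x ≠ a → c ≠ a → x ≠ c → e ≠ a → w ≠ a → e ∉ L x c → w ∉ L x c → L x e = L x w := by
    intro x c e w hx hc hxc he hw hec hwc
    have hxw : x ≠ w := fun h => hwc (h ▸ (hself x c).1)
    have hxe : x ≠ e := fun h => hec (h ▸ (hself x c).1)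
    rcases eq_or_ne e w with rfl | hew
    · rfl
    suffices e ∈ L x w from hstep x w e hx hw hxw this (Ne.symm hxe)
    by_contra hcon
    have hsub : L x w ∪ L x c ⊆ (Finset.univ.erase a).erase e := by
      intro z hz
      refine Finset.mem_erase.2 ⟨fun h => ?_, Finset.mem_erase.2 ⟨fun h => ?_, Finset.mem_univ z⟩⟩
      · subst h
        rcases Finset.mem_union.1 hz with h | h
        · exact hcon h
        · exact hec h
      · subst h
        rcases Finset.mem_union.1 hz with h | h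
        · exact hLa x w hx hw h
        · exact hLa x c hx hc h
    have hint : L x w ∩ L x c ⊆ {x} := by
      intro z hz
      obtain ⟨h1, h2⟩ := Finset.mem_inter.1 hz
      rw [Finset.mem_singleton]
      by_contra hzx
      exact hwc (by
        rw [← hstep x c z hx hc hxc h2 hzx, hstep x w z hx hw hxw h1 hzx]; exact (hself x w).2)
    have h1 := Finset.card_le_card hsub
    have h2 := Finset.card_le_card hint
    have h3 := Finset.card_union_add_card_inter (L x w) (L x c)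
    rw [hLcard x w hx hw hxw, hLcard x c hx hc hxc] at h3
    rw [Finset.card_erase_of_mem (Finset.mem_erase.2 ⟨he, Finset.mem_univ e⟩),
      Finset.card_erase_of_mem (Finset.mem_univ a), Finset.card_univ, hn] at h1
    rw [Finset.card_singleton] at h2
    omega
  obtain ⟨x0, hx0⟩ : ∃ x, x ≠ a := Fintype.exists_ne_of_one_lt_card (by omega) a
  obtain ⟨y0, hy0a, hy0⟩ : ∃ y, y ≠ a ∧ y ≠ x0 := by
    have : ((Finset.univ.erase a).erase x0).Nonempty := Finset.card_pos.1 (by
      rw [Finset.card_erase_of_mem (Finset.mem_erase.2 ⟨hx0, Finset.mem_univ _⟩),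
        Finset.card_erase_of_mem (Finset.mem_univ a), Finset.card_univ, hn]
      omega)
    obtain ⟨y, hy⟩ := this
    simp only [Finset.mem_erase] at hy
    exact ⟨y, hy.2.1, hy.1⟩
  set L0 := L x0 y0 with hL0
  obtain ⟨z, hza, hz⟩ : ∃ z, z ≠ a ∧ z ∉ L0 := by
    by_contra h
    push Not at h
    have := Finset.card_le_card (fun z hz => h z (Finset.ne_of_mem_erase hz) : Finset.univ.erase a ⊆ L0)
    rw [Finset.card_erase_of_mem (Finset.mem_univ a), Finset.card_univ, hn,
      hLcard x0 y0 hx0 hy0a (Ne.symm hy0)] at this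
    omega
  obtain ⟨b1, h1, b2, h2, b3, h3, h12, h13, h23⟩ := Finset.two_lt_card.1
    (by rw [hLcard x0 y0 hx0 hy0a (Ne.symm hy0)]; omega : 2 < L0.card)
  have hne : ∀ b ∈ L0, b ≠ a := fun b hb e => hLa x0 y0 hx0 hy0a (e ▸ hb)
  have key : ∀ b b', b ∈ L0 → b' ∈ L0 → b ≠ b' → b' ∉ L z b := by
    intro b b' hb hb' hbb h
    have e1 : L b b' = L z b := hL1 z b b b' hza (hne b hb) (fun e => hz (e ▸ hb)) (hself z b).2 h hbb
    rw [hL1 x0 y0 b b' hx0 hy0a (Ne.symm hy0) hb hb' hbb] at e1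
    exact hz (by rw [hL0, e1]; exact (hself z b).1)
  have e := hL2 z b1 b2 b3 hza (hne b1 h1) (fun e => hz (e ▸ h1)) (hne b2 h2) (hne b3 h3)
    (key b1 b2 h1 h2 h12) (key b1 b3 h1 h3 h13)
  exact key b2 b3 h2 h3 h23 (by rw [e]; exact (hself z b3).2)

/-- Quadruple transitivity or quadruples. -/
lemma tr4_or_quad {n m : ℕ} (hn : Bound n) (hcard : Fintype.card Ω = n) (hnm : n = 2 * m)
    {G K : Subgroup (Perm Ω)} (h3 : Tr3 G) (hKG : K ≤ G) (hK : K ≠ ⊥)
    (hpro : Pro G K) (hf : (fixF K).card = m) (hm : 3 ≤ m) : Tr4 G ∨ QuadP G := by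
  classical
  obtain ⟨a, ha, b, hb, hab⟩ := Finset.one_lt_card.1 (by omega : 1 < (fixF K).card)
  let M := stab (stab G a) b
  have hKM : K ≤ M := fun k hk => mem_stab.2
    ⟨mem_stab.2 ⟨hKG hk, mem_fixF.1 ha k hk⟩, mem_fixF.1 hb k hk⟩
  have hMG : M ≤ G := (stab_le _ _).trans (stab_le _ _)
  let p : Ω → Prop := fun x => x ≠ a ∧ x ≠ b
  have hp : ∀ g ∈ M, ∀ x, p (g x) ↔ p x := fun g hg x => by
    show (g x ≠ a ∧ g x ≠ b) ↔ (x ≠ a ∧ x ≠ b)
    conv_lhs => rw [← (mem_stab.1 (mem_stab.1 hg).1).2]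
    rw [g.injective.ne_iff]
    conv_lhs => rw [← (mem_stab.1 hg).2]
    rw [g.injective.ne_iff]
  let φ := resHom M p hp
  let G' := (⊤ : Subgroup M).map φ
  have hD : Fintype.card {x : Ω // p x} = n - 2 := by
    rw [Fintype.card_subtype]
    have : Finset.univ.filter p = ({a, b} : Finset Ω)ᶜ := by ext x; simp [p]
    rw [this, Finset.card_compl, Finset.card_pair hab, hcard]
  have hne : (K.subgroupOf M).map φ ≠ ⊥ := by
    intro hb0
    refine hK ((Subgroup.eq_bot_iff_forall _).2 fun k hk => Perm.ext fun x => ?_)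
    by_cases hx : p x
    · exact congrArg (fun q : Perm {x : Ω // p x} => ((q ⟨x, hx⟩ : {x : Ω // p x}) : Ω))
        ((Subgroup.eq_bot_iff_forall _).1 hb0 (φ ⟨k, hKM hk⟩) ⟨_, Subgroup.mem_subgroupOf.2 hk, rfl⟩)
    · simp only [p, not_and_or, not_not] at hx
      rcases hx with rfl | rfl
      · exact mem_fixF.1 ha k hk
      · exact mem_fixF.1 hb k hk
  have hfD : (fixF ((K.subgroupOf M).map φ)).card = m - 2 := by
    rw [fixF_res hKM p hp]
    have : (fixF K).filter p = ((fixF K).erase a).erase b := by ext x; simp [p]; tauto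
    rw [this, Finset.card_erase_of_mem (Finset.mem_erase.2 ⟨Ne.symm hab, hb⟩),
      Finset.card_erase_of_mem ha, hf]
    omega
  have htr' : IsTrans G' := by
    rintro ⟨x, hx⟩ ⟨y, hy⟩
    obtain ⟨g, hg, h1, h2, h3'⟩ := h3 a b x a b y hab (Ne.symm hx.1) (Ne.symm hx.2) hab
      (Ne.symm hy.1) (Ne.symm hy.2)
    exact ⟨φ ⟨g, mem_stab.2 ⟨mem_stab.2 ⟨hg, h1⟩, h2⟩⟩, ⟨_, trivial, rfl⟩, Subtype.ext h3'⟩
  have hstab : ∀ c : {x : Ω // p x}, ∀ q, q ∈ stab G' c ↔
      ∃ g : M, (g : Perm Ω) c = c ∧ φ g = q := by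
    intro c q
    constructor
    · intro hq
      obtain ⟨⟨g, -, rfl⟩, hgc⟩ := mem_stab.1 hq
      exact ⟨g, congrArg Subtype.val hgc, rfl⟩
    · rintro ⟨g, hgc, rfl⟩
      exact mem_stab.2 ⟨⟨g, trivial, rfl⟩, Subtype.ext hgc⟩
  have htrans : ∀ x y z : Ω, x ≠ y → x ≠ z → y ≠ z → ∃ g ∈ G, g a = x ∧ g b = y ∧
      ∃ c : {u : Ω // p u}, g c = z := by
    intro x y z hxy hxz hyz
    obtain ⟨g, hg, h1, h2⟩ : ∃ g ∈ G, g a = x ∧ g b = y := by
      obtain ⟨w, hw⟩ : ∃ w, p w := by
        have : 0 < Fintype.card {u : Ω // p u} := by omega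
        obtain ⟨⟨w, hw⟩⟩ := Fintype.card_pos_iff.1 this
        exact ⟨w, hw⟩
      obtain ⟨g, hg, h1, h2, -⟩ := h3 a b w x y z hab (Ne.symm hw.1) (Ne.symm hw.2) hxy hxz hyz
      exact ⟨g, hg, h1, h2⟩
    refine ⟨g, hg, h1, h2, ⟨g⁻¹ z, ?_, ?_⟩, by simp⟩
    · intro e
      exact hxz (by rw [← h1, ← e]; simp)
    · intro e
      exact hyz (by rw [← h2, ← e]; simp)
  rcases slack2 (hn.mono (Nat.sub_le n 2)) hD htr' (Subgroup.map_mono le_top) hne
      (((hpro.mono hMG).subgroupOf hKM).image φ) (by rw [hfD]; omega) (by rw [hfD]; omega) with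
    h22 | hsing | hhalf
  · left
    intro x y z w x' y' z' w' hnd hnd'
    simp only [List.nodup_cons, List.mem_cons, List.not_mem_nil, or_false, not_or,
      List.nodup_nil, and_true, not_false_eq_true] at hnd hnd'
    obtain ⟨⟨hxy, hxz, hxw⟩, ⟨hyz, hyw⟩, hzw⟩ := hnd
    obtain ⟨⟨hxy', hxz', hxw'⟩, ⟨hyz', hyw'⟩, hzw'⟩ := hnd'
    obtain ⟨g, hg, hgx, hgy, c, hgc⟩ := htrans x y z hxy hxz hyz
    obtain ⟨g', hg', hgx', hgy', c', hgc'⟩ := htrans x' y' z' hxy' hxz' hyz'
    have hd : p (g⁻¹ w) := ⟨fun e => hxw (by rw [← hgx, ← e]; simp),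
      fun e => hyw (by rw [← hgy, ← e]; simp)⟩
    have hd' : p (g'⁻¹ w') := ⟨fun e => hxw' (by rw [← hgx', ← e]; simp),
      fun e => hyw' (by rw [← hgy', ← e]; simp)⟩
    obtain ⟨q, ⟨h, -, rfl⟩, e1, e2⟩ := h22 c ⟨_, hd⟩ c' ⟨_, hd'⟩
      (fun e => hzw (by rw [← hgc, e]; simp))
      (fun e => hzw' (by rw [← hgc', e]; simp))
    have e1' : (h : Perm Ω) c = c' := congrArg Subtype.val e1
    have e2' : (h : Perm Ω) (g⁻¹ w) = g'⁻¹ w' := congrArg Subtype.val e2
    refine ⟨g' * h * g⁻¹, G.mul_mem (G.mul_mem hg' (hMG h.2)) (G.inv_mem hg), ?_, ?_, ?_, ?_⟩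
    · simp [Perm.mul_apply, ← hgx, ← hgx', (mem_stab.1 (mem_stab.1 h.2).1).2]
    · simp [Perm.mul_apply, ← hgy, ← hgy', (mem_stab.1 h.2).2]
    · simp [Perm.mul_apply, ← hgc, ← hgc', e1']
    · simp only [Perm.mul_apply, e2']
      simp
  · right
    intro x y z hxy hxz hyz
    obtain ⟨g, hg, hgx, hgy, c, hgc⟩ := htrans x y z hxy hxz hyz
    obtain ⟨⟨d, hd⟩, hdc, hfix⟩ := hsing c
    refine ⟨g d, fun e => hd.1 (g.injective (e.trans hgx.symm)),
      fun e => hd.2 (g.injective (e.trans hgy.symm)),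
      fun e => hdc (Subtype.ext (g.injective (e.trans hgc.symm))), fun u hu h1 h2 h3' => ?_⟩
    have hu' : g⁻¹ * u * g ∈ M := mem_stab.2 ⟨mem_stab.2
      ⟨G.mul_mem (G.mul_mem (G.inv_mem hg) hu) hg, by simp [Perm.mul_apply, hgx, h1, Equiv.symm_apply_eq]⟩,
        by simp [Perm.mul_apply, hgy, h2, Equiv.symm_apply_eq]⟩
    have := hfix (φ ⟨_, hu'⟩) ((hstab c _).2 ⟨⟨_, hu'⟩, by simp [Perm.mul_apply, hgc, h3', Equiv.symm_apply_eq], rfl⟩)
    have e : (g⁻¹ * u * g) d = d := congrArg Subtype.val this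
    simpa [Perm.mul_apply, Equiv.symm_apply_eq] using e
  · exfalso
    rw [hfD] at hhalf
    have horbD : ∀ c u : {x : Ω // p x}, orbF (stab3 G a b c) u
        = (orbF (stab G' c) u).map (Function.Embedding.subtype p) := by
      intro c u
      ext v
      simp only [mem_orbF, Finset.mem_map, Function.Embedding.coe_subtype, mem_stab3]
      constructor
      · rintro ⟨g, ⟨hg, h1, h2, h3'⟩, e⟩
        have hgM : g ∈ M := mem_stab.2 ⟨mem_stab.2 ⟨hg, h1⟩, h2⟩
        exact ⟨φ ⟨g, hgM⟩ u, ⟨φ ⟨g, hgM⟩, (hstab c _).2 ⟨⟨g, hgM⟩, h3', rfl⟩, rfl⟩, e⟩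
      · rintro ⟨v, ⟨q, hq, rfl⟩, rfl⟩
        obtain ⟨g, hgc, rfl⟩ := (hstab c q).1 hq
        exact ⟨g, ⟨hMG g.2, (mem_stab.1 (mem_stab.1 g.2).1).2, (mem_stab.1 g.2).2, hgc⟩, rfl⟩
    have hQD : ∀ c : {x : Ω // p x}, ∀ v, v ∈ shortSet G (m - 2) a b c ↔
        ∃ u : {x : Ω // p x}, u ≠ c ∧ (orbF (stab G' c) u).card = m - 2 ∧ (u : Ω) = v := by
      intro c v
      rw [mem_shortSet]
      constructor
      · rintro ⟨h1, h2, h3', h4⟩
        refine ⟨⟨v, h1, h2⟩, fun e => h3' (congrArg Subtype.val e), ?_, rfl⟩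
        rw [← h4, horbD c ⟨v, h1, h2⟩, Finset.card_map]
      · rintro ⟨u, h1, h2, rfl⟩
        exact ⟨u.2.1, u.2.2, fun e => h1 (Subtype.ext e), by rw [horbD c u, Finset.card_map, h2]⟩
    have himg : ∀ g ∈ G, ∀ x y z u, (g u ∈ shortSet G (m - 2) (g x) (g y) (g z) ↔
        u ∈ shortSet G (m - 2) x y z) := by
      intro g hg x y z u
      simp only [mem_shortSet, g.injective.ne_iff, stab3_conj hg,
        Finset.card_image_of_injective _ g.injective]
    refine halves_false hm (hcard.trans hnm) G ?_ ?_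
    · intro x y z hxy hxz hyz
      obtain ⟨g, hg, rfl, rfl, c, rfl⟩ := htrans x y z hxy hxz hyz
      have : shortSet G (m - 2) (g a) (g b) (g c) = (shortSet G (m - 2) a b c).image g := by
        ext u
        obtain ⟨v, rfl⟩ := g.surjective u
        simp [himg g hg, g.injective.eq_iff]
      rw [this, Finset.card_image_of_injective _ g.injective]
      obtain ⟨D1, D2, hc1, hc2, -, hcov, -⟩ := hhalf c
      rw [show shortSet G (m - 2) a b c = D2.map (Function.Embedding.subtype p) from ?_,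
        Finset.card_map, hc2]
      ext v
      rw [hQD, Finset.mem_map]
      constructor
      · rintro ⟨u, hu, hcu, rfl⟩
        refine ⟨u, ?_, rfl⟩
        rcases hcov u hu with e | e
        · rw [e, hc1] at hcu; omega
        · exact e ▸ self_mem_orbF _ u
      · rintro ⟨u, hu, rfl⟩
        have huc : u ≠ c := by
          intro e
          obtain ⟨w, hw⟩ : ∃ w, w ≠ c := Fintype.exists_ne_of_one_lt_card (by omega) c
          have hcc : ∀ v, v ≠ c → c ∉ orbF (stab G' c) v := by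
            intro v hv hcv
            obtain ⟨q, hq, hqe⟩ := mem_orbF.1 hcv
            exact hv (q.injective (hqe.trans (mem_stab.1 hq).2.symm))
          by_cases hex : ∃ v, v ≠ c ∧ orbF (stab G' c) v = D2
          · obtain ⟨v, hv, hve⟩ := hex
            exact hcc v hv (hve ▸ e ▸ hu)
          · have : Finset.univ.erase c ⊆ D1 := by
              intro v hv
              have hv' := Finset.ne_of_mem_erase hv
              rcases hcov v hv' with e' | e'
              · exact e' ▸ self_mem_orbF _ v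
              · exact absurd ⟨v, hv', e'⟩ hex
            have := Finset.card_le_card this
            rw [Finset.card_erase_of_mem (Finset.mem_univ c), Finset.card_univ, hD, hc1] at this
            omega
        refine ⟨u, huc, ?_, rfl⟩
        rcases hcov u huc with e | e
        · exfalso
          have h1 : u ∈ D1 := e ▸ self_mem_orbF _ u
          by_cases hex : ∃ v, v ≠ c ∧ orbF (stab G' c) v = D2
          · obtain ⟨v, hv, hve⟩ := hex
            have e2 := orbF_eq (x := v) (y := u) (hve ▸ hu)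
            rw [hve, e] at e2
            rw [e2] at hc1
            omega
          · have : Finset.univ.erase c ⊆ D1 := by
              intro v hv
              have hv' := Finset.ne_of_mem_erase hv
              rcases hcov v hv' with e' | e'
              · exact e' ▸ self_mem_orbF _ v
              · exact absurd ⟨v, hv', e'⟩ hex
            have := Finset.card_le_card this
            rw [Finset.card_erase_of_mem (Finset.mem_univ c), Finset.card_univ, hD, hc1] at this
            omega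
        · rw [e, hc2]
    · intro x y z d u hxy hxz hyz hd hux huy huz hud
      obtain ⟨g, hg, rfl, rfl, c, rfl⟩ := htrans x y z hxy hxz hyz
      obtain ⟨d, rfl⟩ := g.surjective d
      obtain ⟨u, rfl⟩ := g.surjective u
      rw [himg g hg] at hd
      rw [himg g hg, himg g hg]
      obtain ⟨hda, hdb, hdc, -⟩ := mem_shortSet.1 hd
      obtain ⟨-, -, -, -, -, -, hP⟩ := hhalf c
      obtain ⟨D, hD1, hD2, hD3⟩ := (hQD c d).1 hd
      subst hD3
      let U : {x : Ω // p x} := ⟨u, fun e => hux (by rw [e]), fun e => huy (by rw [e])⟩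
      have key := hP D U hD1 (fun e => huz (by rw [show u = (c : Ω) from congrArg Subtype.val e]))
        (fun e => hud (by rw [show u = (D : Ω) from congrArg Subtype.val e])) hD2
      constructor
      · intro hu
        obtain ⟨U', h1, h2, h3'⟩ := (hQD c u).1 hu
        have : U' = U := Subtype.ext h3'
        subst this
        exact (hQD D u).2 ⟨U, fun e => hud (by rw [show u = (D : Ω) from congrArg Subtype.val e]), key.1 h2, rfl⟩
      · intro hu
        obtain ⟨U', h1, h2, h3'⟩ := (hQD D u).1 hu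
        have : U' = U := Subtype.ext h3'
        subst this
        exact (hQD c u).2 ⟨U, fun e => huz (by rw [show u = (c : Ω) from congrArg Subtype.val e]), key.2 h2, rfl⟩

end Cfsg.Agent.PronormalFix
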