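import Cfsg.Agent.Lib.PronormalFix.TwoGroup
import Cfsg.Agent.Lib.PronormalFix.Three

/-!
The quadruple configuration is impossible (S3399).
-/

namespace Cfsg.Agent.PronormalFix

open Equiv Equiv.Perm

variable {Ω : Type} [Fintype Ω] [DecidableEq Ω]

open Classical in
/-- The intersection of all translates of `F` containing `W`. -/
noncomputable def cl (G : Subgroup (Perm Ω)) (F W : Finset Ω) : Finset Ω :=
  Finset.univ.filter (fun z => ∀ g ∈ G, (∀ w ∈ W, g w ∈ F) → g z ∈ F)

lemma mem_cl {G : Subgroup (Perm Ω)} {F W : Finset Ω} {z : Ω} :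
    z ∈ cl G F W ↔ ∀ g ∈ G, (∀ w ∈ W, g w ∈ F) → g z ∈ F := by
  simp [cl]

lemma subset_cl (G : Subgroup (Perm Ω)) (F W : Finset Ω) : W ⊆ cl G F W :=
  fun _ hw => mem_cl.2 fun _ _ h => h _ hw

lemma cl_le {G : Subgroup (Perm Ω)} {F W V : Finset Ω} (h : W ⊆ cl G F V) :
    cl G F W ⊆ cl G F V :=
  fun _ hz => mem_cl.2 fun g hg hV => mem_cl.1 hz g hg fun _ hw => mem_cl.1 (h hw) g hg hV

lemma cl_image {G : Subgroup (Perm Ω)} {F W : Finset Ω} {h : Perm Ω} (hh : h ∈ G) :
    cl G F (W.image h) = (cl G F W).image h := by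
  ext z
  obtain ⟨u, rfl⟩ := h.surjective z
  simp only [Finset.mem_image, h.injective.eq_iff, exists_eq_right, mem_cl, forall_exists_index,
    and_imp, forall_apply_eq_imp_iff₂]
  constructor
  · intro hu g hg hgW
    have := hu (g * h⁻¹) (G.mul_mem hg (G.inv_mem hh)) (fun w hw => by simpa [Perm.mul_apply] using hgW w hw)
    simpa [Perm.mul_apply] using this
  · intro hu g hg hgW
    exact hu (g * h) (G.mul_mem hg hh) hgW

lemma quad_false {m : ℕ} (hm : 3 ≤ m) (hn : Fintype.card Ω = 2 * m) {G K : Subgroup (Perm Ω)}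
    (h3 : Tr3 G) (hq : QuadP G) (hKG : K ≤ G) (hpro : Pro G K) (hf : (fixF K).card = m) : False := by
  classical
  set F := fixF K with hF
  have hS : (movF K).card = m := by
    have := card_fix_add_mov K; rw [hf, hn] at this; omega
  have h2 : Tr2 G := by
    intro a b a' b' hab hab'
    obtain ⟨c, hc⟩ : ∃ c, c ∉ ({a, b} : Finset Ω) := by
      by_contra! h
      have := Finset.card_le_card (fun z _ => h z : Finset.univ ⊆ ({a, b} : Finset Ω))
      have := Finset.card_pair hab
      simp [hn] at *; omega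
    obtain ⟨c', hc'⟩ : ∃ c, c ∉ ({a', b'} : Finset Ω) := by
      by_contra! h
      have := Finset.card_le_card (fun z _ => h z : Finset.univ ⊆ ({a', b'} : Finset Ω))
      have := Finset.card_pair hab'
      simp [hn] at *; omega
    simp only [Finset.mem_insert, Finset.mem_singleton, not_or] at hc hc'
    obtain ⟨g, hg, h1, h2, -⟩ := h3 a b c a' b' c' hab (Ne.symm hc.1) (Ne.symm hc.2) hab'
      (Ne.symm hc'.1) (Ne.symm hc'.2)
    exact ⟨g, hg, h1, h2⟩
  have htr : IsTrans G := by
    intro a b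
    obtain ⟨a', ha'⟩ := Fintype.exists_ne_of_one_lt_card (by omega : 1 < Fintype.card Ω) a
    obtain ⟨b', hb'⟩ := Fintype.exists_ne_of_one_lt_card (by omega : 1 < Fintype.card Ω) b
    obtain ⟨g, hg, h1, -⟩ := h2 a a' b b' (Ne.symm ha') (Ne.symm hb')
    exact ⟨g, hg, h1⟩
  -- a point fixed by the stabiliser of a triple lies with it in every translate of `F`
  have hKfix : ∀ g ∈ G, ∀ a b c d : Ω, (∀ u ∈ G, u a = a → u b = b → u c = c → u d = d) →
      g a ∈ F → g b ∈ F → g c ∈ F → g d ∈ F := by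
    intro g hg a b c d hd ha hb hc
    refine mem_fixF.2 fun k hk => ?_
    have := hd (g⁻¹ * k * g) (G.mul_mem (G.mul_mem (G.inv_mem hg) (hKG hk)) hg)
      (by simp [Perm.mul_apply, mem_fixF.1 ha k hk]) (by simp [Perm.mul_apply, mem_fixF.1 hb k hk])
      (by simp [Perm.mul_apply, mem_fixF.1 hc k hk])
    simpa [Perm.mul_apply, Equiv.symm_apply_eq] using this
  -- stabilisers of triples inside the same quadruple are equal
  have hrev : ∀ a x y z : Ω, a ≠ x → a ≠ y → x ≠ y → z ≠ a → z ≠ x → z ≠ y →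
      (∀ u ∈ G, u a = a → u x = x → u y = y → u z = z) →
      ∀ u ∈ G, u a = a → u x = x → u z = z → u y = y := by
    intro a x y z hax hay hxy hza hzx hzy hz
    obtain ⟨g, hg, g1, g2, g3⟩ := h3 a x y a x z hax hay hxy hax (Ne.symm hza) (Ne.symm hzx)
    have hsub : stab3 G a x y ≤ stab3 G a x z := fun u hu => by
      obtain ⟨h0, h1, h2, h3'⟩ := mem_stab3.1 hu
      exact mem_stab3.2 ⟨h0, h1, h2, hz u h0 h1 h2 h3'⟩
    have hcard : Nat.card (stab3 G a x z) ≤ Nat.card (stab3 G a x y) := by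
      have : (stab3 G a x z) ≤ (stab3 G a x y).map (MulAut.conj g).toMonoidHom := by
        intro u hu
        obtain ⟨h0, h1, h2, h3'⟩ := mem_stab3.1 hu
        refine ⟨g⁻¹ * u * g, mem_stab3.2 ⟨G.mul_mem (G.mul_mem (G.inv_mem hg) h0) hg, ?_, ?_, ?_⟩, ?_⟩
        · simp [Perm.mul_apply, g1, h1, Equiv.symm_apply_eq]
        · simp [Perm.mul_apply, g2, h2, Equiv.symm_apply_eq]
        · simp [Perm.mul_apply, g3, h3', Equiv.symm_apply_eq]
        · simp [MulAut.conj_apply, mul_assoc]
      calc Nat.card (stab3 G a x z) ≤ _ := Subgroup.card_le_of_le this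
        _ = Nat.card (stab3 G a x y) := Subgroup.card_map_of_injective (MulAut.conj g).injective
    have heq := Subgroup.eq_of_le_of_card_ge hsub hcard
    intro u h0 h1 h2 h3'
    have : u ∈ stab3 G a x y := heq ▸ mem_stab3.2 ⟨h0, h1, h2, h3'⟩
    exact (mem_stab3.1 this).2.2.2
  -- the fourth point as a bijection
  have hφ : ∀ a ∈ F, ∀ x ∈ movF K, ∃ φ : Ω → Ω,
      (∀ y ∈ F.erase a, φ y ∈ (movF K).erase x) ∧
      (∀ y ∈ F.erase a, ∀ y' ∈ F.erase a, φ y = φ y' → y = y') ∧
      (∀ z ∈ (movF K).erase x, ∃ y ∈ F.erase a, φ y = z) ∧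
      (∀ y ∈ F.erase a, ∀ u ∈ G, u a = a → u x = x → u y = y → u (φ y) = φ y) ∧
      (∀ y ∈ F.erase a, ∀ u ∈ G, u a = a → u x = x → u (φ y) = φ y → u y = y) := by
    intro a ha x hx
    have hxa : a ≠ x := fun e => not_mem_fixF.2 hx (e ▸ ha)
    have hxF : ∀ y ∈ F, y ≠ x := fun y hy e => not_mem_fixF.2 hx (e ▸ hy)
    have hd : ∀ y ∈ F.erase a, ∃ d, d ≠ a ∧ d ≠ x ∧ d ≠ y ∧
        ∀ g ∈ G, g a = a → g x = x → g y = y → g d = d := fun y hy =>
      hq a x y hxa (Ne.symm (Finset.ne_of_mem_erase hy)) (Ne.symm (hxF y (Finset.mem_of_mem_erase hy)))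
    choose! φ hφ1 hφ2 hφ3 hφ4 using hd
    have hrev' : ∀ y ∈ F.erase a, ∀ u ∈ G, u a = a → u x = x → u (φ y) = φ y → u y = y :=
      fun y hy => hrev a x y (φ y) hxa (Ne.symm (Finset.ne_of_mem_erase hy))
        (Ne.symm (hxF y (Finset.mem_of_mem_erase hy))) (hφ1 y hy) (hφ2 y hy) (hφ3 y hy) (hφ4 y hy)
    have hmaps : ∀ y ∈ F.erase a, φ y ∈ (movF K).erase x := by
      intro y hy
      refine Finset.mem_erase.2 ⟨hφ2 y hy, not_mem_fixF.1 fun hz => ?_⟩
      have hyF := Finset.mem_of_mem_erase hy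
      have h' : ∀ u ∈ G, u a = a → u y = y → u (φ y) = φ y → u x = x := by
        have := hrev a y x (φ y) (Ne.symm (Finset.ne_of_mem_erase hy)) hxa (hxF y hyF) (hφ1 y hy)
          (hφ3 y hy) (hφ2 y hy) (fun u hu h1 h2 h3' => hφ4 y hy u hu h1 h3' h2)
        exact fun u hu h1 h2 h3' => this u hu h1 h2 h3'
      exact not_mem_fixF.2 hx (mem_fixF.2 fun k hk => h' k (hKG hk) (mem_fixF.1 ha k hk)
        (mem_fixF.1 hyF k hk) (mem_fixF.1 hz k hk))
    have hinj : ∀ y ∈ F.erase a, ∀ y' ∈ F.erase a, φ y = φ y' → y = y' := by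
      intro y hy y' hy' e
      by_contra hne
      have h' : ∀ u ∈ G, u a = a → u x = x → u y = y → u y' = y' := fun u hu h1 h2 h3' =>
        hrev' y' hy' u hu h1 h2 (e ▸ hφ4 y hy u hu h1 h2 h3')
      have := hrev a y x y' (Ne.symm (Finset.ne_of_mem_erase hy)) hxa (hxF y (Finset.mem_of_mem_erase hy))
        (Finset.ne_of_mem_erase hy') (Ne.symm hne) (hxF y' (Finset.mem_of_mem_erase hy'))
        (fun u hu h1 h2 h3' => h' u hu h1 h3' h2)
      exact not_mem_fixF.2 hx (mem_fixF.2 fun k hk => this k (hKG hk) (mem_fixF.1 ha k hk)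
        (mem_fixF.1 (Finset.mem_of_mem_erase hy) k hk) (mem_fixF.1 (Finset.mem_of_mem_erase hy') k hk))
    have hsurj : ∀ z ∈ (movF K).erase x, ∃ y ∈ F.erase a, φ y = z := by
      intro z hz
      obtain ⟨y, hy, e⟩ := Finset.surj_on_of_inj_on_of_card_le (fun y _ => φ y) hmaps
        (fun y y' hy hy' e => hinj y hy y' hy' e)
        (by rw [Finset.card_erase_of_mem ha, Finset.card_erase_of_mem hx, hS, hf]) z hz
      exact ⟨y, hy, e.symm⟩
    refine ⟨φ, hmaps, hinj, hsurj, hφ4, hrev'⟩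
  -- doubling
  have hgrow : ∀ d : ℕ, ∀ W : Finset Ω, d + W.card = m → W ⊆ F → cl G F W = W → W.Nonempty →
      (∃ i, W.card = 2 ^ i) → ∃ i, m = 2 ^ i := by
    intro d
    induction d using Nat.strong_induction_on with
    | _ d ih =>
    intro W hd hWF hWcl ⟨a, ha⟩ ⟨i, hi⟩
    rcases Nat.eq_zero_or_pos d with rfl | hdpos
    · exact ⟨i, by omega⟩
    have haF := hWF ha
    obtain ⟨x, hx, hmin⟩ := Finset.exists_min_image (movF K)
      (fun x => (cl G F (insert x W)).card) (Finset.card_pos.1 (by omega))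
    set W' := cl G F (insert x W) with hW'
    have hxW' : x ∈ W' := subset_cl G F _ (Finset.mem_insert_self x W)
    have hWW' : W ⊆ W' := (Finset.subset_insert x W).trans (subset_cl G F _)
    have hWF' : W' ∩ F = W := by
      refine Finset.Subset.antisymm (fun y hy => ?_) (Finset.subset_inter hWW' hWF)
      obtain ⟨hy1, hy2⟩ := Finset.mem_inter.1 hy
      by_contra hyW
      rw [← hWcl, mem_cl] at hyW
      push Not at hyW
      obtain ⟨g, hg, hgW, hgy⟩ := hyW
      obtain ⟨w, hw, -, hwfix, hwiff⟩ := hpro.exists_conj hKG (G.inv_mem hg)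
      have hmove : w⁻¹ y ∈ movF K := not_mem_fixF.1 fun h => hgy (by simpa using (hwiff y).2 h)
      have hfixW : ∀ u ∈ W, w⁻¹ u = u := fun u hu =>
        (Equiv.symm_apply_eq w).2 (hwfix u (hWF hu) (by simpa using hgW u hu)).symm
      have himg : (insert y W).image (⇑(w⁻¹ : Perm Ω)) = insert (w⁻¹ y) W := by
        rw [Finset.image_insert, Finset.image_congr (g := id) hfixW, Finset.image_id]
      have e : (cl G F (insert (w⁻¹ y) W)).card = (cl G F (insert y W)).card := by
        rw [← himg, cl_image (G.inv_mem hw), Finset.card_image_of_injective _ (w⁻¹).injective]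
      have hsub : cl G F (insert y W) ⊆ W' ∩ F := fun z hz => Finset.mem_inter.2
        ⟨cl_le (Finset.insert_subset hy1 hWW') hz, by
          simpa using mem_cl.1 hz 1 G.one_mem fun u hu => by
            rcases Finset.mem_insert.1 hu with rfl | hu
            · exact hy2
            · exact hWF hu⟩
      have hlt : (W' ∩ F).card < W'.card := Finset.card_lt_card
        ⟨Finset.inter_subset_left, fun hss => not_mem_fixF.2 hx (Finset.mem_inter.1 (hss hxW')).2⟩
      have := hmin _ hmove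
      have := Finset.card_le_card hsub
      omega
    have hcard' : W'.card = 2 * W.card := by
      have e1 : W'.card = (W' ∩ F).card + (W' \ F).card := (Finset.card_inter_add_card_sdiff W' F).symm
      obtain ⟨φ, hmaps, hinj, hsurj, hφ4, hrev'⟩ := hφ a haF x hx
      have himage : (W' \ F).erase x = (W.erase a).image φ := by
        ext z
        simp only [Finset.mem_erase, Finset.mem_sdiff, Finset.mem_image]
        constructor
        · rintro ⟨hzx, hz1, hz2⟩
          obtain ⟨y, hy, rfl⟩ := hsurj z (Finset.mem_erase.2 ⟨hzx, not_mem_fixF.1 hz2⟩)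
          refine ⟨y, ⟨Finset.ne_of_mem_erase hy, ?_⟩, rfl⟩
          rw [← hWF', Finset.mem_inter]
          exact ⟨mem_cl.2 fun g hg hgW => hKfix g hg a x (φ y) y (hrev' y hy)
            (hgW a (Finset.mem_insert_of_mem ha)) (hgW x (Finset.mem_insert_self x W))
            (mem_cl.1 hz1 g hg hgW), Finset.mem_of_mem_erase hy⟩
        · rintro ⟨y, ⟨hya, hyW⟩, rfl⟩
          have hy : y ∈ F.erase a := Finset.mem_erase.2 ⟨hya, hWF hyW⟩
          obtain ⟨h1, h2⟩ := Finset.mem_erase.1 (hmaps y hy)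
          exact ⟨h1, mem_cl.2 fun g hg hgW => hKfix g hg a x y (φ y) (hφ4 y hy)
            (hgW a (Finset.mem_insert_of_mem ha)) (hgW x (Finset.mem_insert_self x W))
            (hgW y (Finset.mem_insert_of_mem hyW)), not_mem_fixF.2 h2⟩
      have hc := congrArg Finset.card himage
      rw [Finset.card_image_of_injOn (fun y hy y' hy' e => by
          simp only [Finset.coe_erase, Set.mem_sdiff, Finset.mem_coe, Set.mem_singleton_iff] at hy hy'
          exact hinj y (Finset.mem_erase.2 ⟨hy.2, hWF hy.1⟩) y' (Finset.mem_erase.2 ⟨hy'.2, hWF hy'.1⟩) e),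
        Finset.card_erase_of_mem ha,
        Finset.card_erase_of_mem (show x ∈ W' \ F from Finset.mem_sdiff.2 ⟨hxW', not_mem_fixF.2 hx⟩)] at hc
      have : 0 < (W' \ F).card := Finset.card_pos.2 ⟨x, show x ∈ W' \ F from Finset.mem_sdiff.2 ⟨hxW', not_mem_fixF.2 hx⟩⟩
      have : 0 < W.card := Finset.card_pos.2 ⟨a, ha⟩
      rw [hWF'] at e1
      omega
    have hW'cl : cl G F W' = W' := Finset.Subset.antisymm (cl_le (Finset.Subset.refl _)) (subset_cl G F _)
    by_cases htop : ∃ g ∈ G, ∀ u ∈ W', g u ∈ F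
    · obtain ⟨g, hg, hgW⟩ := htop
      have hsub : W'.image g ⊆ F := by
        intro z hz; obtain ⟨u, hu, rfl⟩ := Finset.mem_image.1 hz; exact hgW u hu
      have hcimg : (W'.image g).card = 2 * W.card := by
        rw [Finset.card_image_of_injective _ g.injective, hcard']
      have hle := Finset.card_le_card hsub
      rw [hcimg, hf] at hle
      have : 0 < W.card := Finset.card_pos.2 ⟨a, ha⟩
      exact ih (m - 2 * W.card) (by omega) (W'.image g) (by omega) hsub
        (by rw [cl_image hg, hW'cl]) (Finset.card_pos.1 (by omega)) ⟨i + 1, by rw [hcimg, hi]; ring⟩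
    · exfalso
      push Not at htop
      have huniv : cl G F W' = Finset.univ := Finset.eq_univ_of_forall fun z => mem_cl.2 fun g hg h => by
        obtain ⟨u, hu, hu'⟩ := htop g hg
        exact absurd (h u hu) hu'
      have := congrArg Finset.card huniv
      rw [hW'cl, hcard', Finset.card_univ, hn] at this
      omega
  -- `m` is a power of two
  obtain ⟨a, ha⟩ := Finset.card_pos.1 (by omega : 0 < F.card)
  have hclsingle : cl G F {a} = {a} := by
    refine Finset.Subset.antisymm (fun z hz => ?_) (subset_cl G F _)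
    rw [Finset.mem_singleton]
    by_contra hza
    obtain ⟨x, hx⟩ := Finset.card_pos.1 (by omega : 0 < (movF K).card)
    obtain ⟨g, hg, g1, g2⟩ := h2 a z a x (Ne.symm hza) (fun e => not_mem_fixF.2 hx (e ▸ ha))
    have := mem_cl.1 hz g hg (fun w hw => by rw [Finset.mem_singleton.1 hw, g1]; exact ha)
    exact not_mem_fixF.2 hx (g2 ▸ this)
  obtain ⟨i, hi⟩ := hgrow (m - 1) {a} (by simp; omega) (by simpa using ha) hclsingle
    (Finset.singleton_nonempty a) ⟨0, rfl⟩
  -- `K` is semiregular off `F`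
  have hsemi : ∀ x ∈ movF K, ∀ k ∈ K, k x = x → k = 1 := by
    intro x hx k hk hkx
    obtain ⟨φ, -, -, hsurj, hφ4, -⟩ := hφ a ha x hx
    refine Perm.ext fun z => ?_
    by_cases hz : z ∈ F
    · exact mem_fixF.1 hz k hk
    rcases eq_or_ne z x with rfl | hzx
    · exact hkx
    obtain ⟨y, hy, rfl⟩ := hsurj z (Finset.mem_erase.2 ⟨hzx, not_mem_fixF.1 hz⟩)
    exact hφ4 y hy k (hKG hk) (mem_fixF.1 ha k hk) hkx
      (mem_fixF.1 (Finset.mem_of_mem_erase hy) k hk)
  have horb : ∀ x ∈ movF K, (orbF K x).card = Nat.card K := by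
    intro x hx
    have e : orbF K x = Finset.univ.image (fun k : K => (k : Perm Ω) x) := by
      ext y; simp [mem_orbF]
    rw [e, Finset.card_image_of_injective, Finset.card_univ, Nat.card_eq_fintype_card]
    intro k l hkl
    have := hsemi x hx (l⁻¹ * k : K) (l⁻¹ * k : K).2 (by simp [Perm.mul_apply, Equiv.symm_apply_eq]; exact hkl)
    exact (inv_mul_eq_one.1 (Subtype.ext this)).symm
  have hinv : ∀ x ∈ movF K, orbF K x ⊆ movF K := by
    intro x hx y hy
    obtain ⟨k, hk, rfl⟩ := mem_orbF.1 hy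
    refine not_mem_fixF.1 fun h => not_mem_fixF.2 hx ?_
    have := mem_fixF.1 h k⁻¹ (K.inv_mem hk)
    simp at this
    exact this ▸ h
  have hdvd : Nat.card K ∣ m := by
    have := sum_orbs (M := K) hinv (movF K)
    rw [Finset.inter_self, hS] at this
    rw [this]
    refine Finset.dvd_sum fun Δ hΔ => ?_
    obtain ⟨x, hx, rfl⟩ := Finset.mem_image.1 hΔ
    rw [Finset.inter_eq_right.2 (hinv x hx), horb x hx]
  rw [hi] at hdvd
  obtain ⟨j, -, hj⟩ := (Nat.dvd_prime_pow Nat.prime_two).1 hdvd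
  exact two_group_false htr hKG hpro (IsPGroup.of_card hj) (by omega) hn hf

end Cfsg.Agent.PronormalFix
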