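import Cfsg.Agent.Lib.PronormalFix.Four
import Cfsg.Agent.Lib.PronormalFix.Quad

/-!
A nontrivial pronormal subgroup of a transitive group of degree `n` fixes at most `(n-1)/2`
points (S3399).
-/

namespace Cfsg.Agent.PronormalFix

open Equiv Equiv.Perm

variable {Ω : Type} [Fintype Ω] [DecidableEq Ω]

lemma bound_step {n : ℕ} (hn : Bound n) (hcard : Fintype.card Ω = n) {G K : Subgroup (Perm Ω)}
    (htr : IsTrans G) (hKG : K ≤ G) (hK : K ≠ ⊥) (hpro : Pro G K) :
    2 * (fixF K).card + 1 ≤ n := by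
  classical
  obtain ⟨k, hk, hk1⟩ : ∃ k ∈ K, k ≠ 1 := by
    by_contra! hno
    exact hK ((Subgroup.eq_bot_iff_forall _).2 hno)
  obtain ⟨x, hx⟩ : ∃ x, k x ≠ x := by
    by_contra! hno
    exact hk1 (Perm.ext hno)
  have hksupp : k.support ⊆ movF K := fun z hz => mem_movF.2 ⟨k, hk, Perm.mem_support.1 hz⟩
  have hn0 : 0 < n := hcard ▸ Fintype.card_pos_iff.2 ⟨x⟩
  rcases (fixF K).eq_empty_or_nonempty with he | ⟨a, ha⟩
  · rw [he, Finset.card_empty]; omega
  by_cases hnt : ∀ b, b ≠ a → ¬ orbF (stab G a) b ⊆ fixF K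
  swap
  · push Not at hnt
    obtain ⟨b, hb, hsub⟩ := hnt
    obtain ⟨B, -, -, -, hB2, -, hB⟩ := trivial_suborbit hn hcard htr hKG hpro hK ha hb hsub
    omega
  have hcount := suborbit_count hn hcard hKG hpro ha hnt
  by_contra hlt
  have hxa : x ≠ a := fun e => hx (e ▸ mem_fixF.1 ha k hk)
  have ht1 : 0 < (orbs (stab G a) (Finset.univ.erase a)).card :=
    Finset.card_pos.2 ⟨_, Finset.mem_image_of_mem _ (Finset.mem_erase.2 ⟨hxa, Finset.mem_univ x⟩)⟩
  have ht : (orbs (stab G a) (Finset.univ.erase a)).card ≤ 1 := by omega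
  have h2 : Tr2 G := by
    refine tr2_of_stab htr (a := a) fun b c hb hc => ?_
    have h1 := Finset.mem_image_of_mem (orbF (stab G a)) (Finset.mem_erase.2 ⟨hb, Finset.mem_univ b⟩)
    have h2 := Finset.mem_image_of_mem (orbF (stab G a)) (Finset.mem_erase.2 ⟨hc, Finset.mem_univ c⟩)
    rw [Finset.card_le_one.1 ht _ h1 _ h2]
    exact self_mem_orbF _ c
  obtain ⟨m, hm⟩ : ∃ m, (fixF K).card = m := ⟨_, rfl⟩
  have hnm : n = 2 * m := by omega
  have hS : (movF K).card = m := by have := card_fix_add_mov K; omega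
  have hsup : 2 ≤ k.support.card := Perm.two_le_card_support_of_ne_one hk1
  have hsm := Finset.card_le_card hksupp
  have h3 : Tr3 G := tr3_of_half hn hcard hnm htr h2 hKG hK hpro hm (by omega)
  rcases Nat.lt_or_ge m 4 with hsmall | hbig
  · exact alt_false (alt_le_of_small h3 (by omega) (hKG hk) hk1 (by omega)) hKG hpro (by omega)
      (hcard.trans hnm) hm
  rcases tr4_or_quad hn hcard hnm h3 hKG hK hpro hm (by omega) with h4 | hq
  · exact four_false h4 h3 htr hKG hK hpro hbig (hcard.trans hnm) hm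
  · exact quad_false (by omega) (hcard.trans hnm) h3 hq hKG hpro hm

theorem bound_all : ∀ n : ℕ, Bound n := by
  intro n
  induction n with
  | zero => intro Ω _ _ h; omega
  | succ n ih =>
    intro Ω _ _ hlt G K htr hKG hK hpro
    rcases Nat.lt_or_ge (Fintype.card Ω) n with h | h
    · exact ih Ω h G K htr hKG hK hpro
    · have := bound_step ih (by omega : Fintype.card Ω = n) htr hKG hK hpro
      omega

end Cfsg.Agent.PronormalFix
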