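import Cfsg.Agent.Lib.PronormalFix.Orbital

/-!
Exact moments for random conjugates in a quadruply transitive group (S3399).
-/

namespace Cfsg.Agent.PronormalFix

open Equiv Equiv.Perm

open scoped Classical

attribute [-simp] Perm.coe_inv

noncomputable section

variable {Ω : Type} [Fintype Ω] [DecidableEq Ω]

omit [Fintype Ω] [DecidableEq Ω] in
@[simp] lemma inv_app (g : Perm Ω) (z : Ω) : g⁻¹ (g z) = z := g.symm_apply_apply z

omit [Fintype Ω] [DecidableEq Ω] in
@[simp] lemma app_inv (g : Perm Ω) (z : Ω) : g (g⁻¹ z) = z := g.apply_symm_apply z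

omit [DecidableEq Ω] in
lemma tr4_emb {G : Subgroup (Perm Ω)} (h4 : Tr4 G) (hn : 4 ≤ Fintype.card Ω) {ι : Type} [Fintype ι]
    (hι : Fintype.card ι ≤ 4) (x y : ι ↪ Ω) : ∃ g ∈ G, ∀ i, g (x i) = y i := by
  classical
  have hext : ∀ x : ι ↪ Ω, ∃ x' : Fin 4 ↪ Ω, ∀ i, x' (Fin.castLE hι (Fintype.equivFin ι i)) = x i := by
    intro x
    let k := Fintype.card ι
    have hcard : Fintype.card (Fin (4 - k)) ≤ Fintype.card {z // z ∉ Finset.univ.map x} := by
      rw [Fintype.card_subtype_compl, Fintype.card_coe, Finset.card_map, Finset.card_univ,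
        Fintype.card_fin]
      omega
    obtain ⟨r⟩ := Function.Embedding.nonempty_of_card_le hcard
    let e : Fin 4 ≃ ι ⊕ Fin (4 - k) :=
      ((finCongr (by omega : 4 = k + (4 - k))).trans finSumFinEquiv.symm).trans
        (Equiv.sumCongr (Fintype.equivFin ι).symm (Equiv.refl _))
    let f : ι ⊕ Fin (4 - k) → Ω := Sum.elim x (fun j => (r j : Ω))
    have hf : Function.Injective f := by
      rintro (i | i) (j | j) h <;> simp only [f, Sum.elim_inl, Sum.elim_inr] at h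
      · rw [x.injective h]
      · exact absurd (Finset.mem_map.2 ⟨i, Finset.mem_univ _, h⟩) (r j).2
      · exact absurd (Finset.mem_map.2 ⟨j, Finset.mem_univ _, h.symm⟩) (r i).2
      · rw [r.injective (Subtype.ext h)]
    refine ⟨⟨fun i => f (e i), hf.comp e.injective⟩, fun i => ?_⟩
    have : e (Fin.castLE hι (Fintype.equivFin ι i)) = Sum.inl i := by
      apply e.symm.injective
      rw [Equiv.symm_apply_apply]
      ext
      simp [e]
    simp [this, f]
  obtain ⟨x', hx'⟩ := hext x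
  obtain ⟨y', hy'⟩ := hext y
  have hnd : ∀ z : Fin 4 ↪ Ω, [z 0, z 1, z 2, z 3].Nodup := fun z => by
    have := List.Nodup.map z.injective (List.nodup_finRange 4)
    simpa [List.finRange_succ] using this
  obtain ⟨g, hg, h0, h1, h2, h3⟩ := h4 _ _ _ _ _ _ _ _ (hnd x') (hnd y')
  refine ⟨g, hg, fun i => ?_⟩
  rw [← hx', ← hy']
  generalize Fin.castLE hι (Fintype.equivFin ι i) = j
  fin_cases j <;> assumption

/-- `(n)_4` as an integer. -/
def N4 (n : ℤ) : ℤ := n * (n - 1) * (n - 2) * (n - 3)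

/-- Uniformity of images of short tuples. -/
lemma count_images {G : Subgroup (Perm Ω)} (h4 : Tr4 G) (hn : 4 ≤ Fintype.card Ω) {ι : Type}
    [Fintype ι] [DecidableEq ι] (hι : Fintype.card ι ≤ 4) (x : ι ↪ Ω) (P : ι → Finset Ω) :
    (Finset.univ.filter (fun g : G => ∀ i, (g : Perm Ω) (x i) ∈ P i)).card *
      (Fintype.card Ω).descFactorial (Fintype.card ι)
    = Fintype.card G * (Finset.univ.filter (fun y : ι ↪ Ω => ∀ i, y i ∈ P i)).card := by
  let img : G → (ι ↪ Ω) := fun g => x.trans (Equiv.toEmbedding (g : Perm Ω))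
  let cst := (Finset.univ.filter (fun g : G => img g = x)).card
  have hfib : ∀ y, (Finset.univ.filter (fun g : G => img g = y)).card = cst := by
    intro y
    obtain ⟨t, ht, hty⟩ := tr4_emb h4 hn hι x y
    refine Finset.card_bij (fun g _ => (⟨t, ht⟩ : G)⁻¹ * g) (fun g hg => ?_)
      (fun a _ b _ h => mul_left_cancel h) (fun b hb => ⟨⟨t, ht⟩ * b, ?_, by simp⟩)
    · simp only [Finset.mem_filter, Finset.mem_univ, true_and] at hg ⊢
      ext i
      have := DFunLike.congr_fun hg i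
      simp only [img, Function.Embedding.trans_apply, Equiv.coe_toEmbedding] at this ⊢
      simp [this, ← hty, Perm.mul_apply]
    · simp only [Finset.mem_filter, Finset.mem_univ, true_and] at hb ⊢
      ext i
      have := DFunLike.congr_fun hb i
      simp only [img, Function.Embedding.trans_apply, Equiv.coe_toEmbedding] at this ⊢
      simp [Perm.mul_apply, this, hty]
  have htot : Fintype.card G = (Fintype.card Ω).descFactorial (Fintype.card ι) * cst := by
    rw [← Fintype.card_embedding_eq, ← Finset.card_univ (α := G),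
      Finset.card_eq_sum_card_fiberwise (f := img) (t := Finset.univ) (fun _ _ => Finset.mem_univ _),
      Finset.sum_congr rfl (fun y _ => hfib y), Finset.sum_const, smul_eq_mul, Finset.card_univ]
  have hsub : (Finset.univ.filter (fun g : G => ∀ i, (g : Perm Ω) (x i) ∈ P i)).card
      = (Finset.univ.filter (fun y : ι ↪ Ω => ∀ i, y i ∈ P i)).card * cst := by
    rw [Finset.card_eq_sum_card_fiberwise (f := img)
      (t := Finset.univ.filter (fun y : ι ↪ Ω => ∀ i, y i ∈ P i))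
      (fun g hg => by
        simp only [Finset.coe_filter, Set.mem_ofPred_eq, Finset.mem_univ, true_and] at hg ⊢
        exact hg)]
    rw [← smul_eq_mul, ← Finset.sum_const]
    refine Finset.sum_congr rfl fun y hy => ?_
    rw [← hfib y]
    congr 1
    ext g
    simp only [Finset.mem_filter, Finset.mem_univ, true_and] at hy ⊢
    exact ⟨fun h => h.2, fun h => ⟨fun i => by subst h; exact hy i, h⟩⟩
  rw [hsub, htot]
  ring

lemma card_emb_in {ι : Type} [Fintype ι] [DecidableEq ι] (T : Finset Ω) :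
    (Finset.univ.filter (fun y : ι ↪ Ω => ∀ i, y i ∈ T)).card
      = T.card.descFactorial (Fintype.card ι) := by
  rw [← Fintype.card_coe T, ← Fintype.card_embedding_eq, ← Fintype.card_subtype]
  exact Fintype.card_congr
    { toFun := fun y => ⟨fun i => ⟨y.1 i, y.2 i⟩, fun i j h => y.1.injective (congrArg Subtype.val h)⟩
      invFun := fun y => ⟨y.trans (Function.Embedding.subtype _), fun i => (y i).2⟩
      left_inv := fun y => by ext; rfl
      right_inv := fun y => by ext; rfl }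

lemma card_emb_split {α β : Type} [Fintype α] [Fintype β] [DecidableEq α] [DecidableEq β]
    (S : Finset Ω) :
    (Finset.univ.filter (fun y : α ⊕ β ↪ Ω => ∀ i, y i ∈ Sum.elim (fun _ => S) (fun _ => Sᶜ) i)).card
      = S.card.descFactorial (Fintype.card α) * Sᶜ.card.descFactorial (Fintype.card β) := by
  rw [← card_emb_in (ι := α) S, ← card_emb_in (ι := β) Sᶜ, ← Finset.card_product]
  refine Finset.card_bij
    (fun y _ => (Function.Embedding.inl.trans y, Function.Embedding.inr.trans y)) ?_ ?_ ?_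
  · intro y hy
    simp only [Finset.mem_filter, Finset.mem_univ, true_and] at hy
    simp only [Finset.mem_product, Finset.mem_filter, Finset.mem_univ, true_and,
      Function.Embedding.trans_apply]
    exact ⟨fun i => hy (Sum.inl i), fun i => hy (Sum.inr i)⟩
  · intro y _ y' _ h
    simp only [Prod.mk.injEq] at h
    ext (i | i)
    · exact DFunLike.congr_fun h.1 i
    · exact DFunLike.congr_fun h.2 i
  · rintro ⟨u, v⟩ h
    simp only [Finset.mem_product, Finset.mem_filter, Finset.mem_univ, true_and] at h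
    refine ⟨⟨Sum.elim u v, ?_⟩, ?_, ?_⟩
    · rintro (i | i) (j | j) e <;> simp only [Sum.elim_inl, Sum.elim_inr] at e
      · rw [u.injective e]
      · exact absurd (e ▸ h.1 i) (Finset.mem_compl.1 (h.2 j))
      · exact absurd (e ▸ h.1 j) (Finset.mem_compl.1 (h.2 i))
      · rw [v.injective e]
    · simp only [Finset.mem_filter, Finset.mem_univ, true_and]
      rintro (i | i)
      · exact h.1 i
      · exact h.2 i
    · rfl

lemma card_emb_disjoint {ι : Type} [Fintype ι] [DecidableEq ι] (P : ι → Finset Ω)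
    (hP : ∀ i j, i ≠ j → Disjoint (P i) (P j)) :
    (Finset.univ.filter (fun y : ι ↪ Ω => ∀ i, y i ∈ P i)).card = ∏ i, (P i).card := by
  rw [← Fintype.card_piFinset]
  refine Finset.card_bij (fun y _ => ⇑y) ?_ ?_ ?_
  · intro y hy
    simp only [Finset.mem_filter, Finset.mem_univ, true_and] at hy
    exact Fintype.mem_piFinset.2 hy
  · intro y _ y' _ h
    exact DFunLike.ext' h
  · intro f hf
    have hf' := Fintype.mem_piFinset.1 hf
    refine ⟨⟨f, fun i j e => ?_⟩, ?_, rfl⟩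
    · by_contra hne
      exact Finset.disjoint_left.1 (hP i j hne) (hf' i) (e ▸ hf' j)
    · exact Finset.mem_filter.2 ⟨Finset.mem_univ _, hf'⟩

variable (S : Finset Ω) (G : Subgroup (Perm Ω))

/-- The overlap of `S` and its translate. -/
def tau (g : G) : ℕ := (S.filter (fun z => (g : Perm Ω)⁻¹ z ∈ S)).card

/-- The boundary points of the translate along `σ`. -/
def bd (σ : Perm Ω) (g : G) : ℕ :=
  (S.filter (fun z => (g : Perm Ω)⁻¹ z ∉ S ∧ (g : Perm Ω)⁻¹ (σ z) ∈ S)).card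

variable {S G}

omit [Fintype Ω] in
lemma tau_inv (g : G) : tau S G g⁻¹ = tau S G g := by
  refine Finset.card_bij (fun z _ => (g : Perm Ω) z) (fun z hz => ?_)
    (fun a _ b _ h => (g : Perm Ω).injective h) (fun z hz => ⟨(g : Perm Ω)⁻¹ z, ?_, by simp⟩)
  · simp only [Finset.mem_filter, Subgroup.coe_inv, inv_inv] at hz
    simp [hz.1, hz.2]
  · simp only [Finset.mem_filter] at hz
    simp [hz.1, hz.2]

/-- Number of `g` with prescribed membership pattern for preimages. -/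
lemma count_pattern (h4 : Tr4 G) (hn : 4 ≤ Fintype.card Ω) (a b : ℕ) (hab : a + b ≤ 4)
    (e : Fin a ⊕ Fin b ↪ Ω) :
    (Finset.univ.filter (fun g : G => (∀ i, (g : Perm Ω)⁻¹ (e (Sum.inl i)) ∈ S) ∧
        ∀ i, (g : Perm Ω)⁻¹ (e (Sum.inr i)) ∉ S)).card * (Fintype.card Ω).descFactorial (a + b)
      = Fintype.card G * (S.card.descFactorial a * Sᶜ.card.descFactorial b) := by
  have h := count_images (G := G) h4 hn (ι := Fin a ⊕ Fin b) (by simpa using hab) e
    (Sum.elim (fun _ => S) (fun _ => Sᶜ))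
  rw [card_emb_split, Fintype.card_sum, Fintype.card_fin, Fintype.card_fin] at h
  rw [← h]
  congr 1
  refine Finset.card_bij (fun g _ => g⁻¹) (fun g hg => ?_) (fun a _ b _ h => inv_injective h)
    (fun g hg => ⟨g⁻¹, ?_, inv_inv g⟩)
  · simp only [Finset.mem_filter, Finset.mem_univ, true_and] at hg ⊢
    rintro (i | i)
    · simpa using hg.1 i
    · simpa using hg.2 i
  · simp only [Finset.mem_filter, Finset.mem_univ, true_and] at hg ⊢
    exact ⟨fun i => by simpa using hg (Sum.inl i), fun i => by simpa using hg (Sum.inr i)⟩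

lemma desc4_cast {n : ℕ} (hn : 4 ≤ n) :
    ((n.descFactorial 4 : ℕ) : ℤ) = N4 n ∧ ((n.descFactorial 3 : ℕ) : ℤ) * (n - 3) = N4 n ∧
      ((n.descFactorial 2 : ℕ) : ℤ) * ((n - 2) * (n - 3)) = N4 n ∧
      ((n.descFactorial 1 : ℕ) : ℤ) * ((n - 1) * (n - 2) * (n - 3)) = N4 n := by
  obtain ⟨k, rfl⟩ := Nat.exists_eq_add_of_le hn
  simp only [Nat.descFactorial_succ, Nat.descFactorial_zero, N4, mul_one,
    show 4 + k - 3 = 1 + k by omega, show 4 + k - 2 = 2 + k by omega,
    show 4 + k - 1 = 3 + k by omega, Nat.sub_zero]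
  push_cast
  refine ⟨?_, ?_, ?_, ?_⟩ <;> ring

/-- Indicator of `g⁻¹ z ∈ S`, in `ℤ`. -/
def ind (S : Finset Ω) (g : G) (z : Ω) : ℤ := if (g : Perm Ω)⁻¹ z ∈ S then 1 else 0

omit [Fintype Ω] in
lemma tau_eq (g : G) : (tau S G g : ℤ) = ∑ z ∈ S, ind S g z := by
  simp [tau, ind, Finset.sum_boole]

omit [Fintype Ω] in
lemma bd_eq (σ : Perm Ω) (g : G) :
    (bd S G σ g : ℤ) = ∑ z ∈ S, (1 - ind S g z) * ind S g (σ z) := by
  simp only [bd, ind, Finset.card_filter, Nat.cast_sum]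
  refine Finset.sum_congr rfl fun z _ => ?_
  by_cases h1 : (g : Perm Ω)⁻¹ z ∈ S <;> by_cases h2 : (g : Perm Ω)⁻¹ (σ z) ∈ S <;> simp [h1, h2]

variable (h4 : Tr4 G) (hn : 4 ≤ Fintype.card Ω)

include h4 hn

lemma pat11 {u v : Ω} (huv : u ≠ v) :
    (∑ g : G, ind S g u * (1 - ind S g v)) * N4 (Fintype.card Ω)
      = Fintype.card G * ((S.card : ℤ) * (Sᶜ.card : ℤ) *
          (((Fintype.card Ω : ℤ) - 2) * ((Fintype.card Ω : ℤ) - 3))) := by
  let e : Fin 1 ⊕ Fin 1 ↪ Ω := ⟨Sum.elim (fun _ => u) (fun _ => v), by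
    rintro (i | i) (j | j) h <;> simp [huv, Ne.symm huv, Subsingleton.elim i j] at h ⊢⟩
  have h := count_pattern (S := S) h4 hn 1 1 (by norm_num) e
  have el : ∀ i, e (Sum.inl i) = u := fun _ => rfl
  have er : ∀ i, e (Sum.inr i) = v := fun _ => rfl
  have hs : (∑ g : G, ind S g u * (1 - ind S g v)) = ((Finset.univ.filter (fun g : G =>
      (∀ i, (g : Perm Ω)⁻¹ (e (Sum.inl i)) ∈ S) ∧ ∀ i, (g : Perm Ω)⁻¹ (e (Sum.inr i)) ∉ S)).card : ℤ) := by
    rw [Finset.card_filter, Nat.cast_sum]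
    refine Finset.sum_congr rfl fun g _ => ?_
    simp only [ind]
    by_cases h1 : (g : Perm Ω)⁻¹ u ∈ S <;> by_cases h2 : (g : Perm Ω)⁻¹ v ∈ S <;> simp [h1, h2, el, er]
  rw [hs, ← (desc4_cast hn).2.2.1, ← mul_assoc]
  have h' := congrArg (Nat.cast : ℕ → ℤ) h
  simp only [Nat.descFactorial_one, Nat.cast_mul] at h'
  rw [h']
  ring

lemma pat21 {u u' v : Ω} (h1 : u ≠ u') (h2 : u ≠ v) (h3 : u' ≠ v) :
    (∑ g : G, ind S g u * ind S g u' * (1 - ind S g v)) * N4 (Fintype.card Ω)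
      = Fintype.card G * ((S.card : ℤ) * ((S.card : ℤ) - 1) * (Sᶜ.card : ℤ) *
          ((Fintype.card Ω : ℤ) - 3)) := by
  let e : Fin 2 ⊕ Fin 1 ↪ Ω := ⟨Sum.elim ![u, u'] (fun _ => v), by
    rintro (i | i) (j | j) h <;> fin_cases i <;> fin_cases j <;>
      simp [h1, h2, h3, Ne.symm h1, Ne.symm h2, Ne.symm h3] at h ⊢⟩
  have h := count_pattern (S := S) h4 hn 2 1 (by norm_num) e
  have el : ∀ i, e (Sum.inl i) = ![u, u'] i := fun _ => rfl
  have er : ∀ i, e (Sum.inr i) = v := fun _ => rfl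
  have hs : (∑ g : G, ind S g u * ind S g u' * (1 - ind S g v)) = ((Finset.univ.filter (fun g : G =>
      (∀ i, (g : Perm Ω)⁻¹ (e (Sum.inl i)) ∈ S) ∧ ∀ i, (g : Perm Ω)⁻¹ (e (Sum.inr i)) ∉ S)).card : ℤ) := by
    rw [Finset.card_filter, Nat.cast_sum]
    refine Finset.sum_congr rfl fun g _ => ?_
    simp only [ind]
    by_cases a1 : (g : Perm Ω)⁻¹ u ∈ S <;> by_cases a2 : (g : Perm Ω)⁻¹ u' ∈ S <;>
      by_cases a3 : (g : Perm Ω)⁻¹ v ∈ S <;> simp [a1, a2, a3, el, er, Fin.forall_fin_two]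
  rw [hs, ← (desc4_cast hn).2.1, ← mul_assoc]
  have h' := congrArg (Nat.cast : ℕ → ℤ) h
  simp only [Nat.descFactorial_one, Nat.cast_mul, Nat.reduceAdd] at h'
  rw [h', Nat.cast_descFactorial_two]
  ring

lemma pat31 {u u' u'' v : Ω} (h1 : u ≠ u') (h2 : u ≠ u'') (h3 : u' ≠ u'') (h5 : u ≠ v)
    (h6 : u' ≠ v) (h7 : u'' ≠ v) :
    (∑ g : G, ind S g u * ind S g u' * ind S g u'' * (1 - ind S g v)) * N4 (Fintype.card Ω)
      = Fintype.card G * ((S.card : ℤ) * ((S.card : ℤ) - 1) * ((S.card : ℤ) - 2) * (Sᶜ.card : ℤ)) := by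
  let e : Fin 3 ⊕ Fin 1 ↪ Ω := ⟨Sum.elim ![u, u', u''] (fun _ => v), by
    rintro (i | i) (j | j) h <;> fin_cases i <;> fin_cases j <;>
      simp [h1, h2, h3, h5, h6, h7, Ne.symm h1, Ne.symm h2, Ne.symm h3, Ne.symm h5, Ne.symm h6,
        Ne.symm h7] at h ⊢⟩
  have h := count_pattern (S := S) h4 hn 3 1 (by norm_num) e
  have el : ∀ i, e (Sum.inl i) = ![u, u', u''] i := fun _ => rfl
  have er : ∀ i, e (Sum.inr i) = v := fun _ => rfl
  have hs : (∑ g : G, ind S g u * ind S g u' * ind S g u'' * (1 - ind S g v)) = ((Finset.univ.filter (fun g : G =>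
      (∀ i, (g : Perm Ω)⁻¹ (e (Sum.inl i)) ∈ S) ∧ ∀ i, (g : Perm Ω)⁻¹ (e (Sum.inr i)) ∉ S)).card : ℤ) := by
    rw [Finset.card_filter, Nat.cast_sum]
    refine Finset.sum_congr rfl fun g _ => ?_
    simp only [ind]
    by_cases a1 : (g : Perm Ω)⁻¹ u ∈ S <;> by_cases a2 : (g : Perm Ω)⁻¹ u' ∈ S <;>
      by_cases a4 : (g : Perm Ω)⁻¹ u'' ∈ S <;> by_cases a3 : (g : Perm Ω)⁻¹ v ∈ S <;>
      simp [a1, a2, a3, a4, el, er, Fin.forall_fin_succ]
  rw [hs, ← (desc4_cast hn).1]
  have h' := congrArg (Nat.cast : ℕ → ℤ) h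
  simp only [Nat.descFactorial_one, Nat.cast_mul, Nat.reduceAdd] at h'
  rw [h']
  have : ((S.card.descFactorial 3 : ℕ) : ℤ) = (S.card : ℤ) * ((S.card : ℤ) - 1) * ((S.card : ℤ) - 2) := by
    rcases Nat.lt_or_ge S.card 3 with hlt | hge
    · interval_cases hS : S.card <;> simp [Nat.descFactorial]
    · obtain ⟨k, hk⟩ := Nat.exists_eq_add_of_le hge
      simp only [hk, Nat.descFactorial_succ, Nat.descFactorial_zero, mul_one,
        show 3 + k - 2 = 1 + k by omega, show 3 + k - 1 = 2 + k by omega, Nat.sub_zero]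
      push_cast
      ring
  rw [this]

lemma pat22 {u u' v v' : Ω} (h1 : u ≠ u') (h2 : u ≠ v) (h3 : u ≠ v') (h5 : u' ≠ v)
    (h6 : u' ≠ v') (h7 : v ≠ v') :
    (∑ g : G, ind S g u * ind S g u' * (1 - ind S g v) * (1 - ind S g v')) * N4 (Fintype.card Ω)
      = Fintype.card G * ((S.card : ℤ) * ((S.card : ℤ) - 1) * ((Sᶜ.card : ℤ) * ((Sᶜ.card : ℤ) - 1))) := by
  let e : Fin 2 ⊕ Fin 2 ↪ Ω := ⟨Sum.elim ![u, u'] ![v, v'], by
    rintro (i | i) (j | j) h <;> fin_cases i <;> fin_cases j <;>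
      simp [h1, h2, h3, h5, h6, h7, Ne.symm h1, Ne.symm h2, Ne.symm h3, Ne.symm h5, Ne.symm h6,
        Ne.symm h7] at h ⊢⟩
  have h := count_pattern (S := S) h4 hn 2 2 (by norm_num) e
  have el : ∀ i, e (Sum.inl i) = ![u, u'] i := fun _ => rfl
  have er : ∀ i, e (Sum.inr i) = ![v, v'] i := fun _ => rfl
  have hs : (∑ g : G, ind S g u * ind S g u' * (1 - ind S g v) * (1 - ind S g v')) = ((Finset.univ.filter (fun g : G =>
      (∀ i, (g : Perm Ω)⁻¹ (e (Sum.inl i)) ∈ S) ∧ ∀ i, (g : Perm Ω)⁻¹ (e (Sum.inr i)) ∉ S)).card : ℤ) := by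
    rw [Finset.card_filter, Nat.cast_sum]
    refine Finset.sum_congr rfl fun g _ => ?_
    simp only [ind]
    by_cases a1 : (g : Perm Ω)⁻¹ u ∈ S <;> by_cases a2 : (g : Perm Ω)⁻¹ u' ∈ S <;>
      by_cases a4 : (g : Perm Ω)⁻¹ v' ∈ S <;> by_cases a3 : (g : Perm Ω)⁻¹ v ∈ S <;>
      simp [a1, a2, a3, a4, el, er, Fin.forall_fin_two]
  rw [hs, ← (desc4_cast hn).1]
  have h' := congrArg (Nat.cast : ℕ → ℤ) h
  simp only [Nat.cast_mul, Nat.reduceAdd] at h'
  rw [h', Nat.cast_descFactorial_two, Nat.cast_descFactorial_two]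

omit h4 hn in
omit [Fintype Ω] in
lemma ind_sq (g : G) (z : Ω) : ind S g z * ind S g z = ind S g z := by
  simp only [ind]; split_ifs <;> simp

lemma sum_tau_desc (k : ℕ) (hk : k ≤ 4) :
    (∑ g : G, (tau S G g).descFactorial k) * (Fintype.card Ω).descFactorial k
      = Fintype.card G * (S.card.descFactorial k * S.card.descFactorial k) := by
  let P : Finset (Fin k ↪ Ω) := Finset.univ.filter (fun y => ∀ i, y i ∈ S)
  have h1 : ∀ g : G, (tau S G g).descFactorial k
      = (P.filter (fun y => ∀ i, (g : Perm Ω)⁻¹ (y i) ∈ S)).card := by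
    intro g
    have h := card_emb_in (ι := Fin k) (S.filter (fun z => (g : Perm Ω)⁻¹ z ∈ S))
    rw [Fintype.card_fin] at h
    rw [tau, ← h]
    congr 1
    ext y
    simp [P, forall_and]
  simp only [h1, Finset.card_filter]
  rw [Finset.sum_comm, Finset.sum_mul]
  have h2 : ∀ y ∈ P, (∑ g : G, if (∀ i, (g : Perm Ω)⁻¹ (y i) ∈ S) then 1 else 0) *
      (Fintype.card Ω).descFactorial k = Fintype.card G * S.card.descFactorial k := by
    intro y _
    have h := count_images (G := G) h4 hn (ι := Fin k) (by simpa using hk) y (fun _ => S)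
    rw [card_emb_in, Fintype.card_fin] at h
    rw [← h, ← Finset.card_filter]
    congr 1
    refine Finset.card_bij (fun g _ => g⁻¹) (fun g hg => ?_) (fun a _ b _ h => inv_injective h)
      (fun g hg => ⟨g⁻¹, ?_, inv_inv g⟩)
    · simpa using hg
    · simpa using hg
  rw [Finset.sum_congr rfl h2, Finset.sum_const, smul_eq_mul]
  have hP : P.card = S.card.descFactorial k := by
    have h := card_emb_in (ι := Fin k) S
    rw [Fintype.card_fin] at h
    rw [← h]
    congr 1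
    ext y
    simp [P]
  rw [hP]
  ring

omit hn h4 in
lemma cast_desc (a k : ℕ) : ((a.descFactorial k : ℕ) : ℤ) = ∏ i ∈ Finset.range k, ((a : ℤ) - i) := by
  induction k with
  | zero => simp
  | succ k ih =>
    rw [Nat.descFactorial_succ, Finset.prod_range_succ, Nat.cast_mul, ih]
    rcases Nat.lt_or_ge a k with hlt | hge
    · have : ∏ i ∈ Finset.range k, ((a : ℤ) - i) = 0 :=
        Finset.prod_eq_zero (Finset.mem_range.2 hlt) (by simp)
      simp [this]
    · rw [Nat.cast_sub hge]; ring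

lemma sum_tau_pow :
    let d : ℤ := S.card
    let n : ℤ := Fintype.card Ω
    let D1 := d * d * ((n - 1) * (n - 2) * (n - 3))
    let D2 := (d * (d - 1)) ^ 2 * ((n - 2) * (n - 3))
    let D3 := (d * (d - 1) * (d - 2)) ^ 2 * (n - 3)
    let D4 := (d * (d - 1) * (d - 2) * (d - 3)) ^ 2
    (∑ g : G, (tau S G g : ℤ)) * N4 n = Fintype.card G * D1 ∧
    (∑ g : G, (tau S G g : ℤ) ^ 2) * N4 n = Fintype.card G * (D2 + D1) ∧
    (∑ g : G, (tau S G g : ℤ) ^ 3) * N4 n = Fintype.card G * (D3 + 3 * D2 + D1) ∧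
    (∑ g : G, (tau S G g : ℤ) ^ 4) * N4 n = Fintype.card G * (D4 + 6 * D3 + 7 * D2 + D1) := by
  intro d n D1 D2 D3 D4
  have key : ∀ k, k ≤ 4 → ∀ r : ℤ, ((Fintype.card Ω).descFactorial k : ℤ) * r = N4 n →
      (∑ g : G, ((tau S G g).descFactorial k : ℤ)) * N4 n
        = Fintype.card G * ((S.card.descFactorial k : ℤ) * (S.card.descFactorial k : ℤ) * r) := by
    intro k hk r hr
    rw [← hr, ← mul_assoc]
    have := congrArg (Nat.cast : ℕ → ℤ) (sum_tau_desc (S := S) h4 hn k hk)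
    push_cast at this
    rw [this]; ring
  obtain ⟨e4, e3, e2, e1⟩ := desc4_cast hn
  have k1 := key 1 (by norm_num) _ e1
  have k2 := key 2 (by norm_num) _ e2
  have k3 := key 3 (by norm_num) _ e3
  have k4 := key 4 le_rfl 1 (by rw [mul_one]; exact e4)
  simp only [cast_desc, Finset.prod_range_succ, Finset.prod_range_zero, one_mul, Nat.cast_zero,
    sub_zero, Nat.cast_one, Nat.cast_ofNat, mul_one] at k1 k2 k3 k4
  have s1 : (∑ g : G, (tau S G g : ℤ)) * N4 n = Fintype.card G * D1 := by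
    rw [k1]
  have s2 : (∑ g : G, (tau S G g : ℤ) ^ 2) * N4 n = Fintype.card G * (D2 + D1) := by
    calc _ = (∑ g : G, ((tau S G g : ℤ) * ((tau S G g : ℤ) - 1))) * N4 n
          + (∑ g : G, (tau S G g : ℤ)) * N4 n := by
            rw [← add_mul, ← Finset.sum_add_distrib]
            congr 1
            exact Finset.sum_congr rfl fun g _ => by ring
      _ = _ := by rw [k2, s1]; ring
  have s3 : (∑ g : G, (tau S G g : ℤ) ^ 3) * N4 n = Fintype.card G * (D3 + 3 * D2 + D1) := by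
    calc _ = (∑ g : G, ((tau S G g : ℤ) * ((tau S G g : ℤ) - 1) * ((tau S G g : ℤ) - 2))) * N4 n
          + 3 * ((∑ g : G, ((tau S G g : ℤ) * ((tau S G g : ℤ) - 1))) * N4 n)
          + (∑ g : G, (tau S G g : ℤ)) * N4 n := by
            rw [← mul_assoc, ← add_mul, ← add_mul, Finset.mul_sum, ← Finset.sum_add_distrib,
              ← Finset.sum_add_distrib]
            congr 1
            exact Finset.sum_congr rfl fun g _ => by ring
      _ = _ := by rw [k2, k3, s1]; ring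
  have s4 : (∑ g : G, (tau S G g : ℤ) ^ 4) * N4 n = Fintype.card G * (D4 + 6 * D3 + 7 * D2 + D1) := by
    calc _ = (∑ g : G, ((tau S G g : ℤ) * ((tau S G g : ℤ) - 1) * ((tau S G g : ℤ) - 2) * ((tau S G g : ℤ) - 3))) * N4 n
          + 6 * ((∑ g : G, ((tau S G g : ℤ) * ((tau S G g : ℤ) - 1) * ((tau S G g : ℤ) - 2))) * N4 n)
          + 7 * ((∑ g : G, ((tau S G g : ℤ) * ((tau S G g : ℤ) - 1))) * N4 n)
          + (∑ g : G, (tau S G g : ℤ)) * N4 n := by
            rw [← mul_assoc, ← mul_assoc, ← add_mul, ← add_mul, ← add_mul, Finset.mul_sum,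
              Finset.mul_sum, ← Finset.sum_add_distrib, ← Finset.sum_add_distrib,
              ← Finset.sum_add_distrib]
            congr 1
            exact Finset.sum_congr rfl fun g _ => by ring
      _ = _ := by rw [k2, k3, k4, s1]; ring
  exact ⟨s1, s2, s3, s4⟩

omit h4 hn in
/-- `n - d` as an integer. -/
lemma compl_cast : (Sᶜ.card : ℤ) = (Fintype.card Ω : ℤ) - (S.card : ℤ) := by
  rw [Finset.card_compl, Nat.cast_sub (Finset.card_le_univ S)]

section
variable {σ : Perm Ω} (hσS : ∀ z ∈ S, σ z ∈ S) (hσ : ∀ z ∈ S, σ z ≠ z)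
include hσS hσ

lemma sum_bd :
    (∑ g : G, (bd S G σ g : ℤ)) * N4 (Fintype.card Ω) = Fintype.card G *
      ((S.card : ℤ) * ((S.card : ℤ) * ((Fintype.card Ω : ℤ) - S.card) *
        (((Fintype.card Ω : ℤ) - 2) * ((Fintype.card Ω : ℤ) - 3)))) := by
  have := hσS
  simp only [bd_eq]
  rw [Finset.sum_comm, Finset.sum_mul]
  have h : ∀ z ∈ S, (∑ g : G, (1 - ind S g z) * ind S g (σ z)) * N4 (Fintype.card Ω)
      = Fintype.card G * ((S.card : ℤ) * ((Fintype.card Ω : ℤ) - S.card) *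
        (((Fintype.card Ω : ℤ) - 2) * ((Fintype.card Ω : ℤ) - 3))) := fun z hz => by
    rw [← compl_cast, ← pat11 h4 hn (hσ z hz)]
    congr 1
    exact Finset.sum_congr rfl fun g _ => mul_comm _ _
  rw [Finset.sum_congr rfl h, Finset.sum_const, nsmul_eq_mul]
  ring

omit h4 hn in
omit [Fintype Ω] in
lemma tau_split (g : G) {z : Ω} (hz : z ∈ S) :
    (tau S G g : ℤ) = ind S g z + ind S g (σ z) + ∑ w ∈ (S.erase z).erase (σ z), ind S g w := by
  rw [tau_eq, ← Finset.add_sum_erase S _ hz,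
    ← Finset.add_sum_erase (S.erase z) _ (Finset.mem_erase.2 ⟨hσ z hz, hσS z hz⟩)]
  ring

omit h4 hn in
omit [Fintype Ω] in
lemma card_rest {z : Ω} (hz : z ∈ S) :
    (((S.erase z).erase (σ z)).card : ℤ) = (S.card : ℤ) - 2 := by
  have h1 : σ z ∈ S.erase z := Finset.mem_erase.2 ⟨hσ z hz, hσS z hz⟩
  have := Finset.card_erase_add_one hz
  have := Finset.card_erase_add_one h1
  omega

lemma sum_bd_tau :
    (∑ g : G, (bd S G σ g : ℤ) * tau S G g) * N4 (Fintype.card Ω) = Fintype.card G *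
      ((S.card : ℤ) * (((S.card : ℤ) * ((Fintype.card Ω : ℤ) - S.card) *
          ((Fintype.card Ω : ℤ) - 2) + ((S.card : ℤ) - 2) * ((S.card : ℤ) * ((S.card : ℤ) - 1) *
          ((Fintype.card Ω : ℤ) - S.card))) * ((Fintype.card Ω : ℤ) - 3))) := by
  simp only [bd_eq, Finset.sum_mul]
  rw [Finset.sum_comm]
  have h : ∀ z ∈ S, (∑ g : G, (1 - ind S g z) * ind S g (σ z) * tau S G g * N4 (Fintype.card Ω))
      = Fintype.card G * (((S.card : ℤ) * ((Fintype.card Ω : ℤ) - S.card) *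
          ((Fintype.card Ω : ℤ) - 2) + ((S.card : ℤ) - 2) * ((S.card : ℤ) * ((S.card : ℤ) - 1) *
          ((Fintype.card Ω : ℤ) - S.card))) * ((Fintype.card Ω : ℤ) - 3)) := fun z hz => by
    have e : ∀ g : G, (1 - ind S g z) * ind S g (σ z) * (tau S G g : ℤ)
        = ind S g (σ z) * (1 - ind S g z)
          + ∑ w ∈ (S.erase z).erase (σ z), ind S g (σ z) * ind S g w * (1 - ind S g z) := by
      intro g
      rw [tau_split hσS hσ g hz, mul_add, mul_add, Finset.mul_sum]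
      have h0 : (1 - ind S g z) * ind S g (σ z) * ind S g z = 0 := by
        linear_combination (-(ind S g (σ z))) * ind_sq g z
      have h1 : (1 - ind S g z) * ind S g (σ z) * ind S g (σ z)
          = ind S g (σ z) * (1 - ind S g z) := by
        linear_combination (1 - ind S g z) * ind_sq g (σ z)
      rw [h0, h1, zero_add]
      congr 1
      exact Finset.sum_congr rfl fun w _ => by ring
    rw [← Finset.sum_mul, Finset.sum_congr rfl (fun g _ => e g), Finset.sum_add_distrib, add_mul,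
      pat11 h4 hn (hσ z hz), Finset.sum_comm, Finset.sum_mul,
      Finset.sum_congr rfl (fun w hw => pat21 h4 hn (Ne.symm (Finset.ne_of_mem_erase hw)) (hσ z hz)
        (Finset.ne_of_mem_erase (Finset.mem_of_mem_erase hw))),
      Finset.sum_const, nsmul_eq_mul, card_rest hσS hσ hz, compl_cast]
    ring
  rw [Finset.sum_congr rfl h, Finset.sum_const, nsmul_eq_mul]
  ring

lemma sum_bd_tau_sq :
    (∑ g : G, (bd S G σ g : ℤ) * (tau S G g : ℤ) ^ 2) * N4 (Fintype.card Ω) = Fintype.card G *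
      ((S.card : ℤ) * ((S.card : ℤ) * ((Fintype.card Ω : ℤ) - S.card) *
          ((Fintype.card Ω : ℤ) - 2) * ((Fintype.card Ω : ℤ) - 3)
        + 3 * ((S.card : ℤ) - 2) * ((S.card : ℤ) * ((S.card : ℤ) - 1) *
          ((Fintype.card Ω : ℤ) - S.card) * ((Fintype.card Ω : ℤ) - 3))
        + ((S.card : ℤ) - 2) * ((S.card : ℤ) - 3) * ((S.card : ℤ) * ((S.card : ℤ) - 1) *
          ((S.card : ℤ) - 2) * ((Fintype.card Ω : ℤ) - S.card)))) := by
  simp only [bd_eq, Finset.sum_mul]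
  rw [Finset.sum_comm]
  have h : ∀ z ∈ S,
      (∑ g : G, (1 - ind S g z) * ind S g (σ z) * (tau S G g : ℤ) ^ 2 * N4 (Fintype.card Ω))
      = Fintype.card G * ((S.card : ℤ) * ((Fintype.card Ω : ℤ) - S.card) *
          ((Fintype.card Ω : ℤ) - 2) * ((Fintype.card Ω : ℤ) - 3)
        + 3 * ((S.card : ℤ) - 2) * ((S.card : ℤ) * ((S.card : ℤ) - 1) *
          ((Fintype.card Ω : ℤ) - S.card) * ((Fintype.card Ω : ℤ) - 3))
        + ((S.card : ℤ) - 2) * ((S.card : ℤ) - 3) * ((S.card : ℤ) * ((S.card : ℤ) - 1) *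
          ((S.card : ℤ) - 2) * ((Fintype.card Ω : ℤ) - S.card))) := fun z hz => by
    set W := (S.erase z).erase (σ z) with hW
    have e : ∀ g : G, (1 - ind S g z) * ind S g (σ z) * (tau S G g : ℤ) ^ 2
        = ind S g (σ z) * (1 - ind S g z)
          + 3 * (∑ w ∈ W, ind S g (σ z) * ind S g w * (1 - ind S g z))
          + ∑ w ∈ W, ∑ w' ∈ W.erase w,
              ind S g (σ z) * ind S g w * ind S g w' * (1 - ind S g z) := by
      intro g
      have hR : (∑ w ∈ W, ind S g w) * (∑ w ∈ W, ind S g w)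
          = (∑ w ∈ W, ind S g w) + ∑ w ∈ W, ∑ w' ∈ W.erase w, ind S g w * ind S g w' := by
        rw [Finset.sum_mul_sum, ← Finset.sum_add_distrib]
        refine Finset.sum_congr rfl fun w hw => ?_
        rw [← Finset.add_sum_erase W _ hw, ind_sq]
      have e1 : (∑ w ∈ W, ind S g (σ z) * ind S g w * (1 - ind S g z))
          = (1 - ind S g z) * ind S g (σ z) * ∑ w ∈ W, ind S g w := by
        rw [Finset.mul_sum]
        exact Finset.sum_congr rfl fun w _ => by ring
      have e2 : (∑ w ∈ W, ∑ w' ∈ W.erase w,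
            ind S g (σ z) * ind S g w * ind S g w' * (1 - ind S g z))
          = (1 - ind S g z) * ind S g (σ z) *
            ∑ w ∈ W, ∑ w' ∈ W.erase w, ind S g w * ind S g w' := by
        rw [Finset.mul_sum]
        refine Finset.sum_congr rfl fun w _ => ?_
        rw [Finset.mul_sum]
        exact Finset.sum_congr rfl fun w' _ => by ring
      rw [e1, e2, tau_split hσS hσ g hz, ← hW]
      have hz0 := ind_sq (S := S) g z
      have hz1 := ind_sq (S := S) g (σ z)
      generalize ind S g z = a at hz0 ⊢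
      generalize ind S g (σ z) = b at hz1 ⊢
      generalize (∑ w ∈ W, ind S g w) = R at hR ⊢
      generalize (∑ w ∈ W, ∑ w' ∈ W.erase w, ind S g w * ind S g w') = Q at hR ⊢
      linear_combination (1 - a) * b * hR + (-b) * (a + 2 * b + 2 * R) * hz0
        + ((1 - a) * (b + 1 + 2 * R)) * hz1
    rw [← Finset.sum_mul, Finset.sum_congr rfl (fun g _ => e g), Finset.sum_add_distrib,
      Finset.sum_add_distrib, add_mul, add_mul, ← Finset.mul_sum, mul_assoc (3 : ℤ),
      pat11 h4 hn (hσ z hz), Finset.sum_comm, Finset.sum_mul,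
      Finset.sum_congr rfl (fun w hw => pat21 h4 hn (Ne.symm (Finset.ne_of_mem_erase hw)) (hσ z hz)
        (Finset.ne_of_mem_erase (Finset.mem_of_mem_erase hw))),
      Finset.sum_const, nsmul_eq_mul]
    have h3 : (∑ g : G, ∑ w ∈ W, ∑ w' ∈ W.erase w,
          ind S g (σ z) * ind S g w * ind S g w' * (1 - ind S g z)) * N4 (Fintype.card Ω)
        = (W.card : ℤ) * ((W.card : ℤ) - 1) * (Fintype.card G * ((S.card : ℤ) *
          ((S.card : ℤ) - 1) * ((S.card : ℤ) - 2) * (Sᶜ.card : ℤ))) := by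
      rw [Finset.sum_comm, Finset.sum_mul]
      have : ∀ w ∈ W, (∑ g : G, ∑ w' ∈ W.erase w,
            ind S g (σ z) * ind S g w * ind S g w' * (1 - ind S g z)) * N4 (Fintype.card Ω)
          = ((W.card : ℤ) - 1) * (Fintype.card G * ((S.card : ℤ) *
            ((S.card : ℤ) - 1) * ((S.card : ℤ) - 2) * (Sᶜ.card : ℤ))) := by
        intro w hw
        rw [Finset.sum_comm, Finset.sum_mul, Finset.sum_congr rfl (fun w' hw' =>
          pat31 h4 hn (Ne.symm (Finset.ne_of_mem_erase hw))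
            (Ne.symm (Finset.ne_of_mem_erase (Finset.mem_of_mem_erase hw')))
            (Ne.symm (Finset.ne_of_mem_erase hw')) (hσ z hz)
            (Finset.ne_of_mem_erase (Finset.mem_of_mem_erase hw))
            (Finset.ne_of_mem_erase (Finset.mem_of_mem_erase (Finset.mem_of_mem_erase hw')))),
          Finset.sum_const, nsmul_eq_mul]
        have := Finset.card_erase_add_one hw
        congr 1
        rw [hW] at *
        omega
      rw [Finset.sum_congr rfl this, Finset.sum_const, nsmul_eq_mul]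
      ring
    rw [h3, card_rest hσS hσ hz, compl_cast]
    ring
  rw [Finset.sum_congr rfl h, Finset.sum_const, nsmul_eq_mul]
  ring

lemma sum_bd_sq {c : ℤ} (hc : ∀ z ∈ S, (((S.erase z).erase (σ z)).erase (σ⁻¹ z)).card = c) :
    (∑ g : G, (bd S G σ g : ℤ) ^ 2) * N4 (Fintype.card Ω) = Fintype.card G *
      ((S.card : ℤ) * ((S.card : ℤ) * ((Fintype.card Ω : ℤ) - S.card) *
          (((Fintype.card Ω : ℤ) - 2) * ((Fintype.card Ω : ℤ) - 3))
        + c * ((S.card : ℤ) * ((S.card : ℤ) - 1) * (((Fintype.card Ω : ℤ) - S.card) *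
          ((Fintype.card Ω : ℤ) - S.card - 1))))) := by
  simp only [bd_eq, sq, Finset.sum_mul_sum]
  rw [Finset.sum_comm, Finset.sum_mul]
  have h : ∀ z ∈ S, (∑ g : G, ∑ w ∈ S, (1 - ind S g z) * ind S g (σ z) *
        ((1 - ind S g w) * ind S g (σ w))) * N4 (Fintype.card Ω)
      = Fintype.card G * ((S.card : ℤ) * ((Fintype.card Ω : ℤ) - S.card) *
          (((Fintype.card Ω : ℤ) - 2) * ((Fintype.card Ω : ℤ) - 3))
        + c * ((S.card : ℤ) * ((S.card : ℤ) - 1) * (((Fintype.card Ω : ℤ) - S.card) *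
          ((Fintype.card Ω : ℤ) - S.card - 1)))) := fun z hz => by
    set W := ((S.erase z).erase (σ z)).erase (σ⁻¹ z) with hW
    have e : ∀ g : G, (∑ w ∈ S, (1 - ind S g z) * ind S g (σ z) *
        ((1 - ind S g w) * ind S g (σ w))) = ind S g (σ z) * (1 - ind S g z)
          + ∑ w ∈ W, ind S g (σ z) * ind S g (σ w) * (1 - ind S g z) * (1 - ind S g w) := by
      intro g
      rw [← Finset.add_sum_erase S _ hz,
        ← Finset.add_sum_erase (S.erase z) _ (Finset.mem_erase.2 ⟨hσ z hz, hσS z hz⟩)]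
      have hz0 := ind_sq (S := S) g z
      have hz1 := ind_sq (S := S) g (σ z)
      have h0 : (1 - ind S g z) * ind S g (σ z) * ((1 - ind S g z) * ind S g (σ z))
          = ind S g (σ z) * (1 - ind S g z) := by
        linear_combination ind S g (σ z) * ind S g (σ z) * hz0 + (1 - ind S g z) * hz1
      have h1 : (1 - ind S g z) * ind S g (σ z) * ((1 - ind S g (σ z)) * ind S g (σ (σ z))) = 0 := by
        linear_combination (-((1 - ind S g z) * ind S g (σ (σ z)))) * hz1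
      rw [h0, h1, zero_add]
      congr 1
      rw [hW]
      refine (Finset.sum_subset (Finset.erase_subset _ _) ?_).symm.trans
        (Finset.sum_congr rfl fun w _ => by ring)
      intro w hw hw'
      have : w = σ⁻¹ z := by
        by_contra hne
        exact hw' (Finset.mem_erase.2 ⟨hne, hw⟩)
      subst this
      rw [app_inv]
      linear_combination (-(ind S g (σ z) * (1 - ind S g (σ⁻¹ z)))) * hz0
    rw [Finset.sum_congr rfl (fun g _ => e g), Finset.sum_add_distrib, add_mul,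
      pat11 h4 hn (hσ z hz), Finset.sum_comm, Finset.sum_mul]
    have hterm : ∀ w ∈ W, (∑ g : G, ind S g (σ z) * ind S g (σ w) * (1 - ind S g z) *
        (1 - ind S g w)) * N4 (Fintype.card Ω) = Fintype.card G * ((S.card : ℤ) *
          ((S.card : ℤ) - 1) * ((Sᶜ.card : ℤ) * ((Sᶜ.card : ℤ) - 1))) := by
      intro w hw
      simp only [hW, Finset.mem_erase] at hw
      obtain ⟨w1, w2, w3, w4⟩ := hw
      refine pat22 h4 hn (fun e => w3 (σ.injective e).symm) (hσ z hz) (Ne.symm w2)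
        (fun e => w1 ?_) (hσ w w4) (Ne.symm w3)
      rw [← e, inv_app]
    rw [Finset.sum_congr rfl hterm, Finset.sum_const, nsmul_eq_mul, hc z hz, compl_cast]
    ring
  rw [Finset.sum_congr rfl h, Finset.sum_const, nsmul_eq_mul]
  ring

omit hσS hσ in
/-- Count of elements mapping prescribed points to prescribed disjoint sets. -/
lemma count_fin {k : ℕ} (hk : k ≤ 4) (x : Fin k ↪ Ω) (P : Fin k → Finset Ω)
    (hP : ∀ i j, i ≠ j → Disjoint (P i) (P j)) :
    ((Finset.univ.filter (fun g : G => ∀ i, (g : Perm Ω) (x i) ∈ P i)).card : ℤ) *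
      ((Fintype.card Ω).descFactorial k : ℤ) = Fintype.card G * ∏ i, ((P i).card : ℤ) := by
  have h := count_images (G := G) h4 hn (ι := Fin k) (by simpa using hk) x P
  rw [Fintype.card_fin, card_emb_disjoint P hP] at h
  have h' := congrArg (Nat.cast : ℕ → ℤ) h
  push_cast at h'
  rw [← h']
  congr 3
  ext g
  simp

lemma xy_three {σ' : Perm Ω} {z u w : Ω} (hz : z ∈ S) (hu : u ∈ S) (hw : w ∉ S)
    (hσS' : σ' u ∈ S) (hσ' : σ' u ≠ u) :
    (∑ g : G, if (g : Perm Ω) (σ' u) = σ z ∧ (g : Perm Ω) w = z ∧ (g : Perm Ω) u ∉ S ∧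
      (g : Perm Ω) (σ' u) ∈ S then (1 : ℤ) else 0) * N4 (Fintype.card Ω)
      = Fintype.card G * ((Sᶜ.card : ℤ) * ((Fintype.card Ω : ℤ) - 3)) := by
  have n1 := ne_of_mem_of_not_mem hσS' hw
  have n2 := ne_of_mem_of_not_mem hu hw
  let x : Fin 3 ↪ Ω := ⟨![σ' u, w, u], by
    intro i j hij
    fin_cases i <;> fin_cases j <;> first
      | rfl
      | (exfalso; revert hij; simp [hσ', Ne.symm hσ', n1, n1.symm, n2, n2.symm])⟩
  have m1 := hσ z hz
  have m2 := hσS z hz
  have hc := count_fin h4 hn (G := G) (by norm_num) x ![{σ z}, {z}, Sᶜ] (by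
    intro i j hij
    fin_cases i <;> fin_cases j <;> first
      | exact absurd rfl hij
      | simp [m1, Ne.symm m1, m2, hz])
  rw [Finset.sum_boole, ← (desc4_cast hn).2.1, ← mul_assoc]
  have hfe : (Finset.univ.filter (fun g : G => (g : Perm Ω) (σ' u) = σ z ∧
      (g : Perm Ω) w = z ∧ (g : Perm Ω) u ∉ S ∧ (g : Perm Ω) (σ' u) ∈ S))
      = Finset.univ.filter (fun g : G => ∀ i, (g : Perm Ω) (x i) ∈
        (![{σ z}, {z}, Sᶜ] : Fin 3 → Finset Ω) i) := by
    ext g
    simp only [Finset.mem_filter, Finset.mem_univ, true_and, Fin.forall_fin_succ]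
    simp [show ∀ i, x i = (![σ' u, w, u] : Fin 3 → Ω) i from fun _ => rfl]
    intro h1 _ _
    exact h1 ▸ m2
  rw [hfe, hc]
  simp [Fin.prod_univ_three]
  ring

lemma xy_four {σ' : Perm Ω} {z u v w : Ω} (hz : z ∈ S) (hu : u ∈ S) (hw : w ∉ S)
    (hσS' : σ' u ∈ S) (hσ' : σ' u ≠ u) (hv : v ∈ S) (v1 : v ≠ σ' u) (v2 : v ≠ u) :
    (∑ g : G, if (g : Perm Ω) v = σ z ∧ (g : Perm Ω) w = z ∧ (g : Perm Ω) u ∉ S ∧
      (g : Perm Ω) (σ' u) ∈ S then (1 : ℤ) else 0) * N4 (Fintype.card Ω)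
      = Fintype.card G * (((S.card : ℤ) - 2) * (Sᶜ.card : ℤ)) := by
  have n1 := ne_of_mem_of_not_mem hσS' hw
  have n2 := ne_of_mem_of_not_mem hu hw
  have n3 := ne_of_mem_of_not_mem hv hw
  let x : Fin 4 ↪ Ω := ⟨![v, w, u, σ' u], by
    intro i j hij
    fin_cases i <;> fin_cases j <;> first
      | rfl
      | (exfalso; revert hij; simp [hσ', Ne.symm hσ', n1, n1.symm, n2, n2.symm, n3, n3.symm,
          v1, v2, Ne.symm v1, Ne.symm v2])⟩
  have m1 := hσ z hz
  have m2 := hσS z hz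
  have hd : ∀ a ∈ (S.erase z).erase (σ z), a ≠ σ z ∧ a ≠ z ∧ a ∈ S := fun a ha => by
    simp only [Finset.mem_erase] at ha; exact ha
  have hc := count_fin h4 hn (G := G) le_rfl x ![{σ z}, {z}, Sᶜ, (S.erase z).erase (σ z)] (by
    intro i j hij
    fin_cases i <;> fin_cases j <;> first
      | exact absurd rfl hij
      | (simp [m1, Ne.symm m1, m2, hz]; done)
      | (simp only [Finset.disjoint_left]; intro a ha ha'
         simp at ha ha'; simp_all))
  rw [Finset.sum_boole, ← (desc4_cast hn).1]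
  have hfe : (Finset.univ.filter (fun g : G => (g : Perm Ω) v = σ z ∧
      (g : Perm Ω) w = z ∧ (g : Perm Ω) u ∉ S ∧ (g : Perm Ω) (σ' u) ∈ S))
      = Finset.univ.filter (fun g : G => ∀ i, (g : Perm Ω) (x i) ∈
        (![{σ z}, {z}, Sᶜ, (S.erase z).erase (σ z)] : Fin 4 → Finset Ω) i) := by
    ext g
    simp only [Finset.mem_filter, Finset.mem_univ, true_and, Fin.forall_fin_succ]
    simp [show ∀ i, x i = (![v, w, u, σ' u] : Fin 4 → Ω) i from fun _ => rfl]
    intro h1 h2 _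
    exact ⟨fun h => ⟨fun e => v1 ((g : Perm Ω).injective (h1.trans e.symm)),
      fun e => n1 ((g : Perm Ω).injective (e.trans h2.symm)), h⟩, fun h => h.2.2⟩
  rw [hfe, hc, ← card_rest hσS hσ hz]
  simp [Fin.prod_univ_four]
  ring

lemma sum_bd_bd {σ' : Perm Ω} (hσS' : ∀ z ∈ S, σ' z ∈ S) (hσ' : ∀ z ∈ S, σ' z ≠ z) :
    (∑ g : G, (bd S G σ g : ℤ) * bd S G σ' g⁻¹) * N4 (Fintype.card Ω) = Fintype.card G *
      ((S.card : ℤ) ^ 2 * (((Fintype.card Ω : ℤ) - S.card) ^ 2 * ((Fintype.card Ω : ℤ) - 3)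
        + ((S.card : ℤ) - 2) ^ 2 * ((Fintype.card Ω : ℤ) - S.card) ^ 2)) := by
  have ha : ∀ g : G, (bd S G σ g : ℤ) * bd S G σ' g⁻¹ = ∑ z ∈ S, ∑ u ∈ S, ∑ v ∈ S, ∑ w ∈ Sᶜ,
      if (g : Perm Ω) v = σ z ∧ (g : Perm Ω) w = z ∧ (g : Perm Ω) u ∉ S ∧ (g : Perm Ω) (σ' u) ∈ S
        then 1 else 0 := by
    intro g
    rw [bd_eq, bd_eq, Finset.sum_mul_sum]
    refine Finset.sum_congr rfl fun z _ => Finset.sum_congr rfl fun u _ => ?_
    simp only [ind, Subgroup.coe_inv, inv_inv]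
    have e1 : ∀ v y, (g : Perm Ω) v = y ↔ (g : Perm Ω)⁻¹ y = v := fun v y =>
      ⟨fun h => by rw [← h, inv_app], fun h => by rw [← h, app_inv]⟩
    simp only [e1, ite_and, Finset.sum_ite_eq, Finset.mem_compl]
    by_cases a1 : (g : Perm Ω)⁻¹ z ∈ S <;> by_cases a2 : (g : Perm Ω)⁻¹ (σ z) ∈ S <;>
      by_cases a3 : (g : Perm Ω) u ∈ S <;> by_cases a4 : (g : Perm Ω) (σ' u) ∈ S <;>
      simp [a1, a2, a3, a4, Finset.sum_ite_eq]
  simp only [ha]
  rw [Finset.sum_comm, Finset.sum_mul]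
  have h : ∀ z ∈ S, (∑ g : G, ∑ u ∈ S, ∑ v ∈ S, ∑ w ∈ Sᶜ,
      if (g : Perm Ω) v = σ z ∧ (g : Perm Ω) w = z ∧ (g : Perm Ω) u ∉ S ∧ (g : Perm Ω) (σ' u) ∈ S
        then (1 : ℤ) else 0) * N4 (Fintype.card Ω) = Fintype.card G *
      ((S.card : ℤ) * (((Fintype.card Ω : ℤ) - S.card) ^ 2 * ((Fintype.card Ω : ℤ) - 3)
        + ((S.card : ℤ) - 2) ^ 2 * ((Fintype.card Ω : ℤ) - S.card) ^ 2)) := by
    intro z hz
    rw [Finset.sum_comm, Finset.sum_mul]
    have hu : ∀ u ∈ S, (∑ g : G, ∑ v ∈ S, ∑ w ∈ Sᶜ,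
        if (g : Perm Ω) v = σ z ∧ (g : Perm Ω) w = z ∧ (g : Perm Ω) u ∉ S ∧ (g : Perm Ω) (σ' u) ∈ S
          then (1 : ℤ) else 0) * N4 (Fintype.card Ω) = Fintype.card G *
        (((Fintype.card Ω : ℤ) - S.card) ^ 2 * ((Fintype.card Ω : ℤ) - 3)
          + ((S.card : ℤ) - 2) ^ 2 * ((Fintype.card Ω : ℤ) - S.card) ^ 2) := by
      intro u hu
      rw [Finset.sum_comm, Finset.sum_mul, ← Finset.add_sum_erase S _ hu,
        ← Finset.add_sum_erase (S.erase u) _ (Finset.mem_erase.2 ⟨hσ' u hu, hσS' u hu⟩)]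
      have t0 : (∑ g : G, ∑ w ∈ Sᶜ, if (g : Perm Ω) u = σ z ∧ (g : Perm Ω) w = z ∧
          (g : Perm Ω) u ∉ S ∧ (g : Perm Ω) (σ' u) ∈ S then (1 : ℤ) else 0) = 0 :=
        Finset.sum_eq_zero fun g _ => Finset.sum_eq_zero fun w _ =>
          if_neg fun hh => hh.2.2.1 (hh.1 ▸ hσS z hz)
      have t1 : (∑ g : G, ∑ w ∈ Sᶜ, if (g : Perm Ω) (σ' u) = σ z ∧ (g : Perm Ω) w = z ∧
          (g : Perm Ω) u ∉ S ∧ (g : Perm Ω) (σ' u) ∈ S then (1 : ℤ) else 0) * N4 (Fintype.card Ω)
          = Fintype.card G * (((Fintype.card Ω : ℤ) - S.card) ^ 2 *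
            ((Fintype.card Ω : ℤ) - 3)) := by
        rw [Finset.sum_comm, Finset.sum_mul]
        have : ∀ w ∈ Sᶜ, (∑ g : G, if (g : Perm Ω) (σ' u) = σ z ∧ (g : Perm Ω) w = z ∧
            (g : Perm Ω) u ∉ S ∧ (g : Perm Ω) (σ' u) ∈ S then (1 : ℤ) else 0) *
            N4 (Fintype.card Ω) = Fintype.card G * ((Sᶜ.card : ℤ) *
              ((Fintype.card Ω : ℤ) - 3)) := fun w hw =>
          xy_three h4 hn hσS hσ hz hu (Finset.mem_compl.1 hw) (hσS' u hu) (hσ' u hu)
        rw [Finset.sum_congr rfl this, Finset.sum_const, nsmul_eq_mul, compl_cast]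
        ring
      have t2 : ∀ v ∈ (S.erase u).erase (σ' u), (∑ g : G, ∑ w ∈ Sᶜ,
          if (g : Perm Ω) v = σ z ∧ (g : Perm Ω) w = z ∧
          (g : Perm Ω) u ∉ S ∧ (g : Perm Ω) (σ' u) ∈ S then (1 : ℤ) else 0) * N4 (Fintype.card Ω)
          = Fintype.card G * (((S.card : ℤ) - 2) * ((Fintype.card Ω : ℤ) - S.card) ^ 2) := by
        intro v hv
        simp only [Finset.mem_erase] at hv
        obtain ⟨v1, v2, v3⟩ := hv
        rw [Finset.sum_comm, Finset.sum_mul]
        have : ∀ w ∈ Sᶜ, (∑ g : G, if (g : Perm Ω) v = σ z ∧ (g : Perm Ω) w = z ∧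
            (g : Perm Ω) u ∉ S ∧ (g : Perm Ω) (σ' u) ∈ S then (1 : ℤ) else 0) *
            N4 (Fintype.card Ω) = Fintype.card G * (((S.card : ℤ) - 2) * (Sᶜ.card : ℤ)) := fun w hw =>
          xy_four h4 hn hσS hσ hz hu (Finset.mem_compl.1 hw) (hσS' u hu) (hσ' u hu) v3 v1 v2
        rw [Finset.sum_congr rfl this, Finset.sum_const, nsmul_eq_mul, compl_cast]
        ring
      rw [t0, t1, Finset.sum_congr rfl t2, Finset.sum_const, nsmul_eq_mul,
        card_rest hσS' hσ' hu]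
      ring
    rw [Finset.sum_congr rfl hu, Finset.sum_const, nsmul_eq_mul]
    ring
  rw [Finset.sum_congr rfl h, Finset.sum_const, nsmul_eq_mul]
  ring

end

end

end Cfsg.Agent.PronormalFix
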