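import Cfsg.Agent.Lib.PronormalFix.Blocks

/-!
Restriction to invariant sets, multiple transitivity and orbital graphs (S3399).
-/

namespace Cfsg.Agent.PronormalFix

open Equiv Equiv.Perm

variable {Ω : Type}

/-- Double transitivity. -/
def Tr2 (G : Subgroup (Perm Ω)) : Prop :=
  ∀ a b a' b' : Ω, a ≠ b → a' ≠ b' → ∃ g ∈ G, g a = a' ∧ g b = b'

/-- Triple transitivity. -/
def Tr3 (G : Subgroup (Perm Ω)) : Prop :=
  ∀ a b c a' b' c' : Ω, a ≠ b → a ≠ c → b ≠ c → a' ≠ b' → a' ≠ c' → b' ≠ c' →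
    ∃ g ∈ G, g a = a' ∧ g b = b' ∧ g c = c'

/-- Quadruple transitivity. -/
def Tr4 (G : Subgroup (Perm Ω)) : Prop :=
  ∀ a b c d a' b' c' d' : Ω, [a, b, c, d].Nodup → [a', b', c', d'].Nodup →
    ∃ g ∈ G, g a = a' ∧ g b = b' ∧ g c = c' ∧ g d = d'

lemma Pro.subgroupOf {A : Type*} [Group A] {M K : Subgroup A} (h : Pro M K) (hKM : K ≤ M) :
    Pro (⊤ : Subgroup M) (K.subgroupOf M) := by
  intro g _
  obtain ⟨w, hw, hweq⟩ := h g g.2
  have hKK : (K.subgroupOf M).map M.subtype = K := Subgroup.map_subgroupOf_eq_of_le hKM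
  have hc : ∀ a : M, ((K.subgroupOf M).map (MulAut.conj a).toMonoidHom).map M.subtype
      = K.map (MulAut.conj (a : A)).toMonoidHom := by
    intro a
    conv_rhs => rw [← hKK]
    rw [Subgroup.map_map, Subgroup.map_map]
    congr 1
  have hw' : w ∈ (K.subgroupOf M ⊔ (K.subgroupOf M).map (MulAut.conj g).toMonoidHom).map M.subtype := by
    rw [Subgroup.map_sup, hc, hKK]; exact hw
  obtain ⟨w', hw'mem, rfl⟩ := hw'
  exact ⟨w', hw'mem, Subgroup.map_injective M.subtype_injective (by rw [hc, hc]; exact hweq)⟩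

/-- Restriction to an invariant set. -/
def resHom (M : Subgroup (Perm Ω)) (p : Ω → Prop) (hp : ∀ g ∈ M, ∀ x, p (g x) ↔ p x) :
    M →* Perm {x // p x} where
  toFun g := Perm.subtypePerm (g : Perm Ω) (fun x => hp g g.2 x)
  map_one' := by ext; rfl
  map_mul' _ _ := by ext; rfl

@[simp] lemma resHom_val (M : Subgroup (Perm Ω)) (p : Ω → Prop)
    (hp : ∀ g ∈ M, ∀ x, p (g x) ↔ p x) (g : M) (x : {x // p x}) :
    ((resHom M p hp g) x : Ω) = (g : Perm Ω) x := rfl

variable [Fintype Ω] [DecidableEq Ω]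

lemma fixF_res {M K : Subgroup (Perm Ω)} (hKM : K ≤ M) (p : Ω → Prop) [DecidablePred p]
    [Fintype {x // p x}] [DecidableEq {x // p x}]
    (hp : ∀ g ∈ M, ∀ x, p (g x) ↔ p x) :
    (fixF ((K.subgroupOf M).map (resHom M p hp))).card = ((fixF K).filter p).card := by
  refine Finset.card_bij (fun a _ => (a : Ω)) (fun a ha => ?_)
    (fun a _ b _ h => Subtype.ext h) (fun b hb => ?_)
  · refine Finset.mem_filter.2 ⟨mem_fixF.2 fun k hk => ?_, a.2⟩
    exact congrArg Subtype.val (mem_fixF.1 ha _ ⟨⟨k, hKM hk⟩, Subgroup.mem_subgroupOf.2 hk, rfl⟩)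
  · obtain ⟨h1, h2⟩ := Finset.mem_filter.1 hb
    refine ⟨⟨b, h2⟩, mem_fixF.2 ?_, rfl⟩
    rintro _ ⟨k, hk, rfl⟩
    exact Subtype.ext (mem_fixF.1 h1 _ (Subgroup.mem_subgroupOf.1 hk))

lemma tr2_of_stab {G : Subgroup (Perm Ω)} (htr : IsTrans G) {a : Ω}
    (h : ∀ b c, b ≠ a → c ≠ a → c ∈ orbF (stab G a) b) : Tr2 G := by
  intro x y x' y' hxy hxy'
  obtain ⟨g, hg, hga⟩ := htr x a
  obtain ⟨g', hg', hga'⟩ := htr x' a
  have h1 : g y ≠ a := fun e => hxy (g.injective (hga.trans e.symm))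
  have h2 : g' y' ≠ a := fun e => hxy' (g'.injective (hga'.trans e.symm))
  obtain ⟨t, ht, hte⟩ := mem_orbF.1 (h (g y) (g' y') h1 h2)
  refine ⟨g'⁻¹ * t * g, G.mul_mem (G.mul_mem (G.inv_mem hg') (mem_stab.1 ht).1) hg, ?_, ?_⟩
  · simp only [Perm.mul_apply, hga, (mem_stab.1 ht).2]
    exact (Equiv.symm_apply_eq g').2 hga'.symm
  · simp only [Perm.mul_apply, hte]
    exact g'.symm_apply_apply y'

omit [Fintype Ω] [DecidableEq Ω] in
lemma Tr2.stab_trans {G : Subgroup (Perm Ω)} (h : Tr2 G) (a : Ω) {b c : Ω} (hb : b ≠ a)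
    (hc : c ≠ a) : ∃ g ∈ stab G a, g b = c := by
  obtain ⟨g, hg, h1, h2⟩ := h a b a c (Ne.symm hb) (Ne.symm hc)
  exact ⟨g, mem_stab.2 ⟨hg, h1⟩, h2⟩

open Classical in
/-- Out-neighbours in the orbital graph of the suborbit `Δ` at `a`. -/
noncomputable def nbr (G : Subgroup (Perm Ω)) (a : Ω) (Δ : Finset Ω) (x : Ω) : Finset Ω :=
  Finset.univ.filter (fun y => ∃ g ∈ G, g a = x ∧ g⁻¹ y ∈ Δ)

lemma mem_nbr {G : Subgroup (Perm Ω)} {a : Ω} {Δ : Finset Ω} {x y : Ω} :
    y ∈ nbr G a Δ x ↔ ∃ g ∈ G, g a = x ∧ g⁻¹ y ∈ Δ := by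
  simp [nbr]

lemma nbr_map {G : Subgroup (Perm Ω)} {a : Ω} {Δ : Finset Ω} {g : Perm Ω} (hg : g ∈ G) (x y : Ω) :
    g y ∈ nbr G a Δ (g x) ↔ y ∈ nbr G a Δ x := by
  rw [mem_nbr, mem_nbr]
  constructor
  · rintro ⟨h, hh, h1, h2⟩
    exact ⟨g⁻¹ * h, G.mul_mem (G.inv_mem hg) hh, by simp [Perm.mul_apply, h1],
      by simpa [Perm.mul_apply] using h2⟩
  · rintro ⟨h, hh, h1, h2⟩
    exact ⟨g * h, G.mul_mem hg hh, by simp [Perm.mul_apply, h1],
      by simpa [Perm.mul_apply] using h2⟩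

lemma nbr_eq_image {G : Subgroup (Perm Ω)} {a : Ω} {Δ : Finset Ω}
    (hΔ : ∀ h ∈ stab G a, ∀ z ∈ Δ, h z ∈ Δ) {g : Perm Ω} (hg : g ∈ G) :
    nbr G a Δ (g a) = Δ.image g := by
  ext y
  rw [mem_nbr, Finset.mem_image]
  constructor
  · rintro ⟨h, hh, h1, h2⟩
    refine ⟨g⁻¹ y, ?_, by simp⟩
    have := hΔ (g⁻¹ * h) (mem_stab.2 ⟨G.mul_mem (G.inv_mem hg) hh, by simp [Perm.mul_apply, h1]⟩) _ h2
    simpa [Perm.mul_apply] using this
  · rintro ⟨z, hz, rfl⟩
    exact ⟨g, hg, rfl, by simpa using hz⟩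

lemma nbr_self {G : Subgroup (Perm Ω)} {a : Ω} {Δ : Finset Ω}
    (hΔ : ∀ h ∈ stab G a, ∀ z ∈ Δ, h z ∈ Δ) : nbr G a Δ a = Δ := by
  simpa using nbr_eq_image hΔ G.one_mem

lemma nbr_card {G : Subgroup (Perm Ω)} (htr : IsTrans G) {a : Ω} {Δ : Finset Ω}
    (hΔ : ∀ h ∈ stab G a, ∀ z ∈ Δ, h z ∈ Δ) (x : Ω) : (nbr G a Δ x).card = Δ.card := by
  obtain ⟨g, hg, rfl⟩ := htr a x
  rw [nbr_eq_image hΔ hg, Finset.card_image_of_injective _ g.injective]

lemma orbs_inv {G : Subgroup (Perm Ω)} {a : Ω} {W Δ : Finset Ω} (h : Δ ∈ orbs (stab G a) W) :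
    ∀ g ∈ stab G a, ∀ z ∈ Δ, g z ∈ Δ := by
  classical
  obtain ⟨x, -, rfl⟩ := Finset.mem_image.1 h
  exact fun g hg z hz => orbF_map_mem hg hz

lemma nbr_irrefl {G : Subgroup (Perm Ω)} {a : Ω} {Δ : Finset Ω}
    (hΔ : ∀ h ∈ stab G a, ∀ z ∈ Δ, h z ∈ Δ) (ha : a ∉ Δ) (htr : IsTrans G) (x : Ω) :
    x ∉ nbr G a Δ x := by
  obtain ⟨g, hg, rfl⟩ := htr a x
  rw [nbr_eq_image hΔ hg]
  simp only [Finset.mem_image, not_exists, not_and]
  exact fun z hz h => ha (g.injective h ▸ hz)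

lemma nbr_edge_trans {G : Subgroup (Perm Ω)} {a : Ω} {W Δ : Finset Ω}
    (h : Δ ∈ orbs (stab G a) W) {x y x' y' : Ω} (h1 : y ∈ nbr G a Δ x) (h2 : y' ∈ nbr G a Δ x') :
    ∃ g ∈ G, g x = x' ∧ g y = y' := by
  classical
  obtain ⟨g, hg, rfl, hy⟩ := mem_nbr.1 h1
  obtain ⟨g', hg', rfl, hy'⟩ := mem_nbr.1 h2
  rw [mem_orbs h hy] at hy'
  obtain ⟨t, ht, hte⟩ := mem_orbF.1 hy'
  refine ⟨g' * t * g⁻¹, G.mul_mem (G.mul_mem hg' (mem_stab.1 ht).1) (G.inv_mem hg), ?_, ?_⟩
  · simp [Perm.mul_apply, (mem_stab.1 ht).2]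
  · simp only [Perm.mul_apply, hte]
    exact g'.apply_symm_apply y'

lemma sum_common {R : Ω → Finset Ω} {k l : ℕ} (hk : ∀ x, (R x).card = k)
    (hl : ∀ x y, x ≠ y → (R x ∩ R y).card = l) {k' : ℕ}
    (hk' : ∀ z, (Finset.univ.filter (fun x => z ∈ R x)).card = k') :
    Fintype.card Ω * (k + (Fintype.card Ω - 1) * l) = Fintype.card Ω * (k' * k') := by
  have h1 : ∑ x : Ω, ∑ y : Ω, (R x ∩ R y).card = Fintype.card Ω * (k + (Fintype.card Ω - 1) * l) := by
    rw [← smul_eq_mul (Fintype.card Ω), ← Finset.card_univ, ← Finset.sum_const]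
    refine Finset.sum_congr rfl fun x _ => ?_
    rw [← Finset.add_sum_erase _ _ (Finset.mem_univ x), Finset.inter_self, hk,
      Finset.sum_congr rfl (fun y hy => hl x y (Ne.symm (Finset.ne_of_mem_erase hy))),
      Finset.sum_const, Finset.card_erase_of_mem (Finset.mem_univ x), Finset.card_univ, smul_eq_mul]
  have h2 : ∑ x : Ω, ∑ y : Ω, (R x ∩ R y).card
      = ∑ z : Ω, (Finset.univ.filter (fun x => z ∈ R x)).card *
          (Finset.univ.filter (fun x => z ∈ R x)).card := by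
    have : ∀ x y, (R x ∩ R y).card = ∑ z : Ω, (if z ∈ R x then 1 else 0) * (if z ∈ R y then 1 else 0) := by
      intro x y
      rw [Finset.card_eq_sum_ones, ← Finset.sum_filter_add_sum_filter_not Finset.univ (fun z => z ∈ R x ∩ R y)]
      have e : Finset.univ.filter (fun z => z ∈ R x ∩ R y) = R x ∩ R y := by ext; simp
      rw [e]
      have z1 : ∑ z ∈ R x ∩ R y, ((if z ∈ R x then 1 else 0) * (if z ∈ R y then 1 else 0)) = ∑ _z ∈ R x ∩ R y, 1 :=
        Finset.sum_congr rfl fun z hz => by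
          rw [Finset.mem_inter] at hz; simp [hz.1, hz.2]
      have z2 : ∑ z ∈ Finset.univ.filter (fun z => ¬ z ∈ R x ∩ R y),
          ((if z ∈ R x then 1 else 0) * (if z ∈ R y then 1 else 0)) = 0 :=
        Finset.sum_eq_zero fun z hz => by
          simp only [Finset.mem_filter, Finset.mem_inter, not_and] at hz
          by_cases h : z ∈ R x <;> simp [h, hz.2]
      rw [z1, z2, add_zero]
    simp only [this]
    rw [Finset.sum_congr rfl (fun x _ => Finset.sum_comm), Finset.sum_comm]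
    refine Finset.sum_congr rfl fun z _ => ?_
    simp only [Finset.card_filter, Finset.sum_mul_sum]
  rw [← h1, h2, Finset.sum_congr rfl (fun z _ => by rw [hk' z]), Finset.sum_const, Finset.card_univ,
    smul_eq_mul]

/-- If `n = 2f + 1` then `G` is doubly transitive. -/
lemma tight {n : ℕ} (hn : Bound n) (hcard : Fintype.card Ω = n)
    {G K : Subgroup (Perm Ω)} (htr : IsTrans G) (hKG : K ≤ G) (hK : K ≠ ⊥) (hpro : Pro G K)
    (heq : n = 2 * (fixF K).card + 1) : Tr2 G := by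
  classical
  rcases (fixF K).eq_empty_or_nonempty with he | ⟨a, ha⟩
  · rw [he, Finset.card_empty] at heq
    intro x y _ _ hxy
    have : Subsingleton Ω := Fintype.card_le_one_iff_subsingleton.1 (by omega)
    exact absurd (Subsingleton.elim x y) hxy
  have hnt : ∀ b, b ≠ a → ¬ orbF (stab G a) b ⊆ fixF K := by
    intro b hb hsub
    obtain ⟨B, -, -, -, hB2, -, hle⟩ := trivial_suborbit hn hcard htr hKG hpro hK ha hb hsub
    omega
  have hcount := suborbit_count hn hcard hKG hpro ha hnt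
  have hpos : 1 ≤ (fixF K).card := Finset.card_pos.2 ⟨a, ha⟩
  have hW : (Finset.univ.erase a).card = n - 1 := by
    rw [Finset.card_erase_of_mem (Finset.mem_univ a), Finset.card_univ, hcard]
  have horbs : (orbs (stab G a) (Finset.univ.erase a)).Nonempty :=
    Finset.Nonempty.image (Finset.card_pos.1 (by omega)) _
  rcases Nat.lt_or_ge (orbs (stab G a) (Finset.univ.erase a)).card 2 with ht | ht
  · refine tr2_of_stab htr (a := a) fun b c hb hc => ?_
    have h1 := Finset.mem_image_of_mem (orbF (stab G a)) (Finset.mem_erase.2 ⟨hb, Finset.mem_univ b⟩)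
    have h2 := Finset.mem_image_of_mem (orbF (stab G a)) (Finset.mem_erase.2 ⟨hc, Finset.mem_univ c⟩)
    rw [Finset.card_le_one.1 (Nat.lt_succ_iff.1 ht) _ h1 _ h2]
    exact self_mem_orbF _ c
  exfalso
  have ht2 : (orbs (stab G a) (Finset.univ.erase a)).card = 2 := by omega
  obtain ⟨D1, D2, hD, hOeq⟩ := Finset.card_eq_two.1 ht2
  have hD1 : D1 ∈ orbs (stab G a) (Finset.univ.erase a) := by rw [hOeq]; simp
  have hD2 : D2 ∈ orbs (stab G a) (Finset.univ.erase a) := by rw [hOeq]; simp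
  have hb1 := suborbit_bound hn hcard hKG hpro ha hnt D1 hD1
  have hb2 := suborbit_bound hn hcard hKG hpro ha hnt D2 hD2
  have hs := sum_orbs (M := stab G a) (orbF_stab_avoid (a := a)) Finset.univ
  have hf := sum_orbs (M := stab G a) (orbF_stab_avoid (a := a)) (fixF K)
  rw [hOeq, Finset.sum_pair hD] at hs hf
  simp only [Finset.univ_inter] at hs
  rw [Finset.inter_erase, Finset.inter_univ, Finset.card_erase_of_mem ha] at hf
  rw [hW] at hs
  have haD : ∀ D ∈ orbs (stab G a) (Finset.univ.erase a), a ∉ D := by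
    intro D hD h
    obtain ⟨x, hx, rfl⟩ := Finset.mem_image.1 hD
    exact Finset.ne_of_mem_erase (orbF_stab_avoid x hx h) rfl
  let R1 := nbr G a D1
  let R2 := nbr G a D2
  have hi1 := orbs_inv hD1
  have hi2 := orbs_inv hD2
  have hdi : ∀ x y, x ≠ y → (y ∈ R1 x ↔ y ∉ R2 x) := by
    intro x y hxy
    obtain ⟨g, hg, rfl⟩ := htr a x
    simp only [R1, R2, nbr_eq_image hi1 hg, nbr_eq_image hi2 hg]
    obtain ⟨z, rfl⟩ := g.surjective y
    simp only [Finset.mem_image, g.injective.eq_iff, exists_eq_right]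
    have hz : z ∈ Finset.univ.erase a := Finset.mem_erase.2 ⟨fun h => hxy (by rw [h]), Finset.mem_univ z⟩
    have hz2 := Finset.mem_image_of_mem (orbF (stab G a)) hz
    constructor
    · intro h1 h2
      exact hD ((mem_orbs hD1 h1).trans (mem_orbs hD2 h2).symm)
    · intro h2
      change orbF (stab G a) z ∈ orbs (stab G a) (Finset.univ.erase a) at hz2
      rw [hOeq, Finset.mem_insert, Finset.mem_singleton] at hz2
      rcases hz2 with e | e
      · rw [← e]; exact self_mem_orbF _ z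
      · exact absurd (e ▸ self_mem_orbF _ z) h2
  have hir1 : ∀ x, x ∉ R1 x := nbr_irrefl hi1 (haD D1 hD1) htr
  have hir2 : ∀ x, x ∉ R2 x := nbr_irrefl hi2 (haD D2 hD2) htr
  have hne1 : D1.Nonempty := Finset.card_pos.1 (by omega)
  obtain ⟨z1, hz1⟩ := hne1
  have he1 : z1 ∈ R1 a := by simpa [R1, nbr_self hi1] using hz1
  by_cases hsym : a ∈ R1 z1
  · have hsymm : ∀ x y, y ∈ R1 x → x ∈ R1 y := by
      intro x y hxy
      obtain ⟨g, hg, rfl, rfl⟩ := nbr_edge_trans hD1 he1 hxy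
      exact (nbr_map hg z1 a).2 hsym
    let Γ : SimpleGraph Ω :=
      { Adj := fun x y => y ∈ R1 x
        symm := ⟨fun x y h => hsymm x y h⟩
        loopless := ⟨fun x h => hir1 x h⟩ }
    have hdeg : ∀ x, Γ.degree x = D1.card := by
      intro x
      rw [← nbr_card htr hi1 x, ← SimpleGraph.card_neighborFinset_eq_degree]
      congr 1
      ext y
      simp [Γ, R1]
    have he := Γ.sum_degrees_eq_twice_card_edges
    simp only [hdeg, Finset.sum_const, Finset.card_univ, smul_eq_mul, hcard] at he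
    have hodd : Odd (n * D1.card) := Nat.odd_mul.2 ⟨⟨(fixF K).card, by omega⟩, ⟨(fixF K ∩ D1).card, by omega⟩⟩
    rw [he] at hodd
    exact (Nat.not_odd_iff_even.2 ⟨_, two_mul _⟩) hodd
  have hz1a : z1 ≠ a := fun h => haD D1 hD1 (h ▸ hz1)
  have hrev : a ∈ R2 z1 := by
    by_contra h
    exact hsym ((hdi z1 a hz1a).2 h)
  have htour : ∀ x y, x ≠ y → (y ∈ R1 x ↔ x ∉ R1 y) := by
    intro x y hxy
    constructor
    · intro h h'
      obtain ⟨g, hg, h1, h2⟩ := nbr_edge_trans hD1 he1 h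
      subst h1; subst h2
      exact hsym ((nbr_map hg z1 a).1 h')
    · intro h
      have h2 : x ∈ R2 y := by
        by_contra h'
        exact h ((hdi y x (Ne.symm hxy)).2 h')
      obtain ⟨g, hg, rfl, rfl⟩ := nbr_edge_trans hD2 hrev h2
      exact (nbr_map hg a z1).2 he1
  have hin : ∀ z, Finset.univ.filter (fun x => z ∈ R1 x) = R2 z := by
    intro z
    ext x
    simp only [Finset.mem_filter, Finset.mem_univ, true_and]
    rcases eq_or_ne x z with rfl | hxz
    · simp [hir1 x, hir2 x]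
    · rw [htour x z hxz, hdi z x (Ne.symm hxz), not_not]
  have hin2 : ∀ z, Finset.univ.filter (fun x => z ∈ R2 x) = R1 z := by
    intro z
    ext x
    simp only [Finset.mem_filter, Finset.mem_univ, true_and]
    rcases eq_or_ne x z with rfl | hxz
    · simp [hir1 x, hir2 x]
    · rw [htour z x (Ne.symm hxz), hdi x z hxz, not_not]
  have hk12 : D1.card = D2.card := by
    have e : ∑ x : Ω, (R1 x).card = ∑ z : Ω, (Finset.univ.filter (fun x => z ∈ R1 x)).card := by
      simp only [Finset.card_filter]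
      rw [Finset.sum_comm]
      refine Finset.sum_congr rfl fun x _ => ?_
      rw [← Finset.card_filter]
      congr 1; ext; simp
    simp only [hin, R1, R2, nbr_card htr hi1, nbr_card htr hi2, Finset.sum_const, Finset.card_univ,
      smul_eq_mul, hcard] at e
    exact Nat.eq_of_mul_eq_mul_left (by omega) e
  obtain ⟨l, hl⟩ : ∃ l, ∀ x y, x ≠ y → (R1 x ∩ R1 y).card = l := by
    refine ⟨(R1 a ∩ R1 z1).card, fun x y hxy => ?_⟩
    have key : ∀ x y, y ∈ R1 x → (R1 x ∩ R1 y).card = (R1 a ∩ R1 z1).card := by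
      intro x y h
      obtain ⟨g, hg, rfl, rfl⟩ := nbr_edge_trans hD1 he1 h
      rw [← Finset.card_image_of_injective (R1 a ∩ R1 z1) g.injective]
      congr 1
      ext u
      obtain ⟨v, rfl⟩ := g.surjective u
      simp [R1, nbr_map hg, Finset.mem_image, g.injective.eq_iff]
    by_cases h : y ∈ R1 x
    · exact key x y h
    · rw [Finset.inter_comm]
      exact key y x (by by_contra h'; exact h ((htour x y hxy).2 h'))
  obtain ⟨l', hl'⟩ : ∃ l, ∀ x y, x ≠ y → (R2 x ∩ R2 y).card = l := by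
    refine ⟨(R2 z1 ∩ R2 a).card, fun x y hxy => ?_⟩
    have key : ∀ x y, y ∈ R2 x → (R2 x ∩ R2 y).card = (R2 z1 ∩ R2 a).card := by
      intro x y h
      obtain ⟨g, hg, rfl, rfl⟩ := nbr_edge_trans hD2 hrev h
      rw [← Finset.card_image_of_injective (R2 z1 ∩ R2 a) g.injective]
      congr 1
      ext u
      obtain ⟨v, rfl⟩ := g.surjective u
      simp [R2, nbr_map hg, Finset.mem_image, g.injective.eq_iff]
    by_cases h : y ∈ R2 x
    · exact key x y h
    · rw [Finset.inter_comm]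
      refine key y x ?_
      by_contra h'
      have e1 := (hdi x y hxy).2 h
      have e2 := (hdi y x (Ne.symm hxy)).2 h'
      exact (htour x y hxy).1 e1 e2
  have e1 := sum_common (R := R1) (nbr_card htr hi1) hl (k' := D2.card)
    (fun z => by rw [hin]; exact nbr_card htr hi2 z)
  have e2 := sum_common (R := R2) (nbr_card htr hi2) hl' (k' := D1.card)
    (fun z => by rw [hin2]; exact nbr_card htr hi1 z)
  rw [hcard] at e1 e2
  have e1' := Nat.eq_of_mul_eq_mul_left (by omega) e1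
  have e2' := Nat.eq_of_mul_eq_mul_left (by omega) e2
  -- a moved point and its image
  obtain ⟨k, hk, x, hkx⟩ : ∃ k ∈ K, ∃ x, k x ≠ x := by
    by_contra hne
    push Not at hne
    exact hK ((Subgroup.eq_bot_iff_forall _).2 fun k hk => Perm.ext (hne k hk))
  have hsub : fixF K ⊆ (R1 x ∩ R1 (k x)) ∪ (R2 x ∩ R2 (k x)) := by
    intro z hz
    have hzk := mem_fixF.1 hz k hk
    have h1 : z ≠ x := fun h => hkx (h ▸ hzk)
    by_cases h : z ∈ R1 x
    · refine Finset.mem_union_left _ (Finset.mem_inter.2 ⟨h, ?_⟩)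
      have := (nbr_map (a := a) (Δ := D1) (hKG hk) x z).2 h
      rwa [hzk] at this
    · have h' : z ∈ R2 x := by
        by_contra h'; exact h ((hdi x z (Ne.symm h1)).2 h')
      refine Finset.mem_union_right _ (Finset.mem_inter.2 ⟨h', ?_⟩)
      have := (nbr_map (a := a) (Δ := D2) (hKG hk) x z).2 h'
      rwa [hzk] at this
  have hle := (Finset.card_le_card hsub).trans (Finset.card_union_le _ _)
  rw [hl x (k x) (Ne.symm hkx), hl' x (k x) (Ne.symm hkx)] at hle
  have hn1 : n - 1 = 2 * D1.card := by omega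
  have hfk : (fixF K).card = D1.card := by omega
  rw [hn1] at e1' e2'
  rw [← hk12] at e1' e2'
  nlinarith

end Cfsg.Agent.PronormalFix
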