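import Cfsg.Agent.Lib.PronormalFix.Orbital

/-!
Transitive groups with `n = 2f + 2` (S3399).
-/

namespace Cfsg.Agent.PronormalFix

open Equiv Equiv.Perm

variable {Ω : Type} [Fintype Ω] [DecidableEq Ω]

omit [Fintype Ω] [DecidableEq Ω] in
lemma Bound.mono {m n : ℕ} (h : Bound n) (hmn : m ≤ n) : Bound m :=
  fun Ω _ _ hc => h Ω (lt_of_lt_of_le hc hmn)

/-- The in-neighbours. -/
noncomputable def inb (G : Subgroup (Perm Ω)) (a : Ω) (Δ : Finset Ω) (y : Ω) : Finset Ω :=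
  Finset.univ.filter (fun x => y ∈ nbr G a Δ x)

lemma mem_inb {G : Subgroup (Perm Ω)} {a : Ω} {Δ : Finset Ω} {x y : Ω} :
    x ∈ inb G a Δ y ↔ y ∈ nbr G a Δ x := by
  simp [inb]

lemma nbr_image {G : Subgroup (Perm Ω)} {a : Ω} {Δ : Finset Ω} {g : Perm Ω} (hg : g ∈ G) (x : Ω) :
    nbr G a Δ (g x) = (nbr G a Δ x).image g := by
  ext y
  obtain ⟨z, rfl⟩ := g.surjective y
  simp [nbr_map hg, g.injective.eq_iff]

lemma inb_image {G : Subgroup (Perm Ω)} {a : Ω} {Δ : Finset Ω} {g : Perm Ω} (hg : g ∈ G) (x : Ω) :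
    inb G a Δ (g x) = (inb G a Δ x).image g := by
  ext y
  obtain ⟨z, rfl⟩ := g.surjective y
  simp [mem_inb, nbr_map hg, g.injective.eq_iff]

lemma inb_card {G : Subgroup (Perm Ω)} (htr : IsTrans G) {a : Ω} {Δ : Finset Ω}
    (hΔ : ∀ h ∈ stab G a, ∀ z ∈ Δ, h z ∈ Δ) (y : Ω) : (inb G a Δ y).card = Δ.card := by
  have h1 : ∀ z, (inb G a Δ z).card = (inb G a Δ y).card := by
    intro z
    obtain ⟨g, hg, rfl⟩ := htr y z
    rw [inb_image hg, Finset.card_image_of_injective _ g.injective]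
  have h2 : ∑ x : Ω, (nbr G a Δ x).card = ∑ z : Ω, (inb G a Δ z).card := by
    simp only [inb, Finset.card_filter]
    rw [Finset.sum_comm]
    refine Finset.sum_congr rfl fun x _ => ?_
    rw [← Finset.card_filter]
    congr 1; ext; simp
  simp only [nbr_card htr hΔ, h1, Finset.sum_const, Finset.card_univ, smul_eq_mul] at h2
  exact (Nat.eq_of_mul_eq_mul_left (Fintype.card_pos_iff.2 ⟨a⟩) h2).symm

/-- `Δ` is self-paired. -/
def SelfP (G : Subgroup (Perm Ω)) (a : Ω) (Δ : Finset Ω) : Prop :=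
  ∀ x y, y ∈ nbr G a Δ x → x ∈ nbr G a Δ y

lemma orb_mem_erase {G : Subgroup (Perm Ω)} {a z : Ω} (hz : z ≠ a) :
    orbF (stab G a) z ∈ orbs (stab G a) (Finset.univ.erase a) := by
  classical
  exact Finset.mem_image_of_mem _ (Finset.mem_erase.2 ⟨hz, Finset.mem_univ z⟩)

lemma orbs_avoid {G : Subgroup (Perm Ω)} {a : Ω} {Δ : Finset Ω}
    (h : Δ ∈ orbs (stab G a) (Finset.univ.erase a)) : a ∉ Δ ∧ Δ.Nonempty := by
  classical
  obtain ⟨x, hx, rfl⟩ := Finset.mem_image.1 h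
  exact ⟨fun ha => Finset.ne_of_mem_erase (orbF_stab_avoid x hx ha) rfl, ⟨x, self_mem_orbF _ x⟩⟩

/-- Each ordered pair of distinct points lies in one orbital. -/
lemma exists_colour {G : Subgroup (Perm Ω)} (htr : IsTrans G) (a : Ω) {x y : Ω} (hxy : y ≠ x) :
    ∃ Δ ∈ orbs (stab G a) (Finset.univ.erase a), y ∈ nbr G a Δ x := by
  obtain ⟨g, hg, rfl⟩ := htr a x
  have hz : g⁻¹ y ≠ a := fun h => hxy (by rw [← h]; simp)
  exact ⟨_, orb_mem_erase hz, mem_nbr.2 ⟨g, hg, rfl, self_mem_orbF _ _⟩⟩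

lemma colour_unique {G : Subgroup (Perm Ω)} (htr : IsTrans G) {a x y : Ω} {Δ Δ' : Finset Ω}
    (h : Δ ∈ orbs (stab G a) (Finset.univ.erase a)) (h' : Δ' ∈ orbs (stab G a) (Finset.univ.erase a))
    (hy : y ∈ nbr G a Δ x) (hy' : y ∈ nbr G a Δ' x) : Δ = Δ' := by
  obtain ⟨g, hg, rfl⟩ := htr a x
  rw [nbr_eq_image (orbs_inv h) hg, Finset.mem_image] at hy
  rw [nbr_eq_image (orbs_inv h') hg, Finset.mem_image] at hy'
  obtain ⟨z, hz, rfl⟩ := hy
  obtain ⟨z', hz', he⟩ := hy'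
  rw [g.injective he] at hz'
  exact (mem_orbs h hz).trans (mem_orbs h' hz').symm

/-- The stabiliser acts doubly transitively on a tight suborbit. -/
lemma tight_orbit {n : ℕ} (hn : Bound n) (hcard : Fintype.card Ω = n)
    {G K : Subgroup (Perm Ω)} (hKG : K ≤ G) (hpro : Pro G K) {a : Ω} (ha : a ∈ fixF K)
    {Δ : Finset Ω} (hΔ : Δ ∈ orbs (stab G a) (Finset.univ.erase a))
    (hmov : ∃ y ∈ Δ, y ∈ movF K) (heq : Δ.card = 2 * (fixF K ∩ Δ).card + 1) :
    ∀ y ∈ Δ, ∀ z ∈ Δ, ∀ y' ∈ Δ, ∀ z' ∈ Δ, y ≠ z → y' ≠ z' →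
      ∃ h ∈ stab G a, h y = y' ∧ h z = z' := by
  classical
  have hinv : ∀ g ∈ stab G a, ∀ x, g x ∈ Δ ↔ x ∈ Δ := fun g hg x =>
    ⟨fun h => by simpa using orbs_inv hΔ g⁻¹ ((stab G a).inv_mem hg) _ h, orbs_inv hΔ g hg x⟩
  let f := resHom (stab G a) (· ∈ Δ) hinv
  have hKM : K ≤ stab G a := fun k hk => mem_stab.2 ⟨hKG hk, mem_fixF.1 ha k hk⟩
  have hlt : Fintype.card {x // x ∈ Δ} < n := by
    rw [Fintype.card_coe, ← hcard]
    exact Finset.card_lt_univ_of_notMem (orbs_avoid hΔ).1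
  have h2 := tight (Ω := {x // x ∈ Δ}) (hn.mono hlt.le) rfl
    (G := (⊤ : Subgroup (stab G a)).map f) (K := (K.subgroupOf (stab G a)).map f)
    (by
      rintro ⟨y, hy⟩ ⟨z, hz⟩
      have : z ∈ orbF (stab G a) y := by rw [← mem_orbs hΔ hy]; exact hz
      obtain ⟨g, hg, rfl⟩ := mem_orbF.1 this
      exact ⟨f ⟨g, hg⟩, ⟨⟨g, hg⟩, trivial, rfl⟩, rfl⟩)
    (Subgroup.map_mono le_top)
    (by
      obtain ⟨y, hy, hym⟩ := hmov
      obtain ⟨k, hk, hky⟩ := mem_movF.1 hym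
      intro hb
      have := (Subgroup.eq_bot_iff_forall _).1 hb (f ⟨k, hKM hk⟩)
        ⟨_, Subgroup.mem_subgroupOf.2 hk, rfl⟩
      exact hky (congrArg (fun p : Perm {x // x ∈ Δ} => ((p ⟨y, hy⟩ : {x // x ∈ Δ}) : Ω)) this))
    (((hpro.mono (stab_le G a)).subgroupOf hKM).image f)
    (by
      dsimp only [f]
      rw [Fintype.card_coe, fixF_res hKM (· ∈ Δ) hinv, heq, Finset.filter_mem_eq_inter])
  intro y hy z hz y' hy' z' hz' hne hne'
  obtain ⟨p, ⟨h, -, rfl⟩, e1, e2⟩ := h2 ⟨y, hy⟩ ⟨z, hz⟩ ⟨y', hy'⟩ ⟨z', hz'⟩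
    (fun e => hne (congrArg Subtype.val e)) (fun e => hne' (congrArg Subtype.val e))
  exact ⟨h, h.2, congrArg Subtype.val e1, congrArg Subtype.val e2⟩

/-- The orbital of pairs inside a tight suborbit. -/
lemma gamma {G : Subgroup (Perm Ω)} (htr : IsTrans G) {a : Ω} {Δ : Finset Ω}
    (hΔ : Δ ∈ orbs (stab G a) (Finset.univ.erase a))
    (h2 : ∀ y ∈ Δ, ∀ z ∈ Δ, ∀ y' ∈ Δ, ∀ z' ∈ Δ, y ≠ z → y' ≠ z' →
      ∃ h ∈ stab G a, h y = y' ∧ h z = z')
    (hk : 2 ≤ Δ.card) :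
    ∃ Γ ∈ orbs (stab G a) (Finset.univ.erase a), SelfP G a Γ ∧
      (∀ x y z, y ∈ nbr G a Δ x → z ∈ nbr G a Δ x → y ≠ z → z ∈ nbr G a Γ y) ∧
      ∃ μ, μ ≤ Δ.card ∧
        (∀ y z, z ∈ nbr G a Γ y → (inb G a Δ y ∩ inb G a Δ z).card = μ) ∧
        Γ.card * μ = Δ.card * (Δ.card - 1) := by
  classical
  obtain ⟨y0, hy0, z0, hz0, hne0⟩ := Finset.one_lt_card.1 hk
  obtain ⟨Γ, hΓ, hΓ0⟩ := exists_colour htr a (x := y0) (y := z0) (Ne.symm hne0)
  have hin : ∀ x y z, y ∈ nbr G a Δ x → z ∈ nbr G a Δ x → y ≠ z → z ∈ nbr G a Γ y := by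
    intro x y z hy hz hne
    obtain ⟨g, hg, rfl⟩ := htr a x
    rw [nbr_eq_image (orbs_inv hΔ) hg, Finset.mem_image] at hy hz
    obtain ⟨y1, hy1, rfl⟩ := hy
    obtain ⟨z1, hz1, rfl⟩ := hz
    obtain ⟨h, hh, rfl, rfl⟩ := h2 y0 hy0 z0 hz0 y1 hy1 z1 hz1 hne0 (fun e => hne (by rw [e]))
    exact (nbr_map hg _ _).2 ((nbr_map (mem_stab.1 hh).1 _ _).2 hΓ0)
  have hself : SelfP G a Γ := by
    intro x y hxy
    obtain ⟨g, hg, rfl, rfl⟩ := nbr_edge_trans hΓ hΓ0 hxy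
    exact (nbr_map hg z0 y0).2 (hin a z0 y0 (by rw [nbr_self (orbs_inv hΔ)]; exact hz0)
      (by rw [nbr_self (orbs_inv hΔ)]; exact hy0) (Ne.symm hne0))
  refine ⟨Γ, hΓ, hself, hin, (inb G a Δ y0 ∩ inb G a Δ z0).card,
    (Finset.card_le_card Finset.inter_subset_left).trans_eq (inb_card htr (orbs_inv hΔ) y0), ?_, ?_⟩
  · intro y z hyz
    obtain ⟨g, hg, rfl, rfl⟩ := nbr_edge_trans hΓ hΓ0 hyz
    rw [inb_image hg, inb_image hg, ← Finset.image_inter _ _ g.injective,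
      Finset.card_image_of_injective _ g.injective]
  · set μ := (inb G a Δ y0 ∩ inb G a Δ z0).card
    have hirr : ∀ y, y ∉ nbr G a Γ y := nbr_irrefl (orbs_inv hΓ) (orbs_avoid hΓ).1 htr
    let P : Ω → Finset (Ω × Ω) := fun x => (nbr G a Δ x).offDiag
    let E : Finset (Ω × Ω) := Finset.univ.filter (fun p : Ω × Ω => p.2 ∈ nbr G a Γ p.1)
    have hE : E.card = Fintype.card Ω * Γ.card := by
      rw [show E.card = ∑ y : Ω, (nbr G a Γ y).card by
        simp only [E, Finset.card_filter, Fintype.sum_prod_type]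
        refine Finset.sum_congr rfl fun y _ => ?_
        rw [← Finset.card_filter]
        congr 1; ext; simp]
      simp [nbr_card htr (orbs_inv hΓ)]
    have hcount : ∑ x : Ω, (P x).card = ∑ p ∈ E, μ := by
      have e1 : ∀ x, (P x).card = ∑ p ∈ E, (if p ∈ P x then 1 else 0) := by
        intro x
        rw [← Finset.card_filter]
        congr 1
        ext ⟨y, z⟩
        simp only [P, E, Finset.mem_filter, Finset.mem_univ, true_and, Finset.mem_offDiag]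
        exact ⟨fun h => ⟨hin x y z h.1 h.2.1 h.2.2, h⟩, fun h => h.2⟩
      simp only [e1]
      rw [Finset.sum_comm]
      refine Finset.sum_congr rfl fun p hp => ?_
      obtain ⟨y, z⟩ := p
      have hyz : z ∈ nbr G a Γ y := by simpa [E] using hp
      obtain ⟨g, hg, rfl, rfl⟩ := nbr_edge_trans hΓ hΓ0 hyz
      rw [← Finset.card_filter]
      have : Finset.univ.filter (fun x => (g y0, g z0) ∈ P x) = inb G a Δ (g y0) ∩ inb G a Δ (g z0) := by
        ext x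
        simp only [P, Finset.mem_filter, Finset.mem_univ, true_and, Finset.mem_offDiag,
          Finset.mem_inter, mem_inb]
        exact ⟨fun h => ⟨h.1, h.2.1⟩, fun h => ⟨h.1, h.2, fun e => hne0 (g.injective e)⟩⟩
      rw [this, inb_image hg, inb_image hg, ← Finset.image_inter _ _ g.injective,
        Finset.card_image_of_injective _ g.injective]
    simp only [P, Finset.offDiag_card, nbr_card htr (orbs_inv hΔ), Finset.sum_const, hE,
      Finset.card_univ, smul_eq_mul] at hcount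
    rw [mul_assoc] at hcount
    rw [Nat.mul_sub_one, ← Nat.eq_of_mul_eq_mul_left (Fintype.card_pos_iff.2 ⟨a⟩) hcount]

/-- A tight self-paired suborbit is triangle-free. -/
lemma not_clique {n : ℕ} (hn : Bound n) (hcard : Fintype.card Ω = n)
    {G K : Subgroup (Perm Ω)} (htr : IsTrans G) (hKG : K ≤ G) (hpro : Pro G K)
    {a : Ω} (ha : a ∈ fixF K) {Δ : Finset Ω}
    (hΔ : Δ ∈ orbs (stab G a) (Finset.univ.erase a)) (hs : SelfP G a Δ)
    (hmov : ∃ y ∈ Δ, y ∈ movF K) (heq : Δ.card = 2 * (fixF K ∩ Δ).card + 1)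
    (hsmall : Δ.card + 1 < n)
    (h : ∀ x y z, y ∈ nbr G a Δ x → z ∈ nbr G a Δ x → y ≠ z → z ∈ nbr G a Δ y) : False := by
  classical
  let B := insert a Δ
  have hirr : ∀ y, y ∉ nbr G a Δ y := nbr_irrefl (orbs_inv hΔ) (orbs_avoid hΔ).1 htr
  have hc : ∀ x, (insert x (nbr G a Δ x)).card = Δ.card + 1 := fun x => by
    rw [Finset.card_insert_of_notMem (hirr x), nbr_card htr (orbs_inv hΔ)]
  have hcl : ∀ x y, y ∈ insert x (nbr G a Δ x) → insert y (nbr G a Δ y) = insert x (nbr G a Δ x) := by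
    intro x y hy
    rcases Finset.mem_insert.1 hy with rfl | hy'
    · rfl
    refine (Finset.eq_of_subset_of_card_le (fun z hz => ?_) (by rw [hc, hc])).symm
    rcases Finset.mem_insert.1 hz with rfl | hz'
    · exact Finset.mem_insert_of_mem (hs _ _ hy')
    · rcases eq_or_ne y z with rfl | hne
      · exact Finset.mem_insert_self _ _
      · exact Finset.mem_insert_of_mem (h x y z hy' hz' hne)
  have hBeq : B = insert a (nbr G a Δ a) := by rw [nbr_self (orbs_inv hΔ)]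
  have hblk : IsBlk G B := by
    intro g hg x hx hgx y hy
    rw [hBeq] at hx hgx hy ⊢
    have e1 := hcl a x hx
    have e2 := hcl a (g x) hgx
    rw [← e2, nbr_image hg, ← Finset.image_insert]
    rw [← e1] at hy
    exact Finset.mem_image_of_mem _ hy
  have hne : B ≠ Finset.univ := by
    intro e
    have := congrArg Finset.card e
    rw [hBeq, hc, Finset.card_univ, hcard] at this
    omega
  obtain ⟨y, hy, hym⟩ := hmov
  have := hn.inBlock hcard htr hKG hpro hblk hne (Finset.mem_insert_self a Δ) ha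
    (Finset.mem_insert_of_mem hy) hym
  simp only [B] at this
  rw [Finset.inter_insert_of_mem ha, Finset.card_insert_of_notMem
    (fun e => (orbs_avoid hΔ).1 (Finset.mem_inter.1 e).2),
    Finset.card_insert_of_notMem (orbs_avoid hΔ).1] at this
  omega

lemma exists_moved_of_bound {K : Subgroup (Perm Ω)} {Δ : Finset Ω}
    (h : (fixF K ∩ Δ).card < Δ.card) : ∃ y ∈ Δ, y ∈ movF K := by
  obtain ⟨y, hy, hyn⟩ := Finset.exists_mem_notMem_of_card_lt_card h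
  exact ⟨y, hy, not_mem_fixF.1 fun hf => hyn (Finset.mem_inter.2 ⟨hf, hy⟩)⟩

lemma stab_orb_two_le {G K : Subgroup (Perm Ω)} (hKG : K ≤ G) {a : Ω} (ha : a ∈ fixF K)
    {Δ : Finset Ω} (hΔ : Δ ∈ orbs (stab G a) (Finset.univ.erase a))
    (h : ∃ y ∈ Δ, y ∈ movF K) : 2 ≤ Δ.card := by
  obtain ⟨y, hy, hym⟩ := h
  obtain ⟨k, hk, hky⟩ := mem_movF.1 hym
  exact Finset.one_lt_card.2 ⟨k y, orbs_inv hΔ k (mem_stab.2 ⟨hKG hk, mem_fixF.1 ha k hk⟩) y hy,
    y, hy, hky⟩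

/-- Three tight suborbits are impossible. -/
lemma no_three {n : ℕ} (hn : Bound n) (hcard : Fintype.card Ω = n)
    {G K : Subgroup (Perm Ω)} (htr : IsTrans G) (hKG : K ≤ G) (hpro : Pro G K)
    {a : Ω} (ha : a ∈ fixF K)
    (h3 : (orbs (stab G a) (Finset.univ.erase a)).card = 3)
    (htight : ∀ Δ ∈ orbs (stab G a) (Finset.univ.erase a), Δ.card = 2 * (fixF K ∩ Δ).card + 1) :
    False := by
  classical
  set O := orbs (stab G a) (Finset.univ.erase a) with hO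
  have hmov : ∀ Δ ∈ O, ∃ y ∈ Δ, y ∈ movF K := fun Δ hΔ =>
    exists_moved_of_bound (by have := htight Δ hΔ; omega)
  have hk3 : ∀ Δ ∈ O, 3 ≤ Δ.card := fun Δ hΔ => by
    have := stab_orb_two_le hKG ha hΔ (hmov Δ hΔ)
    have := htight Δ hΔ
    omega
  have hsum := sum_orbs (M := stab G a) (orbF_stab_avoid (a := a)) Finset.univ
  simp only [Finset.univ_inter, Finset.card_erase_of_mem (Finset.mem_univ a), Finset.card_univ,
    hcard] at hsum
  have hbig : ∀ Δ ∈ O, Δ.card + 1 < n := by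
    intro Δ hΔ
    obtain ⟨Δ', hΔ', hne⟩ := Finset.exists_mem_ne (by rw [h3]; norm_num : 1 < O.card) Δ
    have h12 : ∑ D ∈ ({Δ, Δ'} : Finset _), D.card ≤ ∑ D ∈ O, D.card :=
      Finset.sum_le_sum_of_subset (by simp [Finset.insert_subset_iff, hΔ, hΔ'])
    rw [Finset.sum_pair hne.symm, ← hsum] at h12
    have := hk3 Δ' hΔ'
    omega
  have hG : ∀ Δ ∈ O, ∃ Γ ∈ O, SelfP G a Γ ∧
      (∀ x y z, y ∈ nbr G a Δ x → z ∈ nbr G a Δ x → y ≠ z → z ∈ nbr G a Γ y) ∧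
      ∃ μ, μ ≤ Δ.card ∧ (∀ y z, z ∈ nbr G a Γ y → (inb G a Δ y ∩ inb G a Δ z).card = μ) ∧
        Γ.card * μ = Δ.card * (Δ.card - 1) := fun Δ hΔ =>
    gamma htr hΔ (tight_orbit hn hcard hKG hpro ha hΔ (hmov Δ hΔ) (htight Δ hΔ))
      (le_trans (by norm_num) (hk3 Δ hΔ))
  have hne : ∀ Δ ∈ O, SelfP G a Δ → ∀ Γ ∈ O,
      (∀ x y z, y ∈ nbr G a Δ x → z ∈ nbr G a Δ x → y ≠ z → z ∈ nbr G a Γ y) → Γ ≠ Δ := by
    intro Δ hΔ hs Γ _ hg e
    subst e
    exact not_clique hn hcard htr hKG hpro ha hΔ hs (hmov _ hΔ) (htight _ hΔ) (hbig _ hΔ) hg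
  -- all three are self-paired
  have hall : ∀ Δ ∈ O, SelfP G a Δ := by
    intro Δ hΔ
    by_contra hns
    simp only [SelfP, not_forall] at hns
    obtain ⟨x, y, hxy, hyx⟩ := hns
    have hxy' : x ≠ y := fun e => nbr_irrefl (orbs_inv hΔ) (orbs_avoid hΔ).1 htr x (by rw [← e] at hxy; exact hxy)
    obtain ⟨Δ', hΔ', hrev⟩ := exists_colour htr a (x := y) (y := x) hxy'
    rw [← hO] at hΔ'
    have hd : Δ' ≠ Δ := fun e => hyx (e ▸ hrev)
    have hns' : ¬ SelfP G a Δ' := fun hs =>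
      hd (colour_unique htr hΔ' hΔ (hs _ _ hrev) hxy)
    obtain ⟨Γ, hΓ, hΓs, -, -⟩ := hG Δ hΔ
    obtain ⟨Γ', hΓ', hΓ's, hΓ'in, -⟩ := hG Γ hΓ
    have hΓΔ : Γ ≠ Δ := fun e => by
      subst e; exact hyx (hΓs _ _ hxy)
    have hΓΔ' : Γ ≠ Δ' := fun e => hns' (e ▸ hΓs)
    have hO3 : ({Δ, Δ', Γ} : Finset _) = O := Finset.eq_of_subset_of_card_le
      (by simp [Finset.insert_subset_iff, hΔ, hΔ', hΓ])
      (by rw [h3, Finset.card_insert_of_notMem (by simp [Ne.symm hd, Ne.symm hΓΔ]),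
        Finset.card_pair (Ne.symm hΓΔ')])
    have : Γ' ∈ ({Δ, Δ', Γ} : Finset _) := hO3 ▸ hΓ'
    simp only [Finset.mem_insert, Finset.mem_singleton] at this
    rcases this with e | e | e
    · subst e; exact hyx (hΓ's _ _ hxy)
    · exact hns' (e ▸ hΓ's)
    · exact hne Γ hΓ hΓs Γ' hΓ' hΓ'in e
  -- the largest one
  obtain ⟨Δ, hΔ, hmax⟩ := Finset.exists_max_image O Finset.card (Finset.card_pos.1 (by omega))
  obtain ⟨Γ, hΓ, -, hin, μ, hμk, hμ, hμeq⟩ := hG Δ hΔ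
  have hΓne := hne Δ hΔ (hall Δ hΔ) Γ hΓ hin
  have hk := hk3 Δ hΔ
  have hΓle := hmax Γ hΓ
  have htΔ := htight Δ hΔ
  have htΓ := htight Γ hΓ
  have hμlt : μ < Δ.card := by
    refine lt_of_le_of_ne hμk fun e => ?_
    rw [e, Nat.mul_comm] at hμeq
    have := Nat.eq_of_mul_eq_mul_left (by omega : 0 < Δ.card) hμeq
    omega
  have hμval : μ = Δ.card - 1 := by
    have h1 : Δ.card * (Δ.card - 1) ≤ Δ.card * μ := hμeq ▸ Nat.mul_le_mul_right μ hΓle
    have := Nat.le_of_mul_le_mul_left h1 (by omega)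
    omega
  have hΓcard : Γ.card = Δ.card := by
    rw [hμval] at hμeq
    exact Nat.eq_of_mul_eq_mul_right (by omega) hμeq
  have hsΔ := hall Δ hΔ
  have hinb : ∀ y, inb G a Δ y = nbr G a Δ y := fun y => by
    ext x; rw [mem_inb]; exact ⟨hsΔ x y, hsΔ y x⟩
  simp only [hinb] at hμ
  let R := nbr G a Δ
  have hNa : R a = Δ := nbr_self (orbs_inv hΔ)
  have hWa : nbr G a Γ a = Γ := nbr_self (orbs_inv hΓ)
  have hAw : ∀ w ∈ Γ, (Δ ∩ R w).card = μ := fun w hw => by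
    rw [← hNa]; exact hμ a w (by rw [hWa]; exact hw)
  have hRc : ∀ x, (R x).card = Δ.card := nbr_card htr (orbs_inv hΔ)
  have hout : ∀ w ∈ Γ, ∃ y, R w \ Δ = {y} := fun w hw => by
    rw [← Finset.card_eq_one, Finset.card_sdiff, hRc, hAw w hw]
    omega
  choose! Y hY using hout
  have hdec : ∀ w ∈ Γ, R w = (Δ ∩ R w) ∪ {Y w} ∧ Y w ∉ Δ := fun w hw => by
    rw [← hY w hw]
    refine ⟨by ext z; simp; tauto, ?_⟩
    have : Y w ∈ R w \ Δ := by rw [hY w hw]; simp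
    exact (Finset.mem_sdiff.1 this).2
  have hpair : ∀ w ∈ Γ, ∀ w' ∈ Γ, w ≠ w' → (Y w = Y w' ↔ Δ ∩ R w ≠ Δ ∩ R w') := by
    intro w hw w' hw' hww
    have hA : (Δ ∩ R w ∩ (Δ ∩ R w')).card + Δ.card ≥ 2 * μ := by
      have := Finset.card_union_add_card_inter (Δ ∩ R w) (Δ ∩ R w')
      have := Finset.card_le_card (Finset.union_subset (Finset.inter_subset_left (s₂ := R w))
        (Finset.inter_subset_left (s₂ := R w') : Δ ∩ R w' ⊆ Δ))
      rw [hAw w hw, hAw w' hw'] at *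
      omega
    obtain ⟨u, hu⟩ : (Δ ∩ R w ∩ (Δ ∩ R w')).Nonempty := Finset.card_pos.1 (by omega)
    simp only [Finset.mem_inter] at hu
    have hcom : (R w ∩ R w').card = μ :=
      hμ w w' (hin u w w' (hsΔ _ _ hu.1.2) (hsΔ _ _ hu.2.2) hww)
    constructor
    · intro e eA
      have e2 : R w = R w' := by rw [(hdec w hw).1, (hdec w' hw').1, e, eA]
      rw [e2, Finset.inter_self, hRc] at hcom
      omega
    · intro eA
      by_contra e
      have hsub : R w ∩ R w' ⊆ Δ ∩ R w ∩ (Δ ∩ R w') := by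
        intro z hz
        obtain ⟨h1, h2⟩ := Finset.mem_inter.1 hz
        by_cases hzΔ : z ∈ Δ
        · simp [hzΔ, h1, h2]
        · exfalso
          have z1 : z = Y w := Finset.mem_singleton.1 (hY w hw ▸ Finset.mem_sdiff.2 ⟨h1, hzΔ⟩)
          have z2 : z = Y w' := Finset.mem_singleton.1 (hY w' hw' ▸ Finset.mem_sdiff.2 ⟨h2, hzΔ⟩)
          exact e (z1.symm.trans z2)
      have h1 := Finset.card_le_card hsub
      have h2 : Δ ∩ R w ∩ (Δ ∩ R w') = Δ ∩ R w := Finset.eq_of_subset_of_card_le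
        Finset.inter_subset_left (by rw [hAw w hw]; omega)
      refine eA (Finset.eq_of_subset_of_card_le (Finset.inter_eq_left.1 h2) ?_)
      rw [hAw w hw, hAw w' hw']
  have hYc : ∀ w ∈ Γ, ∀ w' ∈ Γ, Y w = Y w' := by
    intro w1 h1 w2 h2
    by_contra e12
    have hA : ∀ w ∈ Γ, Δ ∩ R w = Δ ∩ R w1 := by
      intro w hw
      by_contra eA
      have hne1 : w ≠ w1 := fun e => eA (by rw [e])
      have e1 : Y w = Y w1 := (hpair w hw w1 h1 hne1).2 eA
      have hne2 : w ≠ w2 := fun e => e12 (by rw [← e1, e])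
      have eA2 : Δ ∩ R w = Δ ∩ R w2 := by
        by_contra h; exact e12 (e1.symm.trans ((hpair w hw w2 h2 hne2).2 h))
      have eA12 : Δ ∩ R w1 = Δ ∩ R w2 := by
        by_contra h; exact e12 ((hpair w1 h1 w2 h2 (fun e => e12 (by rw [e]))).2 h)
      exact eA (eA2.trans eA12.symm)
    obtain ⟨u, hu⟩ : (Δ ∩ R w1).Nonempty := Finset.card_pos.1 (by rw [hAw w1 h1]; omega)
    have hsub : insert a Γ ⊆ R u := by
      intro z hz
      rcases Finset.mem_insert.1 hz with rfl | hz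
      · exact hsΔ _ _ (by rw [← hNa] at hu; exact (Finset.mem_inter.1 hu).1)
      · exact hsΔ _ _ (Finset.mem_inter.1 (hA z hz ▸ hu)).2
    have := Finset.card_le_card hsub
    rw [Finset.card_insert_of_notMem (orbs_avoid hΓ).1, hRc] at this
    omega
  obtain ⟨w0, hw0⟩ := (orbs_avoid hΓ).2
  have hy_ne_a : Y w0 ≠ a := by
    intro e
    have : Y w0 ∈ R w0 := by rw [(hdec w0 hw0).1]; simp
    rw [e] at this
    have h1 : w0 ∈ Δ := by rw [← hNa]; exact hsΔ _ _ this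
    exact hΓne ((mem_orbs hΓ hw0).trans (mem_orbs hΔ h1).symm)
  have hyΔ := (hdec w0 hw0).2
  have hyΓ : Y w0 ∉ Γ := by
    intro h
    have : Y w0 ∈ R (Y w0) := by
      rw [(hdec _ h).1, hYc _ h w0 hw0]; simp
    exact nbr_irrefl (orbs_inv hΔ) (orbs_avoid hΔ).1 htr _ this
  have hD3 := orb_mem_erase (G := G) hy_ne_a
  have h1 : (orbF (stab G a) (Y w0)).card ≤ 1 := by
    refine Finset.card_le_one.2 fun z hz z' hz' => ?_
    have key : ∀ z ∈ orbF (stab G a) (Y w0), z = Y w0 := by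
      intro z hz
      obtain ⟨h, hh, rfl⟩ := mem_orbF.1 hz
      have hw : h w0 ∈ Γ := orbs_inv hΓ h hh w0 hw0
      have h1 : Y w0 ∈ R w0 := by rw [(hdec w0 hw0).1]; simp
      have h2 : h (Y w0) ∈ R (h w0) := (nbr_map (mem_stab.1 hh).1 _ _).2 h1
      have h3 : h (Y w0) ∉ Δ := fun e => hyΔ (by
        simpa using orbs_inv hΔ h⁻¹ ((stab G a).inv_mem hh) _ e)
      have := hY _ hw ▸ Finset.mem_sdiff.2 ⟨h2, h3⟩
      rw [Finset.mem_singleton] at this
      rw [this]; exact hYc _ hw _ hw0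
    rw [key z hz, key z' hz']
  have := hk3 _ hD3
  omega

end Cfsg.Agent.PronormalFix
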