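import Cfsg.Agent.Lib.PronormalFix.Slack

/-!
The three outcomes for `n = 2f + 2` (S3399).
-/

namespace Cfsg.Agent.PronormalFix

open Equiv Equiv.Perm

variable {Ω : Type} [Fintype Ω] [DecidableEq Ω]

/-- Two halves: the nonadjacency classes of a bipartite orbital graph. -/
def Halves (G : Subgroup (Perm Ω)) (f : ℕ) : Prop :=
  ∀ a : Ω, ∃ D1 D2 : Finset Ω, D1.card = f + 1 ∧ D2.card = f ∧ D1 ≠ D2 ∧
    (∀ z, z ≠ a → (orbF (stab G a) z = D1 ∨ orbF (stab G a) z = D2)) ∧
    (∀ d z, d ≠ a → z ≠ a → z ≠ d → (orbF (stab G a) d).card = f →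
      ((orbF (stab G a) z).card = f ↔ (orbF (stab G d) z).card = f))

lemma triangle_free_sum {G : Subgroup (Perm Ω)} (htr : IsTrans G) {a : Ω} {D1 : Finset Ω}
    (hi1 : ∀ h ∈ stab G a, ∀ z ∈ D1, h z ∈ D1) (hs : SelfP G a D1)
    (htri : ∀ x y z, y ∈ nbr G a D1 x → z ∈ nbr G a D1 x → z ∈ nbr G a D1 y → False)
    {x y : Ω} (hxy : y ∈ nbr G a D1 x) :
    2 * D1.card ≤ Fintype.card Ω ∧ (Fintype.card Ω ≤ 2 * D1.card →
      ∀ w, w ∉ nbr G a D1 x → w ∈ nbr G a D1 y) := by
  have hdis : Disjoint (nbr G a D1 x) (nbr G a D1 y) := by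
    rw [Finset.disjoint_left]
    intro z hz hz'
    exact htri x y z hxy hz hz'
  have hc : (nbr G a D1 x ∪ nbr G a D1 y).card = 2 * D1.card := by
    rw [Finset.card_union_of_disjoint hdis, nbr_card htr hi1, nbr_card htr hi1]; ring
  refine ⟨hc ▸ Finset.card_le_univ _, fun hle w hw => ?_⟩
  have : nbr G a D1 x ∪ nbr G a D1 y = Finset.univ :=
    Finset.eq_univ_of_card _ (le_antisymm (Finset.card_le_univ _) (hc ▸ hle))
  have hw' : w ∈ nbr G a D1 x ∪ nbr G a D1 y := this ▸ Finset.mem_univ w
  exact (Finset.mem_union.1 hw').resolve_left hw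

/-- Two suborbits, one tight, one with slack two: the graph is complete bipartite. -/
lemma two_orbits {n : ℕ} (hn : Bound n) (hcard : Fintype.card Ω = n)
    {G K : Subgroup (Perm Ω)} (htr : IsTrans G) (hKG : K ≤ G) (hpro : Pro G K)
    {a : Ω} (ha : a ∈ fixF K) {D1 D2 : Finset Ω} (hne : D1 ≠ D2)
    (hO : orbs (stab G a) (Finset.univ.erase a) = {D1, D2})
    (h1 : D1.card = 2 * (fixF K ∩ D1).card + 1) (h2 : D2.card = 2 * (fixF K ∩ D2).card + 2)
    (hn2 : n = 2 * (fixF K).card + 2) : Halves G (fixF K).card := by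
  classical
  set f := (fixF K).card with hfdef
  have hD1 : D1 ∈ orbs (stab G a) (Finset.univ.erase a) := by rw [hO]; simp
  have hD2 : D2 ∈ orbs (stab G a) (Finset.univ.erase a) := by rw [hO]; simp
  have hi1 := orbs_inv hD1
  have hi2 := orbs_inv hD2
  have hs := sum_orbs (M := stab G a) (orbF_stab_avoid (a := a)) Finset.univ
  have hf := sum_orbs (M := stab G a) (orbF_stab_avoid (a := a)) (fixF K)
  rw [hO, Finset.sum_pair hne] at hs hf
  simp only [Finset.univ_inter, Finset.card_erase_of_mem (Finset.mem_univ a), Finset.card_univ,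
    hcard] at hs
  rw [Finset.inter_erase, Finset.inter_univ, Finset.card_erase_of_mem ha] at hf
  have hfpos : 1 ≤ f := Finset.card_pos.2 ⟨a, ha⟩
  rw [← hfdef] at hf
  have hmov1 : ∃ y ∈ D1, y ∈ movF K := exists_moved_of_bound (by omega)
  have hk1 : 3 ≤ D1.card := by
    have := stab_orb_two_le hKG ha hD1 hmov1; omega
  have hirr1 := nbr_irrefl hi1 (orbs_avoid hD1).1 htr
  have hdi : ∀ x y, y ≠ x → y ∉ nbr G a D1 x → y ∈ nbr G a D2 x := by
    intro x y hxy h
    obtain ⟨D, hD, hy⟩ := exists_colour htr a hxy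
    rw [hO, Finset.mem_insert, Finset.mem_singleton] at hD
    rcases hD with rfl | rfl
    · exact absurd hy h
    · exact hy
  have hsp : SelfP G a D1 := by
    intro x y hxy
    by_contra h
    have hyx : x ≠ y := fun e => hirr1 x (by rw [← e] at hxy; exact hxy)
    have h' : x ∈ nbr G a D2 y := hdi y x hyx h
    have hsub : ∀ x' y', y' ∈ nbr G a D1 x' → x' ∈ nbr G a D2 y' := by
      intro x' y' h1'
      obtain ⟨g, hg, rfl, rfl⟩ := nbr_edge_trans hD1 hxy h1'
      exact (nbr_map hg y x).2 h'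
    have hsub2 : ∀ x' y', y' ∈ nbr G a D2 x' → x' ∈ nbr G a D1 y' := by
      intro x' y' h1'
      obtain ⟨g, hg, rfl, rfl⟩ := nbr_edge_trans hD2 h' h1'
      exact (nbr_map hg x y).2 hxy
    have e : inb G a D1 a = nbr G a D2 a := by
      ext u
      rw [mem_inb]
      exact ⟨hsub u a, hsub2 a u⟩
    have := congrArg Finset.card e
    rw [inb_card htr hi1, nbr_card htr hi2] at this
    omega
  obtain ⟨Γ, hΓ, hΓs, hin, μ, hμk, hμ, hμeq⟩ := gamma htr hD1
    (tight_orbit hn hcard hKG hpro ha hD1 hmov1 h1) (by omega)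
  have hΓ2 : Γ = D2 := by
    rw [hO, Finset.mem_insert, Finset.mem_singleton] at hΓ
    rcases hΓ with rfl | rfl
    · exact (not_clique hn hcard htr hKG hpro ha hD1 hsp hmov1 h1 (by omega) hin).elim
    · rfl
  subst Γ
  have htri : ∀ x y z, y ∈ nbr G a D1 x → z ∈ nbr G a D1 x → z ∈ nbr G a D1 y → False := by
    intro x y z hy hz hyz
    have hyne : y ≠ z := fun e => hirr1 y (by rw [← e] at hyz; exact hyz)
    exact hne (colour_unique htr hD1 hD2 hyz (hin x y z hy hz hyne))
  have hinb : ∀ y, inb G a D1 y = nbr G a D1 y := fun y => by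
    ext x; rw [mem_inb]; exact ⟨hsp x y, hsp y x⟩
  simp only [hinb] at hμ
  let R := nbr G a D1
  have hRa : R a = D1 := nbr_self hi1
  have hRc : ∀ x, (R x).card = D1.card := nbr_card htr hi1
  have hμ' : ∀ y z, y ≠ z → z ∉ R y → (R y ∩ R z).card = μ := fun y z hne h =>
    hμ y z (hdi y z (Ne.symm hne) h)
  obtain ⟨y0, hy0⟩ := (orbs_avoid hD1).2
  have hy0R : y0 ∈ R a := by rw [hRa]; exact hy0
  obtain ⟨w0, hw0⟩ := (orbs_avoid hD2).2
  have hw0R : w0 ∉ R a := by
    rw [hRa]; exact fun h => hne ((mem_orbs hD1 h).trans (mem_orbs hD2 hw0).symm)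
  have hw0a : a ≠ w0 := fun e => (orbs_avoid hD2).1 (e ▸ hw0)
  have hμfull : μ = D1.card := by
    rcases Nat.lt_or_ge (2 * D1.card) n with hlt | hge
    · -- sparse case: count edges from `F` to the moved points
      by_contra hμne
      have hFout : ∀ z ∈ fixF K, (R z ∩ movF K).card = (fixF K ∩ D1).card + 1 := by
        intro z hz
        obtain ⟨g, hg, rfl⟩ := htr a z
        obtain ⟨m, hm, hma, hmF⟩ := hpro.exists_fix_map hKG ha hg hz
        rw [← hma]
        have : R (m a) ∩ movF K = (R a ∩ movF K).image m := by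
          ext u
          obtain ⟨v, rfl⟩ := m.surjective u
          simp only [R, Finset.mem_inter, nbr_image hm, m.injective.eq_iff, exists_eq_right,
            Finset.mem_image, ← not_mem_fixF, hmF]
        rw [this, Finset.card_image_of_injective _ m.injective, hRa, movF_eq_compl]
        have e := Finset.card_inter_add_card_sdiff D1 (fixF K)
        rw [Finset.sdiff_eq_inter_compl, Finset.inter_comm D1 (fixF K)] at e
        omega
      obtain ⟨x, hx, hxbig⟩ : ∃ x ∈ movF K, (fixF K ∩ D1).card + 1 ≤ (fixF K ∩ R x).card := by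
        by_contra hc
        push Not at hc
        have e1 : ∑ z ∈ fixF K, (R z ∩ movF K).card = ∑ x ∈ movF K, (fixF K ∩ R x).card := by
          have l : ∀ z, (R z ∩ movF K).card = ∑ x ∈ movF K, if x ∈ R z then 1 else 0 := fun z => by
            rw [← Finset.card_filter]; congr 1; ext u; simp [and_comm]
          have r : ∀ x, (fixF K ∩ R x).card = ∑ z ∈ fixF K, if x ∈ R z then 1 else 0 := fun x => by
            rw [← Finset.card_filter]; congr 1; ext u
            simp only [Finset.mem_inter, Finset.mem_filter]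
            exact and_congr_right fun _ => ⟨hsp x u, hsp u x⟩
          simp only [l, r]
          exact Finset.sum_comm
        rw [Finset.sum_congr rfl hFout, Finset.sum_const, smul_eq_mul] at e1
        have e2 : ∑ x ∈ movF K, (fixF K ∩ R x).card ≤ (movF K).card * (fixF K ∩ D1).card := by
          rw [← smul_eq_mul, ← Finset.sum_const]
          exact Finset.sum_le_sum fun x hx => Nat.lt_succ_iff.1 (hc x hx)
        have hm := card_fix_add_mov K
        rw [hcard] at hm
        have hm' : (movF K).card = f + 2 := by omega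
        rw [← e1, hm', ← hfdef] at e2
        nlinarith
      obtain ⟨k, hk, hkx⟩ := mem_movF.1 hx
      have hsub : fixF K ∩ R x ⊆ R x ∩ R (k x) := by
        intro u hu
        obtain ⟨hu1, hu2⟩ := Finset.mem_inter.1 hu
        have := (nbr_map (a := a) (Δ := D1) (hKG hk) x u).2 hu2
        rw [mem_fixF.1 hu1 k hk] at this
        exact Finset.mem_inter.2 ⟨hu2, this⟩
      have hle := Finset.card_le_card hsub
      obtain ⟨u, hu⟩ : (R x ∩ R (k x)).Nonempty := Finset.card_pos.1 (by omega)
      obtain ⟨hu1, hu2⟩ := Finset.mem_inter.1 hu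
      rw [hμ' x (k x) (Ne.symm hkx) (fun e => htri x u (k x) hu1 e (hsp _ _ hu2))] at hle
      obtain ⟨v, hv1, hv2⟩ : ∃ v ∈ R a, v ∉ R w0 := by
        by_contra hc
        push Not at hc
        have : R a ⊆ R a ∩ R w0 := fun v hv => Finset.mem_inter.2 ⟨hv, hc v hv⟩
        have := Finset.card_le_card this
        rw [hμ' a w0 hw0a hw0R, hRc] at this
        omega
      have hvw : v ≠ w0 := fun e => hw0R (e ▸ hv1)
      have hμv := hμ' v w0 hvw (fun e => hv2 (hsp _ _ e))
      have hμa := hμ' a w0 hw0a hw0R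
      have hdis : Disjoint (R v ∩ R w0) (R a ∩ R w0) := by
        rw [Finset.disjoint_left]
        intro u hu hu'
        exact htri a v u hv1 (Finset.mem_inter.1 hu').1 (Finset.mem_inter.1 hu).1
      have := Finset.card_le_card (Finset.union_subset (Finset.inter_subset_right (s₁ := R v))
        (Finset.inter_subset_right (s₁ := R a) : R a ∩ R w0 ⊆ R w0))
      rw [Finset.card_union_of_disjoint hdis, hμv, hμa, hRc] at this
      omega
    · rw [← hμ' a w0 hw0a hw0R, ← hRc a]
      congr 1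
      rw [Finset.inter_eq_left]
      intro y hy
      exact hsp _ _ ((triangle_free_sum htr hi1 hsp htri hy).2 (by rw [hcard]; exact hge) w0 hw0R)
  have hD2card : D2.card + 1 = D1.card := by
    rw [hμfull, Nat.mul_comm] at hμeq
    have := Nat.eq_of_mul_eq_mul_left (by omega : 0 < D1.card) hμeq
    omega
  have hc1 : D1.card = f + 1 := by omega
  have hc2 : D2.card = f := by omega
  have hRfull : ∀ y z, y ≠ z → z ∉ R y → R y = R z := fun y z hyz h => by
    have e := hμ' y z hyz h
    rw [hμfull] at e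
    exact (Finset.eq_of_subset_of_card_le Finset.inter_subset_left (by rw [e, hRc])).symm.trans
      (Finset.eq_of_subset_of_card_le Finset.inter_subset_right (by rw [e, hRc]))
  -- transport to every point
  have horb : ∀ x z, z ≠ x → ((orbF (stab G x) z).card = f ↔ z ∉ R x) := by
    intro x z hzx
    obtain ⟨g, hg, rfl⟩ := htr a x
    obtain ⟨z, rfl⟩ := g.surjective z
    have hza : z ≠ a := fun e => hzx (by rw [e])
    have eimg : orbF (stab G (g a)) (g z) = (orbF (stab G a) z).image g := by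
      ext u
      obtain ⟨v, rfl⟩ := g.surjective u
      simp only [Finset.mem_image, g.injective.eq_iff, exists_eq_right, mem_orbF]
      constructor
      · rintro ⟨h, hh, e⟩
        refine ⟨g⁻¹ * h * g, mem_stab.2 ⟨G.mul_mem (G.mul_mem (G.inv_mem hg) (mem_stab.1 hh).1) hg, ?_⟩,
          by simp [Perm.mul_apply, e]⟩
        simp [Perm.mul_apply, (mem_stab.1 hh).2]
      · rintro ⟨h, hh, e⟩
        refine ⟨g * h * g⁻¹, mem_stab.2 ⟨G.mul_mem (G.mul_mem hg (mem_stab.1 hh).1) (G.inv_mem hg), ?_⟩,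
          by simp [Perm.mul_apply, e]⟩
        simp [Perm.mul_apply, (mem_stab.1 hh).2]
    rw [eimg, Finset.card_image_of_injective _ g.injective]
    simp only [R, nbr_map hg]
    rw [nbr_self hi1]
    have hz' := orb_mem_erase (G := G) hza
    rw [hO, Finset.mem_insert, Finset.mem_singleton] at hz'
    rcases hz' with e | e
    · exact ⟨fun h => by rw [e, hc1] at h; omega, fun h => absurd (e ▸ self_mem_orbF _ z) h⟩
    · exact ⟨fun _ h => hne ((mem_orbs hD1 h).trans e), fun _ => by rw [e, hc2]⟩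
  intro x
  obtain ⟨g, hg, rfl⟩ := htr a x
  refine ⟨D1.image g, D2.image g, ?_, ?_, ?_, ?_, ?_⟩
  · rw [Finset.card_image_of_injective _ g.injective, hc1]
  · rw [Finset.card_image_of_injective _ g.injective, hc2]
  · exact fun e => hne (Finset.image_injective g.injective e)
  · intro z hz
    obtain ⟨D, hD, hzD⟩ := exists_colour htr a hz
    rw [nbr_eq_image (orbs_inv hD) hg] at hzD
    obtain ⟨v, hv, rfl⟩ := Finset.mem_image.1 hzD
    have e : orbF (stab G (g a)) (g v) = D.image g := by
      ext u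
      obtain ⟨v', rfl⟩ := g.surjective u
      rw [mem_orbs hD hv]
      simp only [Finset.mem_image, g.injective.eq_iff, exists_eq_right, mem_orbF]
      constructor
      · rintro ⟨h, hh, e⟩
        refine ⟨g⁻¹ * h * g, mem_stab.2 ⟨G.mul_mem (G.mul_mem (G.inv_mem hg) (mem_stab.1 hh).1) hg, ?_⟩,
          by simp [Perm.mul_apply, e]⟩
        simp [Perm.mul_apply, (mem_stab.1 hh).2]
      · rintro ⟨h, hh, e⟩
        refine ⟨g * h * g⁻¹, mem_stab.2 ⟨G.mul_mem (G.mul_mem hg (mem_stab.1 hh).1) (G.inv_mem hg), ?_⟩,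
          by simp [Perm.mul_apply, e]⟩
        simp [Perm.mul_apply, (mem_stab.1 hh).2]
    rw [hO, Finset.mem_insert, Finset.mem_singleton] at hD
    rcases hD with rfl | rfl
    · exact Or.inl e
    · exact Or.inr e
  · intro d z hd hz hzd hdc
    have hdR := (horb (g a) d hd).1 hdc
    rw [horb (g a) z hz, horb d z hzd, hRfull (g a) d (Ne.symm hd) hdR]

/-- The outcomes when `n = 2f + 2`. -/
lemma slack2 {n : ℕ} (hn : Bound n) (hcard : Fintype.card Ω = n)
    {G K : Subgroup (Perm Ω)} (htr : IsTrans G) (hKG : K ≤ G) (hK : K ≠ ⊥) (hpro : Pro G K)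
    (hn2 : n = 2 * (fixF K).card + 2) (hf : 1 ≤ (fixF K).card) :
    Tr2 G ∨ (∀ a : Ω, ∃ b, b ≠ a ∧ ∀ g ∈ stab G a, g b = b) ∨ Halves G (fixF K).card := by
  classical
  obtain ⟨a, ha⟩ := Finset.card_pos.1 hf
  by_cases htriv : ∃ b, b ≠ a ∧ orbF (stab G a) b ⊆ fixF K
  · obtain ⟨b, hb, hsub⟩ := htriv
    obtain ⟨B, hblk, haB, hbB, hB2, -, hle⟩ := trivial_suborbit hn hcard htr hKG hpro hK ha hb hsub
    have hB : ({a, b} : Finset Ω) = B := Finset.eq_of_subset_of_card_le
      (by simp [Finset.insert_subset_iff, haB, hbB]) (by rw [Finset.card_pair (Ne.symm hb)]; omega)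
    refine Or.inr (Or.inl fun x => ?_)
    obtain ⟨g, hg, rfl⟩ := htr a x
    refine ⟨g b, fun e => hb (g.injective e), fun h hh => ?_⟩
    have hh' : g⁻¹ * h * g ∈ stab G a := mem_stab.2
      ⟨G.mul_mem (G.mul_mem (G.inv_mem hg) (mem_stab.1 hh).1) hg,
        by simp [Perm.mul_apply, (mem_stab.1 hh).2]⟩
    have := hblk _ (mem_stab.1 hh').1 a haB (by rw [(mem_stab.1 hh').2]; exact haB) b hbB
    rw [← hB, Finset.mem_insert, Finset.mem_singleton] at this
    rcases this with e | e
    · exact absurd ((g⁻¹ * h * g).injective (e.trans (mem_stab.1 hh').2.symm)) hb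
    · simpa [Perm.mul_apply, Equiv.symm_apply_eq] using e
  push Not at htriv
  have hcount := suborbit_count hn hcard hKG hpro ha htriv
  have hbound := suborbit_bound hn hcard hKG hpro ha htriv
  set O := orbs (stab G a) (Finset.univ.erase a) with hO
  have hs := sum_orbs (M := stab G a) (orbF_stab_avoid (a := a)) Finset.univ
  have hfs := sum_orbs (M := stab G a) (orbF_stab_avoid (a := a)) (fixF K)
  simp only [Finset.univ_inter, Finset.card_erase_of_mem (Finset.mem_univ a), Finset.card_univ,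
    hcard, ← hO] at hs
  rw [Finset.inter_erase, Finset.inter_univ, Finset.card_erase_of_mem ha, ← hO] at hfs
  rcases Nat.lt_or_ge O.card 2 with ht | ht
  · refine Or.inl (tr2_of_stab htr (a := a) fun b c hb hc => ?_)
    rw [Finset.card_le_one.1 (Nat.lt_succ_iff.1 ht) _ (orb_mem_erase hb) _ (orb_mem_erase hc)]
    exact self_mem_orbF _ c
  rcases Nat.lt_or_ge O.card 3 with ht' | ht'
  · obtain ⟨D1, D2, hne, hOeq⟩ := Finset.card_eq_two.1 (le_antisymm (Nat.lt_succ_iff.1 ht') ht : O.card = 2)
    rw [hOeq, Finset.sum_pair hne] at hs hfs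
    have b1 := hbound D1 (by rw [hOeq]; simp)
    have b2 := hbound D2 (by rw [hOeq]; simp)
    refine Or.inr (Or.inr ?_)
    rcases Nat.lt_or_ge D1.card (2 * (fixF K ∩ D1).card + 2) with e | e
    · exact two_orbits hn hcard htr hKG hpro ha hne hOeq (by omega) (by omega) hn2
    · exact two_orbits hn hcard htr hKG hpro ha (Ne.symm hne) (hOeq.trans (Finset.pair_comm D1 D2))
        (by omega) (by omega) hn2
  · exfalso
    have h3 : O.card = 3 := by omega
    refine no_three hn hcard htr hKG hpro ha h3 fun Δ hΔ => le_antisymm ?_ (hbound Δ hΔ)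
    have h1 : ∑ D ∈ O, (2 * (fixF K ∩ D).card + 1) = ∑ D ∈ O, D.card := by
      rw [Finset.sum_add_distrib, ← Finset.mul_sum, ← hfs, ← hs, Finset.sum_const, smul_eq_mul, mul_one]
      omega
    exact ((Finset.sum_eq_sum_iff_of_le fun D hD => hbound D hD).1 h1 Δ hΔ).ge

end Cfsg.Agent.PronormalFix
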